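import Cfsg.Agent.Lib.Schur.RootLift

/-!
Lifting a chain of abelian root subgroups through a central extension.

* `lift_comm_of_fpf`, `lift_comm_of_generated`: preimages of commuting subgroups commute;
* `exists_error`: the biadditive error between the commutator of two lifts and a lifted subgroup;
* `rel_of_fpf`: it vanishes when a torus element fixes one subgroup and moves the other;
* `lift_of_rel`: relations between the lifts of the members make the lift of the chain.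
-/

set_option autoImplicit false

namespace Cfsg.Agent.Schur.ChainLift

open Subgroup
open Cfsg.Agent.Schur.RootLift
open scoped commutatorElement

variable {E M : Type*} [Group E] [Group M] {π : E →* M}

theorem cen (hz : π.ker ≤ center E) {z : E} (h : π z = 1) (g : E) : g * z = z * g :=
  mem_center_iff.1 (hz h) g

/-- Conjugation of a lift. -/
theorem isLift_conj {X : Subgroup M} {S : Subgroup E} (h : IsLift π X S) (e : E) :
    IsLift π (X.map (MulAut.conj (π e)).toMonoidHom) (S.map (MulAut.conj e).toMonoidHom) := by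
  refine ⟨?_, eq_bot_iff.2 ?_⟩
  · rw [← h.map_eq, Subgroup.map_map, Subgroup.map_map]
    congr 1
    ext x
    simp
  · rintro _ ⟨⟨s, hs, rfl⟩, hk⟩
    have hk' : π (e * s * e⁻¹) = 1 := hk
    rw [map_mul, map_mul, map_inv, conj_eq_one_iff] at hk'
    rw [h.eq_one hs hk', map_one]
    exact Subgroup.one_mem _

/-- Commuting preimages, transported by conjugation. -/
theorem lift_comm_conj {A B A' B' : Subgroup M} (e : E)
    (hA : ∀ x ∈ A', (π e)⁻¹ * x * π e ∈ A) (hB : ∀ x ∈ B', (π e)⁻¹ * x * π e ∈ B)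
    (h : ∀ a b, π a ∈ A → π b ∈ B → ⁅a, b⁆ = 1) :
    ∀ a b, π a ∈ A' → π b ∈ B' → ⁅a, b⁆ = 1 := by
  intro a b ha hb
  have h1 := h (e⁻¹ * a * e) (e⁻¹ * b * e) (by simpa using hA _ ha) (by simpa using hB _ hb)
  calc ⁅a, b⁆ = e * ⁅e⁻¹ * a * e, e⁻¹ * b * e⁆ * e⁻¹ := by simp only [commutatorElement_def]; group
    _ = 1 := by rw [h1, mul_one, mul_inv_cancel]

/-- Preimages commute if a torus element fixes one subgroup and moves the other without fixed points. -/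
theorem lift_comm_of_fpf (hz : π.ker ≤ center E) {A B : Subgroup M} (hB : B ≤ π.range)
    (hcomm : ∀ x ∈ A, ∀ y ∈ B, Commute x y) (h : E) (hfix : ∀ x ∈ A, π h * x * (π h)⁻¹ = x)
    (hsur : ∀ y ∈ B, ∃ y' ∈ B, y = ⁅π h, y'⁆) :
    ∀ a b, π a ∈ A → π b ∈ B → ⁅a, b⁆ = 1 := by
  intro a b ha hb
  obtain ⟨y', hy', e⟩ := hsur _ hb
  obtain ⟨w, rfl⟩ := hB hy'
  have hk : ∀ y, π y ∈ B → π ⁅a, y⁆ = 1 := fun y hy => by
    rw [map_commutatorElement, commutatorElement_eq_one_iff_commute]; exact hcomm _ ha _ hy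
  have hb' : π b = π (h * w * h⁻¹ * w⁻¹) := by
    rw [e, commutatorElement_def]; simp [map_mul]
  have h1 : ⁅a, h * w * h⁻¹⁆ = ⁅a, w⁆ := by
    calc ⁅a, h * w * h⁻¹⁆ = ⁅h * a * h⁻¹, h * w * h⁻¹⁆ :=
          commutatorElement_congr hz (by rw [map_mul, map_mul, map_inv, hfix _ ha]) rfl
      _ = h * ⁅a, w⁆ * h⁻¹ := by simp only [commutatorElement_def]; group
      _ = ⁅a, w⁆ := by rw [cen hz (hk w hy'), mul_inv_cancel_right]
  calc ⁅a, b⁆ = ⁅a, h * w * h⁻¹ * w⁻¹⁆ := commutatorElement_congr hz rfl hb'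
    _ = ⁅a, h * w * h⁻¹⁆ * ((h * w * h⁻¹) * ⁅a, w⁻¹⁆ * (h * w * h⁻¹)⁻¹) := by
        simp only [commutatorElement_def]; group
    _ = ⁅a, w⁆ * ⁅a, w⁻¹⁆ := by
        rw [cen hz (hk w⁻¹ (by rw [map_inv]; exact B.inv_mem hy')), mul_inv_cancel_right, h1]
    _ = 1 := by
        rw [show ⁅a, w⁻¹⁆ = w⁻¹ * ⁅a, w⁆⁻¹ * w by simp only [commutatorElement_def]; group,
          cen hz (show π ⁅a, w⁆⁻¹ = 1 by rw [map_inv, hk w hy', inv_one]) w⁻¹]
        group

/-- Preimages commute with those of a subgroup generated by commutators of two commuting ones. -/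
theorem lift_comm_of_generated (hz : π.ker ≤ center E) {A B C Z : Subgroup M} (hA : A ≤ π.range)
    (hB : B ≤ π.range) (hC : C ≤ closure {c | ∃ x ∈ A, ∃ y ∈ B, c = ⁅x, y⁆})
    (h1 : ∀ z a, π z ∈ Z → π a ∈ A → ⁅z, a⁆ = 1) (h2 : ∀ z b, π z ∈ Z → π b ∈ B → ⁅z, b⁆ = 1) :
    ∀ z c, π z ∈ Z → π c ∈ C → ⁅z, c⁆ = 1 := by
  intro z c hzm hc
  have hle : C ≤ (centralizer ({z} : Set E)).map π := by
    refine hC.trans ((closure_le _).2 ?_)
    rintro _ ⟨x, hx, y, hy, rfl⟩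
    obtain ⟨a, rfl⟩ := hA hx
    obtain ⟨b, rfl⟩ := hB hy
    have ha : a ∈ centralizer ({z} : Set E) := mem_centralizer_singleton_iff.2
      (commutatorElement_eq_one_iff_mul_comm.1 (h1 z a hzm hx)).symm
    have hb : b ∈ centralizer ({z} : Set E) := mem_centralizer_singleton_iff.2
      (commutatorElement_eq_one_iff_mul_comm.1 (h2 z b hzm hy)).symm
    refine ⟨⁅a, b⁆, ?_, map_commutatorElement π a b⟩
    rw [commutatorElement_def]
    exact mul_mem (mul_mem (mul_mem ha hb) (inv_mem ha)) (inv_mem hb)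
  obtain ⟨w, hw, e⟩ := hle hc
  rw [commutatorElement_congr hz rfl e.symm, commutatorElement_eq_one_iff_mul_comm]
  exact (mem_centralizer_singleton_iff.1 hw).symm

/-- A lift from a fixed-point-free element when the preimages commute. -/
theorem exists_lift_abelian (hz : π.ker ≤ center E) {X : Subgroup M} [Finite X] (hX : X ≤ π.range)
    (hcomm : ∀ a b, π a ∈ X → π b ∈ X → ⁅a, b⁆ = 1) {h : E}
    (hhX : ∀ x ∈ X, π h * x * (π h)⁻¹ ∈ X) (hfpf : ∀ x ∈ X, π h * x * (π h)⁻¹ = x → x = 1) :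
    ∃ S : Subgroup E, IsLift π X S ∧ ∀ g : E, (∀ x ∈ X, π g * x * (π g)⁻¹ ∈ X) →
      π g * π h = π h * π g → ∀ s ∈ S, g * s * g⁻¹ ∈ S := by
  have hbot : ∀ g : E, ∀ t ∈ (⊥ : Subgroup E), g * t * g⁻¹ ∈ (⊥ : Subgroup E) := fun g t ht => by
    rw [mem_bot.1 ht, mul_one, mul_inv_cancel]; exact one_mem _
  obtain ⟨S, hS, -, hn⟩ := exists_lift π hz hX bot_le isLift_bot
    (fun a b ha hb => mem_bot.2 (hcomm a b ha hb)) hhX (hbot h)
    (fun x hx hd => mem_bot.2 (hfpf x hx (by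
      rw [mem_bot, commutatorElement_eq_one_iff_mul_comm] at hd
      rw [hd, mul_inv_cancel_right])))
  exact ⟨S, hS, fun g hg hgh => hn g hg (hbot g) hgh⟩

/-- The error of the commutators of two lifts relative to a lifted subgroup. -/
theorem exists_error (hz : π.ker ≤ center E) {Wm : Subgroup M} {W S T : Subgroup E} (hW : IsLift π Wm W)
    (hcomm : ∀ s ∈ S, ∀ t ∈ T, π ⁅s, t⁆ ∈ Wm)
    (hnS : ∀ s ∈ S, ∀ w ∈ W, s * w * s⁻¹ ∈ W) (hnT : ∀ t ∈ T, ∀ w ∈ W, t * w * t⁻¹ ∈ W) :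
    ∃ k : E → E → E,
      (∀ s ∈ S, ∀ t ∈ T, k s t ∈ π.ker ∧ ∃ w ∈ W, ⁅s, t⁆ = k s t * w) ∧
      (∀ s ∈ S, ∀ s' ∈ S, ∀ t ∈ T, k (s * s') t = k s t * k s' t) ∧
      (∀ s ∈ S, ∀ t ∈ T, ∀ t' ∈ T, k s (t * t') = k s t * k s t') ∧
      (∀ g : E, (∀ s ∈ S, g * s * g⁻¹ ∈ S) → (∀ t ∈ T, g * t * g⁻¹ ∈ T) → (∀ w ∈ W, g * w * g⁻¹ ∈ W) →
        ∀ s ∈ S, ∀ t ∈ T, k (g * s * g⁻¹) (g * t * g⁻¹) = k s t) := by
  have hex : ∀ s ∈ S, ∀ t ∈ T, ∃ k ∈ π.ker, ∃ w ∈ W, ⁅s, t⁆ = k * w := by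
    intro s hs t ht
    obtain ⟨w, hw, e⟩ := hW.exists_mem (hcomm s hs t ht)
    exact ⟨⁅s, t⁆ * w⁻¹, by rw [MonoidHom.mem_ker, map_mul, map_inv, e, mul_inv_cancel], w, hw, by group⟩
  choose! k hk w hw hkw using hex
  have uniq : ∀ s ∈ S, ∀ t ∈ T, ∀ k' ∈ π.ker, ∀ w' ∈ W, ⁅s, t⁆ = k' * w' → k s t = k' := by
    intro s hs t ht k' hk' w' hw' e
    have h1 := (hkw s hs t ht).symm.trans e
    have h2 : w s t = w' := hW.inj (hw s hs t ht) hw' (by
      have := congrArg π h1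
      rwa [map_mul, map_mul, MonoidHom.mem_ker.1 (hk s hs t ht), MonoidHom.mem_ker.1 hk',
        one_mul, one_mul] at this)
    rw [h2] at h1
    exact mul_right_cancel h1
  refine ⟨k, fun s hs t ht => ⟨hk s hs t ht, w s t, hw s hs t ht, hkw s hs t ht⟩, ?_, ?_, ?_⟩
  · intro s hs s' hs' t ht
    refine uniq _ (S.mul_mem hs hs') t ht _ (mul_mem (hk s hs t ht) (hk s' hs' t ht))
      ((s * w s' t * s⁻¹) * w s t) (mul_mem (hnS s hs _ (hw s' hs' t ht)) (hw s hs t ht)) ?_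
    calc ⁅s * s', t⁆ = s * ⁅s', t⁆ * s⁻¹ * ⁅s, t⁆ := by simp only [commutatorElement_def]; group
      _ = (s * k s' t) * (w s' t * s⁻¹ * (k s t * w s t)) := by rw [hkw s' hs' t ht, hkw s hs t ht]; group
      _ = k s' t * ((s * w s' t * s⁻¹) * k s t) * w s t := by rw [cen hz (hk s' hs' t ht)]; group
      _ = (k s' t * k s t) * ((s * w s' t * s⁻¹) * w s t) := by rw [cen hz (hk s hs t ht)]; group
      _ = _ := by rw [cen hz (hk s hs t ht)]
  · intro s hs t ht t' ht'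
    refine uniq s hs _ (T.mul_mem ht ht') _ (mul_mem (hk s hs t ht) (hk s hs t' ht'))
      (w s t * (t * w s t' * t⁻¹)) (mul_mem (hw s hs t ht) (hnT t ht _ (hw s hs t' ht'))) ?_
    calc ⁅s, t * t'⁆ = ⁅s, t⁆ * t * ⁅s, t'⁆ * t⁻¹ := by simp only [commutatorElement_def]; group
      _ = k s t * w s t * t * (k s t' * w s t') * t⁻¹ := by rw [hkw s hs t ht, hkw s hs t' ht']
      _ = k s t * ((w s t * t) * k s t') * (w s t' * t⁻¹) := by group
      _ = _ := by rw [cen hz (hk s hs t' ht')]; group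
  · intro g hgS hgT hgW s hs t ht
    refine uniq _ (hgS s hs) _ (hgT t ht) _ (hk s hs t ht) (g * w s t * g⁻¹) (hgW _ (hw s hs t ht)) ?_
    calc ⁅g * s * g⁻¹, g * t * g⁻¹⁆ = g * ⁅s, t⁆ * g⁻¹ := by simp only [commutatorElement_def]; group
      _ = (g * k s t) * (w s t * g⁻¹) := by rw [hkw s hs t ht]; group
      _ = _ := by rw [cen hz (hk s hs t ht)]; group

/-- The error vanishes when a torus element fixes the first lift and moves the second. -/
theorem rel_of_fpf (hz : π.ker ≤ center E) {X Y Wm : Subgroup M} {W S T : Subgroup E}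
    (hS : IsLift π X S) (hT : IsLift π Y T) (hW : IsLift π Wm W)
    (hcomm : ∀ x ∈ X, ∀ y ∈ Y, ⁅x, y⁆ ∈ Wm)
    (hnS : ∀ s ∈ S, ∀ w ∈ W, s * w * s⁻¹ ∈ W) (hnT : ∀ t ∈ T, ∀ w ∈ W, t * w * t⁻¹ ∈ W)
    {h : E} (hhS : ∀ s ∈ S, h * s * h⁻¹ ∈ S) (hhT : ∀ t ∈ T, h * t * h⁻¹ ∈ T)
    (hhW : ∀ w ∈ W, h * w * h⁻¹ ∈ W)
    (hfix : ∀ x ∈ X, π h * x * (π h)⁻¹ = x) (hsur : ∀ y ∈ Y, ∃ y' ∈ Y, y = ⁅π h, y'⁆) :
    ∀ s ∈ S, ∀ t ∈ T, ⁅s, t⁆ ∈ W := by
  obtain ⟨k, hk, -, addr, hinv⟩ := exists_error hz hW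
    (fun s hs t ht => by rw [map_commutatorElement]; exact hcomm _ (hS.map_mem hs) _ (hT.map_mem ht)) hnS hnT
  intro s hs t ht
  obtain ⟨y', hy', e⟩ := hsur _ (hT.map_mem ht)
  obtain ⟨t', ht', rfl⟩ := hT.exists_mem hy'
  have et : t = (h * t' * h⁻¹) * t'⁻¹ := hT.inj ht (T.mul_mem (hhT t' ht') (T.inv_mem ht')) (by
    rw [e, commutatorElement_def]; simp [map_mul])
  have hs' : h * s * h⁻¹ = s := hS.inj (hhS s hs) hs (by
    rw [map_mul, map_mul, map_inv]; exact hfix _ (hS.map_mem hs))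
  have h1 : k s (h * t' * h⁻¹) = k s t' := by
    have := hinv h hhS hhT hhW s hs t' ht'
    rwa [hs'] at this
  have h2 : k s t = 1 := by
    have h3 : k s (h * t' * h⁻¹) = k s t * k s t' := by
      rw [← addr s hs t ht t' ht', et, inv_mul_cancel_right]
    rw [h1] at h3
    exact mul_eq_right.1 h3.symm
  obtain ⟨-, w, hw, e'⟩ := hk s hs t ht
  rw [e', h2, one_mul]
  exact hw

variable (X : ℕ → Subgroup M) (S : ℕ → Subgroup E)

theorem map_V {a b : ℕ} (hS : ∀ c, a ≤ c → c < b → IsLift π (X c) (S c)) :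
    (V S a b).map π = V X a b := by
  simp only [V, Subgroup.map_iSup]
  exact iSup_congr fun c => iSup_congr fun hc => (hS c hc.1 hc.2).map_eq

/-- Lifts with the relations of an interval generate a lift of it. -/
theorem lift_of_rel (lo hi : ℕ) (hS : ∀ c, lo ≤ c → c < hi → IsLift π (X c) (S c))
    (hrel : ∀ a b, lo ≤ a → a < b → b < hi → ∀ x ∈ S a, ∀ y ∈ S b, ⁅x, y⁆ ∈ V S (a + 1) b)
    (hdir : ∀ a, lo ≤ a → a < hi → X a ⊓ V X (a + 1) hi = ⊥) :
    IsLift π (V X lo hi) (V S lo hi) := by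
  suffices h : ∀ d a, lo ≤ a → hi - a ≤ d → V S a hi ⊓ π.ker = ⊥ from
    ⟨map_V X S hS, h (hi - lo) lo le_rfl le_rfl⟩
  intro d
  induction d with
  | zero => intro a _ hd; rw [V_empty S (by omega), bot_inf_eq]
  | succ d ih =>
    intro a ha hd
    by_cases hab : hi ≤ a
    · rw [V_empty S hab, bot_inf_eq]
    rw [eq_bot_iff]
    rintro z ⟨hz1, hz2⟩
    obtain ⟨x, hx, t, ht, rfl⟩ := ordered S (by omega) (fun c h1 h2 => hrel a c ha h1 h2) hz1
    have hT := ih (a + 1) (by omega) (by omega)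
    have hz2' : π x * π t = 1 := by rw [← map_mul]; exact hz2
    have hmemV : π t ∈ V X (a + 1) hi :=
      map_V X S (a := a + 1) (b := hi) (fun c h1 h2 => hS c (by omega) h2) ▸ mem_map_of_mem π ht
    have h1 : π x ∈ X a ⊓ V X (a + 1) hi :=
      ⟨(hS a ha (by omega)).map_mem hx, eq_inv_of_mul_eq_one_left hz2' ▸ (V X (a + 1) hi).inv_mem hmemV⟩
    rw [hdir a ha (by omega), mem_bot] at h1
    rw [h1, one_mul] at hz2'
    rw [(hS a ha (by omega)).eq_one hx h1, show t = 1 from mem_bot.1 (hT ▸ ⟨ht, hz2'⟩), one_mul]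
    exact one_mem _

end Cfsg.Agent.Schur.ChainLift
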