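import Mathlib.GroupTheory.Transfer
import Mathlib.GroupTheory.Sylow
import Mathlib.GroupTheory.SpecificGroups.Cyclic
import Mathlib.GroupTheory.Abelianization.Defs
import Cfsg.Prelude.Def_KGroupFacts

/-!
Stem extensions: tools to show that a Schur multiplier is trivial, one Sylow subgroup at a time.

* `ker_eq_bot_of_sylow`: for a stem extension `σ : Γ →* G`, if for each prime `p` some Sylow
  `p`-subgroup `P` of `Γ` has `⁅P, P⁆ ⊓ ker σ = ⊥` then `σ` is injective.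
* `commutator_inf_ker_eq_bot_of_isCyclic`: cyclic Sylow image.
* `commutator_inf_ker_eq_bot_of_quaternion`: image with a cyclic subgroup of index 2 inverted by
  an element of order 4 (generalized quaternion groups).
* `hasCyclicSchurMultiplier_one`: packaging as `HasCyclicSchurMultiplier G 1`.
-/

namespace Cfsg.Agent.Schur

open Subgroup

universe u

variable {Γ G : Type*} [Group Γ] [Group G]

/-- A central element of the derived subgroup has its `|G : H|`-th power in `H'`. -/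
theorem pow_index_mem_commutator (H : Subgroup Γ) [H.FiniteIndex] {x : Γ}
    (hz : x ∈ center Γ) (hc : x ∈ _root_.commutator Γ) : x ^ H.index ∈ ⁅H, H⁆ := by
  have key : ∀ (k : ℕ) (g₀ : Γ), g₀⁻¹ * x ^ k * g₀ ∈ H → g₀⁻¹ * x ^ k * g₀ = x ^ k := by
    intro k g₀ _
    have := mem_center_iff.1 (pow_mem hz k) g₀⁻¹
    rw [this, inv_mul_cancel_right]
  have h1 := MonoidHom.transfer_eq_pow (Abelianization.of : H →* Abelianization H) x key
  have h2 : MonoidHom.transfer (Abelianization.of : H →* Abelianization H) x = 1 :=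
    Abelianization.commutator_subset_ker _ hc
  rw [h2] at h1
  have h3 := (QuotientGroup.eq_one_iff _).1 h1.symm
  rw [← Subgroup.map_subtype_commutator H]
  exact ⟨_, h3, rfl⟩

/-- A stem extension is injective as soon as, for each prime, some Sylow subgroup of the source
has derived subgroup meeting the kernel trivially. -/
theorem ker_eq_bot_of_sylow [Finite Γ] (σ : Γ →* G) (hz : σ.ker ≤ center Γ)
    (hc : σ.ker ≤ _root_.commutator Γ)
    (h : ∀ p : ℕ, p.Prime → ∃ P : Sylow p Γ, ⁅(P : Subgroup Γ), (P : Subgroup Γ)⁆ ⊓ σ.ker = ⊥) :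
    σ.ker = ⊥ := by
  by_contra hne
  have hcard : Nat.card σ.ker ≠ 1 := fun h1 => hne (Subgroup.eq_bot_of_card_eq σ.ker h1)
  obtain ⟨p, hp, hdvd⟩ := Nat.exists_prime_and_dvd hcard
  haveI : Fact p.Prime := ⟨hp⟩
  obtain ⟨x, hx⟩ := exists_prime_orderOf_dvd_card' p hdvd
  obtain ⟨P, hP⟩ := h p hp
  have hord : orderOf (x : Γ) = p := by rw [orderOf_coe, hx]
  have hxp : (x : Γ) ^ p = 1 := by rw [← hord]; exact pow_orderOf_eq_one _
  have h1 : (x : Γ) ^ (P : Subgroup Γ).index ∈ ⁅(P : Subgroup Γ), (P : Subgroup Γ)⁆ :=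
    pow_index_mem_commutator _ (hz x.2) (hc x.2)
  have h2 : (x : Γ) ^ (P : Subgroup Γ).index = 1 :=
    Subgroup.mem_bot.1 (hP ▸ ⟨h1, pow_mem x.2 _⟩)
  have h3 : p ∣ (P : Subgroup Γ).index := by
    have h4 := orderOf_dvd_of_pow_eq_one h2
    rwa [hord] at h4
  exact P.not_dvd_index h3

/-- A Sylow subgroup of `Γ` whose image contains a given `p`-subgroup. -/
theorem exists_sylow_le_map [Finite Γ] (σ : Γ →* G) (hσ : Function.Surjective σ) {p : ℕ}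
    [Fact p.Prime] {Q : Subgroup G} (hQ : IsPGroup p Q) :
    ∃ P : Sylow p Γ, Q ≤ (P : Subgroup Γ).map σ := by
  haveI : Finite G := Finite.of_surjective σ hσ
  obtain ⟨R, hR⟩ := hQ.exists_le_sylow
  obtain ⟨P, rfl⟩ := Sylow.mapSurjective_surjective hσ p R
  exact ⟨P, hR⟩

/-- If the image of `P` is cyclic (and the kernel central), then `⁅P, P⁆` is trivial. -/
theorem commutator_eq_bot_of_isCyclic (σ : Γ →* G) (hz : σ.ker ≤ center Γ) (P : Subgroup Γ)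
    [IsCyclic (P.map σ)] : ⁅P, P⁆ = ⊥ := by
  let f : P →* P.map σ := σ.subgroupMap P
  have hf : f.ker ≤ center P := by
    intro a ha
    have ha' : σ (a : Γ) = 1 := congrArg Subtype.val ha
    exact mem_center_iff.2 fun b => Subtype.ext (mem_center_iff.1 (hz ha') b)
  rw [Subgroup.commutator_eq_bot_iff_le_centralizer]
  intro a ha
  rw [mem_centralizer_iff]
  intro b hb
  exact congrArg Subtype.val (commutative_of_cyclic_center_quotient f hf ⟨b, hb⟩ ⟨a, ha⟩)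

theorem commutator_inf_ker_eq_bot_of_isCyclic (σ : Γ →* G) (hz : σ.ker ≤ center Γ)
    (P : Subgroup Γ) [IsCyclic (P.map σ)] : ⁅P, P⁆ ⊓ σ.ker = ⊥ := by
  rw [commutator_eq_bot_of_isCyclic σ hz P, bot_inf_eq]

/-- If the image `Q` of `P` has a cyclic subgroup `A` of index at most 2 whose other coset is
represented by `b` with `b² ∈ A` and `C_A(b) ≤ ⟨b²⟩`, then `⁅P, P⁆` meets the kernel trivially. -/
theorem commutator_inf_ker_eq_bot_of_quaternion (σ : Γ →* G) (hz : σ.ker ≤ center Γ)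
    (P : Subgroup Γ) (A : Subgroup G) [IsCyclic A] (hA : A ≤ P.map σ) {b : G}
    (hb : b ∈ P.map σ) (hnorm : ∀ a ∈ A, b * a * b⁻¹ ∈ A) (hb2 : b * b ∈ A)
    (hcov : ∀ x ∈ P.map σ, x ∈ A ∨ x * b⁻¹ ∈ A)
    (hfix : ∀ a ∈ A, b * a = a * b → a = 1 ∨ a = b * b) :
    ⁅P, P⁆ ⊓ σ.ker = ⊥ := by
  have hcom : ⁅A.comap σ ⊓ P, A.comap σ ⊓ P⁆ = ⊥ := by
    haveI : IsCyclic ((A.comap σ ⊓ P).map σ) :=
      isCyclic_of_le (((Subgroup.map_mono inf_le_left).trans (map_comap_le σ A)))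
    exact commutator_eq_bot_of_isCyclic σ hz _
  rw [Subgroup.commutator_eq_bot_iff_le_centralizer] at hcom
  have comm : ∀ x ∈ A.comap σ ⊓ P, ∀ y ∈ A.comap σ ⊓ P, x * y = y * x := fun x hx y hy =>
    (mem_centralizer_iff.1 (hcom hy) x hx)
  obtain ⟨b', hb'', rfl⟩ := hb
  have hb' : b' ∈ P := hb''
  let Ã : Subgroup Γ := A.comap σ ⊓ P
  have hcomm' : ∀ {x y : Γ}, x ∈ Ã → y ∈ Ã → x * y = y * x := fun hx hy => comm _ hx _ hy
  have hconj : ∀ x ∈ Ã, b' * x * b'⁻¹ ∈ Ã := by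
    intro x hx
    refine ⟨?_, P.mul_mem (P.mul_mem hb' hx.2) (P.inv_mem hb')⟩
    show σ _ ∈ A
    rw [map_mul, map_mul, map_inv]
    exact hnorm _ hx.1
  -- the homomorphism x ↦ [x, b']
  let φ : Ã →* Γ := MonoidHom.mk' (fun x => (x : Γ) * b' * (x : Γ)⁻¹ * b'⁻¹) (by
    intro x y
    simp only [Subgroup.coe_mul, mul_inv_rev]
    have h1 : (y : Γ) * b' * (y : Γ)⁻¹ * b'⁻¹ ∈ Ã := by
      have := mul_mem y.2 (hconj _ (inv_mem y.2))
      simpa only [mul_assoc] using this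
    have h2 := hcomm' x.2 h1
    calc (x : Γ) * y * b' * ((y : Γ)⁻¹ * (x : Γ)⁻¹) * b'⁻¹
        = ((x : Γ) * ((y : Γ) * b' * (y : Γ)⁻¹ * b'⁻¹)) * (b' * (x : Γ)⁻¹ * b'⁻¹) := by group
      _ = (((y : Γ) * b' * (y : Γ)⁻¹ * b'⁻¹) * x) * (b' * (x : Γ)⁻¹ * b'⁻¹) := by rw [h2]
      _ = ((y : Γ) * b' * (y : Γ)⁻¹ * b'⁻¹) * ((x : Γ) * b' * (x : Γ)⁻¹ * b'⁻¹) := by group
      _ = _ := by
        apply hcomm' h1
        have := mul_mem x.2 (hconj _ (inv_mem x.2))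
        simpa only [mul_assoc] using this)
  have hφA : ∀ x : Ã, φ x ∈ Ã := fun x => by
    have := mul_mem x.2 (hconj _ (inv_mem x.2))
    simpa only [φ, MonoidHom.mk'_apply, mul_assoc] using this
  have hcovP : ∀ x ∈ P, x ∈ Ã ∨ x * b'⁻¹ ∈ Ã := by
    intro x hx
    rcases hcov (σ x) ⟨x, hx, rfl⟩ with h | h
    · exact Or.inl ⟨h, hx⟩
    · refine Or.inr ⟨?_, P.mul_mem hx (P.inv_mem hb')⟩
      show σ _ ∈ A
      rwa [map_mul, map_inv]
  have hsub : ⁅P, P⁆ ≤ φ.range := by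
    rw [Subgroup.commutator_le]
    intro g₁ hg₁ g₂ hg₂
    rw [commutatorElement_def]
    have e1 : ∀ a c : Γ, a ∈ Ã → c ∈ Ã →
        a * (c * b') * a⁻¹ * (c * b')⁻¹ ∈ φ.range := by
      intro a c ha hc
      refine ⟨⟨a, ha⟩, ?_⟩
      have h := hcomm' hc (hφA ⟨a, ha⟩)
      show a * b' * a⁻¹ * b'⁻¹ = _
      calc a * b' * a⁻¹ * b'⁻¹ = (c * (a * b' * a⁻¹ * b'⁻¹)) * c⁻¹ := by
            rw [show c * (a * b' * a⁻¹ * b'⁻¹) = (a * b' * a⁻¹ * b'⁻¹) * c from h,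
              mul_inv_cancel_right]
        _ = (c * a) * b' * a⁻¹ * b'⁻¹ * c⁻¹ := by group
        _ = (a * c) * b' * a⁻¹ * b'⁻¹ * c⁻¹ := by rw [hcomm' hc ha]
        _ = a * (c * b') * a⁻¹ * (c * b')⁻¹ := by group
    rcases hcovP g₁ hg₁ with h₁ | h₁ <;> rcases hcovP g₂ hg₂ with h₂ | h₂
    · exact ⟨1, by rw [map_one, hcomm' h₁ h₂, mul_inv_cancel_right, mul_inv_cancel]⟩
    · have := e1 g₁ (g₂ * b'⁻¹) h₁ h₂
      rwa [inv_mul_cancel_right] at this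
    · have := inv_mem (e1 g₂ (g₁ * b'⁻¹) h₂ h₁)
      rwa [inv_mul_cancel_right, show (g₂ * g₁ * g₂⁻¹ * g₁⁻¹)⁻¹ = g₁ * g₂ * g₁⁻¹ * g₂⁻¹ by group]
        at this
    · refine ⟨⟨g₁ * b'⁻¹, h₁⟩ * ⟨g₂ * b'⁻¹, h₂⟩⁻¹, ?_⟩
      have h : (g₂ * b'⁻¹)⁻¹ * (b' * ((g₁ * b'⁻¹) * (g₂ * b'⁻¹)⁻¹)⁻¹ * b'⁻¹) =
          (b' * ((g₁ * b'⁻¹) * (g₂ * b'⁻¹)⁻¹)⁻¹ * b'⁻¹) * (g₂ * b'⁻¹)⁻¹ :=
        hcomm' (inv_mem h₂) (hconj _ (inv_mem (mul_mem h₁ (inv_mem h₂))))
      show (g₁ * b'⁻¹ * (g₂ * b'⁻¹)⁻¹) * b' * (g₁ * b'⁻¹ * (g₂ * b'⁻¹)⁻¹)⁻¹ * b'⁻¹ = _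
      calc (g₁ * b'⁻¹ * (g₂ * b'⁻¹)⁻¹) * b' * (g₁ * b'⁻¹ * (g₂ * b'⁻¹)⁻¹)⁻¹ * b'⁻¹
          = (g₁ * b'⁻¹) * ((g₂ * b'⁻¹)⁻¹ *
              (b' * ((g₁ * b'⁻¹) * (g₂ * b'⁻¹)⁻¹)⁻¹ * b'⁻¹)) := by group
        _ = (g₁ * b'⁻¹) * ((b' * ((g₁ * b'⁻¹) * (g₂ * b'⁻¹)⁻¹)⁻¹ * b'⁻¹) *
              (g₂ * b'⁻¹)⁻¹) := by rw [h]
        _ = g₁ * g₂ * g₁⁻¹ * g₂⁻¹ := by group
  refine eq_bot_iff.2 fun c hc => mem_bot.2 ?_
  obtain ⟨x, rfl⟩ := hsub hc.1
  have hker : σ (φ x) = 1 := hc.2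
  simp only [φ, MonoidHom.mk'_apply, map_mul, map_inv] at hker
  have hfx : σ b' * σ (x : Γ) = σ (x : Γ) * σ b' := by
    have e : σ (x : Γ) * σ b' = σ b' * σ (x : Γ) := by
      rw [mul_inv_eq_one] at hker
      exact mul_inv_eq_iff_eq_mul.1 hker
    exact e.symm
  show (x : Γ) * b' * (x : Γ)⁻¹ * b'⁻¹ = 1
  have key : (x : Γ) * b' = b' * (x : Γ) := by
    rcases hfix _ x.2.1 hfx with h | h
    · exact (mem_center_iff.1 (hz h) b').symm
    · have hk : (x : Γ) * (b' * b')⁻¹ ∈ center Γ := hz (by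
        show σ _ = 1
        rw [map_mul, map_inv, map_mul, h, mul_inv_cancel])
      have := mem_center_iff.1 hk b'
      calc (x : Γ) * b' = ((x : Γ) * (b' * b')⁻¹) * b' * (b' * b') := by group
        _ = b' * ((x : Γ) * (b' * b')⁻¹) * (b' * b') := by rw [this]
        _ = b' * (x : Γ) := by group
  rw [key]; group

/-- Packaging: finite, and every finite stem extension is injective. -/
theorem hasCyclicSchurMultiplier_one {G : Type u} [Group G] [Finite G]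
    (h : ∀ (Γ : Type u) [Group Γ] [Finite Γ] (σ : Γ →* G), Cfsg.IsStemExtension σ → σ.ker = ⊥) :
    Cfsg.HasCyclicSchurMultiplier G 1 := by
  refine ⟨⟨G, inferInstance, inferInstance, MonoidHom.id G,
    ⟨Function.surjective_id, by simp, by simp⟩, ?_⟩, ?_⟩
  · haveI : Subsingleton (MonoidHom.id G).ker :=
      ⟨fun a b => Subtype.ext (a.2.trans b.2.symm)⟩
    exact ⟨{ toFun := fun _ => 1, invFun := fun _ => 1,
             left_inv := fun _ => Subsingleton.elim _ _,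
             right_inv := fun _ => Subsingleton.elim _ _,
             map_mul' := fun _ _ => Subsingleton.elim _ _ }⟩
  · intro Γ _ _ σ hσ
    refine ⟨1, fun y => ⟨1, ?_⟩⟩
    have : (y : Γ) ∈ (⊥ : Subgroup Γ) := h Γ σ hσ ▸ y.2
    exact Subtype.ext (Subgroup.mem_bot.1 this).symm

end Cfsg.Agent.Schur
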