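import Mathlib.GroupTheory.Commutator.Basic
import Mathlib.GroupTheory.Subgroup.Center
import Mathlib.Tactic.Group

/-!
Commutators of lifts in a central extension.

* `liftComm hs A B`: the commutator of any lifts of `A` and `B` (`commutator_eq_liftComm`);
* bilinearity where the values commute with the lifts, and equivariance under conjugation.
-/

namespace Cfsg.Agent.Schur

open Subgroup
open scoped commutatorElement

variable {Γ G : Type*} [Group Γ] [Group G] {σ : Γ →* G}

/-- A lift along a surjection. -/
noncomputable def liftOf (hs : Function.Surjective σ) (A : G) : Γ := Function.surjInv hs A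

/-- The commutator of lifts. -/
noncomputable def liftComm (hs : Function.Surjective σ) (A B : G) : Γ :=
  ⁅liftOf hs A, liftOf hs B⁆

theorem map_liftOf (hs : Function.Surjective σ) (A : G) : σ (liftOf hs A) = A :=
  Function.surjInv_eq hs A

theorem map_liftComm (hs : Function.Surjective σ) (A B : G) : σ (liftComm hs A B) = ⁅A, B⁆ := by
  rw [liftComm, map_commutatorElement, map_liftOf, map_liftOf]

theorem liftComm_inv (hs : Function.Surjective σ) (A B : G) :
    (liftComm hs A B)⁻¹ = liftComm hs B A :=
  commutatorElement_inv _ _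

variable (hs : Function.Surjective σ) (hz : σ.ker ≤ center Γ)
include hz

theorem commutatorElement_congr_left {x x' : Γ} (h : σ x = σ x') (y : Γ) : ⁅x, y⁆ = ⁅x', y⁆ := by
  have hk : x'⁻¹ * x ∈ center Γ := hz (by
    show σ _ = 1
    rw [map_mul, map_inv, h, inv_mul_cancel])
  obtain ⟨z, hzc, rfl⟩ : ∃ z ∈ center Γ, x' * z = x := ⟨_, hk, by group⟩
  have hy : z * y = y * z := (mem_center_iff.1 hzc y).symm
  calc ⁅x' * z, y⁆ = x' * (z * y) * z⁻¹ * x'⁻¹ * y⁻¹ := by
        simp only [commutatorElement_def]; group
    _ = ⁅x', y⁆ := by rw [hy]; simp only [commutatorElement_def]; group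

theorem commutatorElement_congr {x x' y y' : Γ} (h : σ x = σ x') (h' : σ y = σ y') :
    ⁅x, y⁆ = ⁅x', y'⁆ := by
  rw [commutatorElement_congr_left hz h y, ← _root_.inv_inj, commutatorElement_inv,
    commutatorElement_congr_left hz h', commutatorElement_inv]

theorem commutator_eq_liftComm (x y : Γ) : ⁅x, y⁆ = liftComm hs (σ x) (σ y) :=
  commutatorElement_congr hz (map_liftOf hs _).symm (map_liftOf hs _).symm

theorem liftComm_one_left (B : G) : liftComm hs 1 B = 1 := by
  have h := commutator_eq_liftComm hs hz 1 (liftOf hs B)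
  rw [commutatorElement_one_left, map_one, map_liftOf] at h
  exact h.symm

theorem liftComm_mul_left {A A' B : G} (h : Commute (liftComm hs A' B) (liftOf hs A)) :
    liftComm hs (A * A') B = liftComm hs A' B * liftComm hs A B := by
  have h1 := commutator_eq_liftComm hs hz (liftOf hs A * liftOf hs A') (liftOf hs B)
  rw [map_mul, map_liftOf, map_liftOf, map_liftOf] at h1
  rw [← h1]
  show _ = ⁅liftOf hs A', liftOf hs B⁆ * ⁅liftOf hs A, liftOf hs B⁆
  calc ⁅liftOf hs A * liftOf hs A', liftOf hs B⁆
      = liftOf hs A * ⁅liftOf hs A', liftOf hs B⁆ * (liftOf hs A)⁻¹ *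
          ⁅liftOf hs A, liftOf hs B⁆ := by
        simp only [commutatorElement_def]; group
    _ = _ := by
      rw [show ⁅liftOf hs A', liftOf hs B⁆ = liftComm hs A' B from rfl, ← h.eq,
        mul_inv_cancel_right]

theorem liftComm_mul_right {A B B' : G} (h : Commute (liftComm hs A B') (liftOf hs B)) :
    liftComm hs A (B * B') = liftComm hs A B * liftComm hs A B' := by
  have h1 := commutator_eq_liftComm hs hz (liftOf hs A) (liftOf hs B * liftOf hs B')
  rw [map_mul, map_liftOf, map_liftOf, map_liftOf] at h1
  rw [← h1]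
  show _ = ⁅liftOf hs A, liftOf hs B⁆ * ⁅liftOf hs A, liftOf hs B'⁆
  calc ⁅liftOf hs A, liftOf hs B * liftOf hs B'⁆
      = ⁅liftOf hs A, liftOf hs B⁆ *
          (liftOf hs B * ⁅liftOf hs A, liftOf hs B'⁆ * (liftOf hs B)⁻¹) := by
        simp only [commutatorElement_def]; group
    _ = _ := by
      rw [show ⁅liftOf hs A, liftOf hs B'⁆ = liftComm hs A B' from rfl, ← h.eq,
        mul_inv_cancel_right]

theorem liftComm_mem_center {A B : G} (h : Commute A B) : liftComm hs A B ∈ center Γ := hz (by
  show σ _ = 1
  rw [map_liftComm]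
  exact commutatorElement_eq_one_iff_commute.2 h)

theorem commute_liftComm {A B : G} (h : Commute A B) (x : Γ) : Commute (liftComm hs A B) x :=
  (mem_center_iff.1 (liftComm_mem_center hs hz h) x).symm

/-- Conjugation acts on lifted commutators. -/
theorem liftComm_conj (x : Γ) (A B : G) :
    liftComm hs (σ x * A * (σ x)⁻¹) (σ x * B * (σ x)⁻¹) = x * liftComm hs A B * x⁻¹ := by
  have h := commutator_eq_liftComm hs hz (x * liftOf hs A * x⁻¹) (x * liftOf hs B * x⁻¹)
  simp only [map_mul, map_inv, map_liftOf] at h
  rw [← h]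
  show _ = x * ⁅liftOf hs A, liftOf hs B⁆ * x⁻¹
  simp only [commutatorElement_def]; group

end Cfsg.Agent.Schur
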