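import Cfsg.Agent.Lib.RootBN.NormalForm
import Cfsg.Agent.Lib.Schur.LiftComm

/-!
Central extensions of groups with root data of rank two, with kernel of order prime to the characteristic.

* `sec`: the lift of elements of `p`-power order;
* `ker_eq_bot`: the root data lift to the extension, so a kernel inside the derived group is trivial as
  soon as the rank one subgroups meet it trivially and share no torus element.
-/

set_option autoImplicit false

namespace Cfsg.Agent.Schur.RootExt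

open Subgroup
open scoped commutatorElement

variable {E M : Type*} [Group E] [Group M] {ι : Type*}

/-- Powers of a chosen preimage. -/
noncomputable def sec (π : E →* M) (k : ℕ) (g : M) : E := Function.invFun π g ^ k

/-- An exponent fixing the `p`-elements and killing the kernel. -/
structure GoodExp (π : E →* M) (p k : ℕ) : Prop where
  modEq : ∀ i, p ^ i ∣ Nat.card E → k ≡ 1 [MOD p ^ i]
  kill : ∀ z ∈ π.ker, z ^ k = 1

theorem exists_goodExp [Finite E] (π : E →* M) {p r : ℕ} [hp : Fact p.Prime] [hr : Fact r.Prime]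
    (hrp : r ≠ p) (hker : ∀ z ∈ π.ker, z ^ r = 1) : ∃ k, GoodExp π p k := by
  have hco : Nat.Coprime (p ^ (Nat.card E).factorization p) r :=
    Nat.Coprime.pow_left _ ((Nat.coprime_primes hp.out hr.out).2 hrp.symm)
  obtain ⟨k, h1, h2⟩ := Nat.chineseRemainder hco 1 0
  refine ⟨k, fun i hi => h1.of_dvd (pow_dvd_pow _ ?_), fun z hz => ?_⟩
  · rwa [← Nat.Prime.pow_dvd_iff_le_factorization hp.out Nat.card_pos.ne']
  · obtain ⟨c, rfl⟩ := Nat.modEq_zero_iff_dvd.1 h2
    rw [pow_mul, hker z hz, one_pow]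

section Sec

variable [Finite E] {π : E →* M} {p k : ℕ} [hp : Fact p.Prime] (hz : π.ker ≤ center E)
  (hk : GoodExp π p k)
include hz hk

omit [Finite E] hp in
theorem pow_eq_sec (e : E) : e ^ k = sec π k (π e) := by
  have hf : π (Function.invFun π (π e)) = π e := Function.invFun_eq ⟨e, rfl⟩
  set f := Function.invFun π (π e)
  have hmem : f⁻¹ * e ∈ π.ker := by rw [MonoidHom.mem_ker, map_mul, map_inv, hf, inv_mul_cancel]
  have hc : Commute f (f⁻¹ * e) := (mem_center_iff.1 (hz hmem) f)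
  calc e ^ k = (f * (f⁻¹ * e)) ^ k := by rw [mul_inv_cancel_left]
    _ = f ^ k * (f⁻¹ * e) ^ k := hc.mul_pow k
    _ = _ := by rw [hk.kill _ hmem, mul_one]; rfl

omit hz in
omit [Finite E] in
theorem pow_eq_self {G : Type*} [Group G] (y : G) (hy : ∃ j, y ^ p ^ j = 1)
    (hdvd : orderOf y ∣ Nat.card E) : y ^ k = y := by
  obtain ⟨j, hj⟩ := hy
  obtain ⟨i, -, hi⟩ := (Nat.dvd_prime_pow hp.out).1 (orderOf_dvd_of_pow_eq_one hj)
  conv_rhs => rw [← pow_one y]
  rw [pow_eq_pow_iff_modEq, hi]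
  exact hk.modEq i (hi ▸ hdvd)

omit [Finite E] in
theorem eq_sec {e : E} (he : ∃ j, e ^ p ^ j = 1) : e = sec π k (π e) :=
  (pow_eq_self hk e he (orderOf_dvd_natCard e)).symm.trans (pow_eq_sec hz hk e)

omit [Finite E] hp in
theorem conj_sec (e : E) {g : M} (hg : g ∈ π.range) :
    e * sec π k g * e⁻¹ = sec π k (π e * g * (π e)⁻¹) := by
  obtain ⟨f, rfl⟩ := hg
  rw [← pow_eq_sec hz hk f, ← conj_pow, pow_eq_sec hz hk, map_mul, map_mul, map_inv]

/-- The canonical lifts of a `p`-subgroup form a subgroup mapped one-to-one onto it. -/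
theorem exists_lift (Q : Subgroup M) (hQ : IsPGroup p Q) (hle : Q ≤ π.range) :
    ∃ S : Subgroup E, S.map π = Q ∧ ∀ x, x ∈ S ↔ π x ∈ Q ∧ ∃ j, x ^ p ^ j = 1 := by
  let τ : ↥(Q.comap π) →* Q := π.subgroupComap Q
  have hτ : Function.Surjective τ := fun q => by
    obtain ⟨e, he⟩ := hle q.2
    exact ⟨⟨e, show π e ∈ Q from he ▸ q.2⟩, Subtype.ext he⟩
  have : Finite Q := Finite.of_surjective τ hτ
  let P : Sylow p ↥(Q.comap π) := Classical.arbitrary _
  have hmap : ((P : Subgroup ↥(Q.comap π)).map τ) = ⊤ := by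
    have h := (Sylow.mapSurjective hτ P).3 (Q := ⊤) (IsPGroup.of_equiv hQ Subgroup.topEquiv.symm) le_top
    simpa using h.symm
  have hpP : ∀ x ∈ (P : Subgroup ↥(Q.comap π)), ∃ j, (x : E) ^ p ^ j = 1 := fun x hx => by
    obtain ⟨j, hj⟩ := P.2 ⟨x, hx⟩
    exact ⟨j, by simpa using congrArg (fun v : (P : Subgroup ↥(Q.comap π)) => ((v : ↥(Q.comap π)) : E)) hj⟩
  refine ⟨(P : Subgroup ↥(Q.comap π)).map (Q.comap π).subtype, le_antisymm ?_ fun g hg => ?_,
    fun x => ⟨?_, ?_⟩⟩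
  · rintro _ ⟨_, ⟨x, -, rfl⟩, rfl⟩
    exact x.2
  · obtain ⟨x, hx, e⟩ := hmap.ge (Subgroup.mem_top (⟨g, hg⟩ : Q))
    exact ⟨x, ⟨x, hx, rfl⟩, congrArg Subtype.val e⟩
  · rintro ⟨x, hx, rfl⟩
    exact ⟨x.2, hpP x hx⟩
  · rintro ⟨hxQ, hxp⟩
    obtain ⟨y, hy, e⟩ := hmap.ge (Subgroup.mem_top (⟨π x, hxQ⟩ : Q))
    refine ⟨y, hy, ?_⟩
    have he : π (y : E) = π x := congrArg Subtype.val e
    show (y : E) = x
    rw [eq_sec hz hk (hpP y hy), eq_sec hz hk hxp, he]

end Sec

section Main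

open RootBN (Data)

variable {D : Data M ι (Fin 2)} (ax : D.Axioms) {π : E →* M} (hπ : π.range = D.grp)
  (hz : π.ker ≤ center E) (hc : π.ker ≤ commutator E) {p r : ℕ} [hp : Fact p.Prime] [hr : Fact r.Prime]

include ax hπ hz hc

/-- The kernel of prime exponent different from the characteristic is trivial. -/
theorem ker_eq_bot [Finite E] [Finite ι] (hrp : r ≠ p) (hker : ∀ z ∈ π.ker, z ^ r = 1)
    (hU : IsPGroup p D.U) (hH : D.U ⊓ D.H = ⊥)
    (hnn : ∀ i, D.nn i ∈ D.X (D.simp i) ⊔ D.X (D.opp (D.simp i)))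
    (hrank : ∀ i (L : Subgroup E), L.map π = D.X (D.simp i) ⊔ D.X (D.opp (D.simp i)) →
      L ≤ Subgroup.closure {x | x ∈ L ∧ ∃ j, x ^ p ^ j = 1} → L ⊓ π.ker = ⊥)
    (hind : (D.X (D.simp 0) ⊔ D.X (D.opp (D.simp 0))) ⊓ (D.X (D.simp 1) ⊔ D.X (D.opp (D.simp 1))) ⊓
      D.H = ⊥) :
    π.ker = ⊥ := by
  classical
  obtain ⟨k, hk⟩ := exists_goodExp π hrp hker
  have hle : ∀ o, D.X o ≤ π.range := fun o => hπ ▸ Data.X_le_grp o
  have hUle : D.U ≤ π.range := iSup₂_le fun o _ => hle o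
  have hXp : ∀ o, IsPGroup p (D.X o) := by
    intro o
    obtain ⟨l, i, e⟩ := ax.reach o
    have hmap : D.X o = (D.X (D.simp i)).map (MulAut.conj (D.nw l)).toMonoidHom := by
      ext y
      rw [Subgroup.mem_map_equiv, ← e]
      have := Data.acts_nw ax l (D.simp i) ((D.nw l)⁻¹ * y * D.nw l)
      simpa [mul_assoc] using this
    rw [hmap]
    exact (hU.to_le (Data.X_le_U (ax.pos_simp i))).map _
  choose Xt hXmap hXmem using fun o => exists_lift hz hk (D.X o) (hXp o) (hle o)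
  obtain ⟨Ut, hUmap, hUmem⟩ := exists_lift hz hk D.U hU hUle
  -- conjugation
  have hconj : ∀ (e : E) o o', (∀ y ∈ D.X o, π e * y * (π e)⁻¹ ∈ D.X o') →
      ∀ x ∈ Xt o, e * x * e⁻¹ ∈ Xt o' := by
    intro e o o' h x hx
    obtain ⟨hx1, j, hj⟩ := (hXmem o x).1 hx
    refine (hXmem o' _).2 ⟨by rw [map_mul, map_mul, map_inv]; exact h _ hx1, j, ?_⟩
    rw [conj_pow, hj, mul_one, mul_inv_cancel]
  let Lt : Fin 2 → Subgroup E := fun i => Xt (D.simp i) ⊔ Xt (D.opp (D.simp i))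
  have hLmap : ∀ i, (Lt i).map π = D.X (D.simp i) ⊔ D.X (D.opp (D.simp i)) := fun i => by
    rw [Subgroup.map_sup, hXmap, hXmap]
  have hLker : ∀ i, Lt i ⊓ π.ker = ⊥ := by
    refine fun i => hrank i (Lt i) (hLmap i) ?_
    refine sup_le ?_ ?_ <;> intro x hx <;>
      refine Subgroup.subset_closure ⟨?_, ((hXmem _ x).1 hx).2⟩
    · exact Subgroup.mem_sup_left hx
    · exact Subgroup.mem_sup_right hx
  let A : Fin 2 → Subgroup E := fun i => Lt i ⊓ D.H.comap π
  let Hb : Subgroup E := A 0 ⊔ A 1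
  have hAH : ∀ i, A i ≤ Hb := fun i => by fin_cases i <;> [exact le_sup_left; exact le_sup_right]
  have hHbH : ∀ x ∈ Hb, π x ∈ D.H := fun x hx =>
    (show Hb ≤ D.H.comap π from sup_le inf_le_right inf_le_right) hx
  choose nl hnl hnπ using fun i => Subgroup.mem_map.1 ((hLmap i).symm ▸ hnn i)
  choose rl ri hreach using fun o => ax.reach o
  let D₀ : Data E ι (Fin 2) :=
    { X := Xt, H := Hb, nn := nl,
      nroot := fun o => if h : ∃ i, D.simp i = o then nl h.choose else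
        (((rl o).map nl).prod) * nl (ri o) * (((rl o).map nl).prod)⁻¹,
      refl := D.refl, opp := D.opp, simp := D.simp, Pos := D.Pos }
  have hπnw : ∀ l, π (D₀.nw l) = D.nw l := by
    intro l
    induction l with
    | nil => simp
    | cons i l ih => rw [Data.nw_cons, Data.nw_cons, map_mul, ih]; exact congrArg (· * _) (hnπ i)
  have hHconj : ∀ x, π x ∈ D.H → ∀ o, ∀ y ∈ Xt o, x * y * x⁻¹ ∈ Xt o := fun x hx o =>
    hconj x o o (ax.H_conj o _ hx)
  have hLconj : ∀ x, π x ∈ D.H → ∀ i, ∀ y ∈ Lt i, x * y * x⁻¹ ∈ Lt i := fun x hx i y hy =>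
    (show Lt i ≤ (Lt i).comap (MulAut.conj x).toMonoidHom from sup_le
      (fun z hz' => Subgroup.mem_sup_left (hHconj x hx _ z hz'))
      (fun z hz' => Subgroup.mem_sup_right (hHconj x hx _ z hz'))) hy
  have hnnH : ∀ i, ∀ x ∈ Hb, nl i * x * (nl i)⁻¹ ∈ Hb := by
    intro i
    suffices h : ∀ j, ∀ x ∈ A j, nl i * x * (nl i)⁻¹ ∈ Hb from fun x hx =>
      (show Hb ≤ Hb.comap (MulAut.conj (nl i)).toMonoidHom from sup_le (h 0) (h 1)) hx
    intro j x hx
    have h1 : nl i * (x * (nl i)⁻¹ * x⁻¹) ∈ Lt i :=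
      (Lt i).mul_mem (hnl i) (hLconj x hx.2 i _ ((Lt i).inv_mem (hnl i)))
    have h2 : π (nl i * (x * (nl i)⁻¹ * x⁻¹)) ∈ D.H := by
      simp only [map_mul, map_inv, hnπ, ← mul_assoc]
      exact D.H.mul_mem (ax.nn_H i _ hx.2) (D.H.inv_mem hx.2)
    have := Hb.mul_mem (hAH i ⟨h1, h2⟩) (hAH j hx)
    simpa [mul_assoc] using this
  have hrefl : ∀ i o, ∀ y ∈ Xt o, nl i * y * (nl i)⁻¹ ∈ Xt (D.refl i o) := fun i o =>
    hconj _ o _ (by rw [hnπ]; exact ax.conj_X i o)
  have hnw : ∀ l, ∀ o, ∀ y ∈ Xt o, D₀.nw l * y * (D₀.nw l)⁻¹ ∈ Xt (D.wl l o) := fun l o =>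
    hconj _ o _ (fun y hy => by rw [hπnw]; exact (Data.acts_nw ax l o y).2 hy)
  have hnwH : ∀ l, ∀ x ∈ Hb, D₀.nw l * x * (D₀.nw l)⁻¹ ∈ Hb := by
    intro l
    induction l with
    | nil => intro x hx; simpa using hx
    | cons i l ih =>
      intro x hx
      have := hnnH i _ (ih x hx)
      rw [Data.nw_cons]
      show nl i * D₀.nw l * x * (nl i * D₀.nw l)⁻¹ ∈ Hb
      simpa [mul_assoc] using this
  -- the lift of a torus element lying in the rank one subgroup of a root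
  have hroot : ∀ (o : ι) (x : E), x ∈ Xt o ⊔ Xt (D.opp o) → π x ∈ D.H → x ∈ Hb := by
    intro o x hx hxH
    obtain ⟨l, i, rfl⟩ := ax.reach o
    have hx' : (D₀.nw l)⁻¹ * x * D₀.nw l ∈ Lt i := by
      refine (show Xt (D.wl l (D.simp i)) ⊔ Xt (D.opp (D.wl l (D.simp i))) ≤
        (Lt i).comap (MulAut.conj (D₀.nw l)⁻¹).toMonoidHom from sup_le ?_ ?_) hx |> fun h => by
          simpa using h
      all_goals intro z hz'
      · refine Subgroup.mem_sup_left ?_
        have := hconj (D₀.nw l)⁻¹ _ (D.simp i) (fun y hy => by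
          rw [map_inv, hπnw]
          have := (Data.acts_nw ax l (D.simp i) ((D.nw l)⁻¹ * y * D.nw l)).1 (by simpa [mul_assoc] using hy)
          simpa [mul_assoc] using this) z hz'
        simpa using this
      · refine Subgroup.mem_sup_right ?_
        have := hconj (D₀.nw l)⁻¹ _ (D.opp (D.simp i)) (fun y hy => by
          rw [map_inv, hπnw]
          rw [← Data.wl_opp ax] at hy
          have := (Data.acts_nw ax l (D.opp (D.simp i)) ((D.nw l)⁻¹ * y * D.nw l)).1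
            (by simpa [mul_assoc] using hy)
          simpa [mul_assoc] using this) z hz'
        simpa using this
    have hxH' : π ((D₀.nw l)⁻¹ * x * D₀.nw l) ∈ D.H := by
      rw [map_mul, map_mul, map_inv, hπnw]
      have := Data.N_conj_H ax (D.N.inv_mem (Data.nw_mem_N l)) hxH
      rwa [inv_inv] at this
    have := hnwH l _ (hAH i ⟨hx', hxH'⟩)
    simpa [mul_assoc] using this
  have hnroot : ∀ o, D₀.nroot o ∈ Xt o ⊔ Xt (D.opp o) ∧ ∃ h ∈ D.H, π (D₀.nroot o) = h * D.nroot o := by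
    intro o
    simp only [D₀]
    split_ifs with h
    · have e := h.choose_spec
      generalize h.choose = j at e
      subst e
      exact ⟨hnl j, 1, D.H.one_mem, by rw [hnπ, one_mul, ax.nroot_simp]⟩
    · have e : ((rl o).map nl).prod = D₀.nw (rl o) := rfl
      rw [e]
      refine ⟨?_, ?_⟩
      · refine (show Lt (ri o) ≤ (Xt o ⊔ Xt (D.opp o)).comap
          (MulAut.conj (D₀.nw (rl o))).toMonoidHom from sup_le ?_ ?_) (hnl (ri o))
        · intro z hz'
          refine Subgroup.mem_sup_left ?_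
          have := hnw (rl o) _ z hz'
          rwa [hreach] at this
        · intro z hz'
          refine Subgroup.mem_sup_right ?_
          have := hnw (rl o) _ z hz'
          rwa [Data.wl_opp ax, hreach] at this
      · obtain ⟨h', hh', e'⟩ := Data.conj_nroot_nw ax (rl o) (D.simp (ri o))
        rw [ax.nroot_simp, hreach] at e'
        exact ⟨h', hh', by rw [map_mul, map_mul, map_inv, hπnw, hnπ, e']⟩
  have hXgrp : ∀ o, Xt o ≤ D₀.grp := fun o => Data.X_le_grp (D := D₀) o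
  have hLgrp : ∀ i, Lt i ≤ D₀.grp := fun i => sup_le (hXgrp _) (hXgrp _)
  have hUr : ∀ i, (D₀.Urad i).map π = D.Urad i := by
    intro i
    simp only [Data.Urad, Subgroup.map_iSup, D₀, hXmap]
  have hU₀ : D₀.U ≤ Ut := iSup₂_le fun o ho x hx => (hUmem x).2
    ⟨Data.X_le_U (D := D) (show D.Pos o from ho) ((hXmem o x).1 hx).1, ((hXmem o x).1 hx).2⟩
  have hUr₀ : ∀ i, D₀.Urad i ≤ Ut := fun i => (iSup₂_le fun o ho x hx => hU₀ (Data.X_le_U (D := D₀) ho.1 hx))
  have hinjU : ∀ x ∈ Ut, ∀ y ∈ Ut, π x = π y → x = y := fun x hx y hy e =>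
    (eq_sec hz hk ((hUmem x).1 hx).2).trans ((congrArg _ e).trans (eq_sec hz hk ((hUmem y).1 hy).2).symm)
  have ax₀ : D₀.Axioms :=
    { pos_opp := ax.pos_opp, opp_opp := ax.opp_opp, pos_simp := ax.pos_simp, refl_simp := ax.refl_simp,
      refl_opp := ax.refl_opp, refl_refl := ax.refl_refl, refl_pos := ax.refl_pos, simp_inj := ax.simp_inj
      reach := ax.reach
      X_inj := fun o o' e => ax.X_inj (by
        rw [← hXmap o, ← hXmap o']; exact congrArg (Subgroup.map π) e)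
      X_ne_bot := fun o e => ax.X_ne_bot o (by
        rw [← hXmap o, show Xt o = ⊥ from e, Subgroup.map_bot])
      H_le := sup_le (inf_le_left.trans (hLgrp 0)) (inf_le_left.trans (hLgrp 1))
      nn_mem := fun i => hLgrp i (hnl i)
      conj_X := hrefl
      H_conj := fun o x hx => hHconj x (hHbH x hx) o
      nn_H := hnnH
      nn_sq := fun i => hAH i ⟨(Lt i).mul_mem (hnl i) (hnl i), by
        show π (nl i * nl i) ∈ D.H
        rw [map_mul, hnπ]; exact ax.nn_sq i⟩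
      nroot_simp := fun i => by
        have h : ∃ j, D.simp j = D.simp i := ⟨i, rfl⟩
        show dite _ _ _ = _
        rw [dif_pos h, ax.simp_inj h.choose_spec]
      conj_nroot := fun i o => by
        obtain ⟨h1, a, ha, e1⟩ := hnroot o
        obtain ⟨h2, b, hb, e2⟩ := hnroot (D.refl i o)
        obtain ⟨c, hc', e3⟩ := ax.conj_nroot i o
        refine ⟨nl i * D₀.nroot o * (nl i)⁻¹ * (D₀.nroot (D.refl i o))⁻¹, hroot (D.refl i o) _ ?_ ?_, by
          show _ = _ * D₀.nroot (D.refl i o)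
          rw [inv_mul_cancel_right]⟩
        · refine Subgroup.mul_mem _ ?_ (Subgroup.inv_mem _ h2)
          refine (show Xt o ⊔ Xt (D.opp o) ≤ (Xt (D.refl i o) ⊔ Xt (D.opp (D.refl i o))).comap
            (MulAut.conj (nl i)).toMonoidHom from sup_le
              (fun z hz' => Subgroup.mem_sup_left (hrefl i o z hz'))
              (fun z hz' => Subgroup.mem_sup_right (ax.refl_opp i o ▸ hrefl i _ z hz'))) h1
        · rw [map_mul, map_mul, map_mul, map_inv, map_inv, hnπ, e1, e2,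
            show D.nn i * (a * D.nroot o) * (D.nn i)⁻¹ * (b * D.nroot (D.refl i o))⁻¹ =
              D.nn i * a * (D.nn i)⁻¹ * (D.nn i * D.nroot o * (D.nn i)⁻¹) *
                (D.nroot (D.refl i o))⁻¹ * b⁻¹ by group, e3, ← mul_assoc, mul_inv_cancel_right]
          exact D.H.mul_mem (D.H.mul_mem (ax.nn_H i a ha) hc') (D.H.inv_mem hb)
      simp_normal := fun i o ho hne y hy z hz' => by
        have hy' := (hXmem _ y).1 hy
        have hz'' := (hXmem _ z).1 hz'
        have hmem : π (y * z * y⁻¹) ∈ D.Urad i := by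
          rw [map_mul, map_mul, map_inv]
          exact ax.simp_normal i o ho hne _ hy'.1 _ hz''.1
        obtain ⟨v, hv, e⟩ := Subgroup.mem_map.1 ((hUr i).symm ▸ hmem)
        have hyU : y ∈ Ut := hU₀ (Data.X_le_U (D := D₀) (ax.pos_simp i) hy)
        have hzU : z ∈ Ut := hU₀ (Data.X_le_U (D := D₀) ho hz')
        rwa [hinjU _ (Ut.mul_mem (Ut.mul_mem hyU hzU) (Ut.inv_mem hyU)) _ (hUr₀ i hv) e.symm]
      rank_one := fun i y hy hy1 => by
        have hy' := (hXmem _ y).1 hy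
        have hπy : π y ≠ 1 := fun e => hy1 (by
          have hm : y ∈ Lt i := Subgroup.mem_sup_right hy
          exact Subgroup.mem_bot.1 (hLker i ▸ ⟨hm, e⟩))
        obtain ⟨a, ha, h, hh, b, hb, e⟩ := ax.rank_one i _ hy'.1 hπy
        obtain ⟨a', ha', ea⟩ := Subgroup.mem_map.1 ((hXmap _).symm ▸ ha)
        obtain ⟨b', hb', eb⟩ := Subgroup.mem_map.1 ((hXmap _).symm ▸ hb)
        refine ⟨a', ha', a'⁻¹ * y * b'⁻¹ * (nl i)⁻¹, hAH i ⟨?_, ?_⟩, b', hb', by
          show y = a' * (a'⁻¹ * y * b'⁻¹ * (nl i)⁻¹) * nl i * b'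
          group⟩
        · exact (Lt i).mul_mem ((Lt i).mul_mem ((Lt i).mul_mem ((Lt i).inv_mem (Subgroup.mem_sup_left ha'))
            (Subgroup.mem_sup_right hy)) ((Lt i).inv_mem (Subgroup.mem_sup_left hb'))) ((Lt i).inv_mem (hnl i))
        · show π _ ∈ D.H
          rw [map_mul, map_mul, map_mul, map_inv, map_inv, map_inv, ea, eb, hnπ, e]
          simpa [mul_assoc] using hh
      neg_not_mem := fun o ho => by
        rw [eq_bot_iff]
        rintro x ⟨hx, hxB⟩
        have hB : π x ∈ D.B := by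
          refine (show D₀.B ≤ D.B.comap π from sup_le (fun u hu => Data.U_le_B ?_)
            (fun u hu => Data.H_le_B (hHbH u hu))) hxB
          exact hUmap ▸ Subgroup.mem_map_of_mem π (hU₀ hu)
        have h1 : π x ∈ D.X o ⊓ D.B := ⟨((hXmem o x).1 hx).1, hB⟩
        rw [ax.neg_not_mem o ho, Subgroup.mem_bot] at h1
        rw [Subgroup.mem_bot, eq_sec hz hk ((hXmem o x).1 hx).2, h1, ← map_one π,
          ← eq_sec hz hk ⟨0, by simp⟩] }
  -- the lifted group is everything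
  have hgrp : D₀.grp.map π = D.grp := by simp only [Data.grp, Subgroup.map_iSup, D₀, hXmap]
  have htop : π.ker ≤ D₀.grp := by
    refine hc.trans ?_
    rw [commutator_def, Subgroup.commutator_le]
    intro a _ b _
    have hma : π a ∈ D₀.grp.map π := by rw [hgrp, ← hπ]; exact ⟨a, rfl⟩
    obtain ⟨a', ha', ea⟩ := Subgroup.mem_map.1 hma
    have hmb : π b ∈ D₀.grp.map π := by rw [hgrp, ← hπ]; exact ⟨b, rfl⟩
    obtain ⟨b', hb', eb⟩ := Subgroup.mem_map.1 hmb
    rw [Schur.commutatorElement_congr hz ea.symm eb.symm, commutatorElement_def]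
    exact D₀.grp.mul_mem (D₀.grp.mul_mem (D₀.grp.mul_mem ha' hb') (D₀.grp.inv_mem ha')) (D₀.grp.inv_mem hb')
  rw [eq_bot_iff]
  intro z hz1
  obtain ⟨b, hb, l, u, hu, e⟩ := Data.exists_normal_form ax₀ (htop hz1)
  have hmemB : ∀ x ∈ D₀.B, π x ∈ D.B := fun x hx =>
    (show D₀.B ≤ D.B.comap π from sup_le
      (fun v hv => Data.U_le_B (hUmap ▸ Subgroup.mem_map_of_mem π (hU₀ hv)))
      (fun v hv => Data.H_le_B (hHbH v hv))) hx
  have hl : D.nw l ∈ D.H := by
    have e' : π z = π b * D.nw l * π u := by rw [e, map_mul, map_mul, hπnw]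
    have := Data.inv_mul_mem_H_of_eq ax (n := D.nw l) (n' := D.nw []) (Data.nw_mem_N l) (Data.nw_mem_N [])
      (hmemB b hb) D.B.one_mem (hmemB u (Data.U_le_B (Data.Um_le_U _ hu))) D.B.one_mem
      (b' := 1) (u' := 1) (by rw [← e', MonoidHom.mem_ker.1 hz1]; simp)
    rw [Data.nw_nil, mul_one] at this
    exact inv_inv (D.nw l) ▸ D.H.inv_mem this
  have hwl : D₀.wl l = 1 :=
    Data.acts_unique ax (Data.acts_nw ax l) (Data.acts_H ax hl)
  have hlH : D₀.nw l ∈ D₀.H := by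
    refine Data.mem_H_of_pos_preserving ax₀ (Data.nw_mem_N l) (hwl ▸ Data.acts_nw ax₀ l) fun o ho => ?_
    simpa using ho
  have hzB : z ∈ D₀.B := e ▸ D₀.B.mul_mem (D₀.B.mul_mem hb (Data.H_le_B hlH))
    (Data.U_le_B (Data.Um_le_U _ hu))
  obtain ⟨v, hv, h, hh, e2⟩ := (Data.mem_B_iff ax₀).1 hzB
  have hvU : π v ∈ D.U ⊓ D.H := by
    refine ⟨hUmap ▸ Subgroup.mem_map_of_mem π (hU₀ hv), ?_⟩
    have h1 : π v * π h = 1 := by rw [← map_mul, ← e2]; exact hz1
    rw [eq_inv_of_mul_eq_one_left h1]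
    exact D.H.inv_mem (hHbH h hh)
  rw [hH, Subgroup.mem_bot] at hvU
  have hv1 : v = 1 := hinjU v (hU₀ hv) 1 Ut.one_mem (by rw [hvU, map_one])
  subst hv1
  rw [one_mul] at e2
  subst e2
  -- a product of two torus elements
  have hnorm : A 1 ≤ Subgroup.normalizer (A 0 : Set E) := by
    intro a ha
    have key : ∀ a : E, π a ∈ D.H → ∀ x ∈ A 0, a * x * a⁻¹ ∈ A 0 := fun a ha x hx =>
      ⟨hLconj a ha 0 x hx.1, by
        show π (a * x * a⁻¹) ∈ D.H
        rw [map_mul, map_mul, map_inv]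
        exact D.H.mul_mem (D.H.mul_mem ha hx.2) (D.H.inv_mem ha)⟩
    refine Subgroup.mem_normalizer_iff.2 fun x => ⟨key a ha.2 x, fun hx => ?_⟩
    have := key a⁻¹ (by rw [map_inv]; exact D.H.inv_mem ha.2) _ hx
    simpa [mul_assoc] using this
  have hz' : z ∈ A 0 ⊔ A 1 := hh
  rw [← SetLike.mem_coe, Subgroup.coe_mul_of_right_le_normalizer_left _ _ hnorm, Set.mem_mul] at hz'
  obtain ⟨a, ha, b', hb', rfl⟩ := hz'
  have h1 : π a * π b' = 1 := by rw [← map_mul]; exact hz1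
  have h2 : π a ∈ (D.X (D.simp 0) ⊔ D.X (D.opp (D.simp 0))) ⊓
      (D.X (D.simp 1) ⊔ D.X (D.opp (D.simp 1))) ⊓ D.H := by
    refine ⟨⟨hLmap 0 ▸ Subgroup.mem_map_of_mem π ha.1, ?_⟩, ha.2⟩
    rw [eq_inv_of_mul_eq_one_left h1]
    exact Subgroup.inv_mem _ (hLmap 1 ▸ Subgroup.mem_map_of_mem π hb'.1)
  rw [hind, Subgroup.mem_bot] at h2
  rw [h2, one_mul] at h1
  rw [show a = 1 from Subgroup.mem_bot.1 (hLker 0 ▸ ⟨ha.1, h2⟩),
    show b' = 1 from Subgroup.mem_bot.1 (hLker 1 ▸ ⟨hb'.1, h1⟩), one_mul]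
  exact Subgroup.one_mem _

end Main

end Cfsg.Agent.Schur.RootExt
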