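import Cfsg.Agent.Lib.Schur.Stem

/-!
Trivial kernel in stem extensions, prime by prime, from a given Sylow subgroup of the image.

* `exists_sylow_map_eq`: a Sylow subgroup of the source over a given one of the image;
* `local_of_not_sq_dvd`: the case `p ^ 2 ∤ |G|`;
* `commutator_eq_bot_of_cubic`: image elementary of rank three permuted by an element as the cubic
  `X ^ 3 = X + 1` does;
* `commutator_eq_bot_of_inverted`: image generated by two commuting elements, one fixed and one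
  inverted by the conjugation with some element (odd exponent).
-/

set_option autoImplicit false
set_option linter.style.haveILetI false

namespace Cfsg.Agent.Schur

open Subgroup
open scoped commutatorElement

universe u v

variable {Γ : Type u} {G : Type v} [Group Γ] [Group G]

theorem exists_sylow_map_eq [Finite Γ] (σ : Γ →* G) (hσ : Function.Surjective σ) {p : ℕ}
    [Fact p.Prime] (Q : Sylow p G) :
    ∃ P : Sylow p Γ, (P : Subgroup Γ).map σ = Q := by
  haveI : Finite G := Finite.of_surjective σ hσ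
  obtain ⟨P, rfl⟩ := Sylow.mapSurjective_surjective hσ p Q
  exact ⟨P, rfl⟩

theorem local_of_not_sq_dvd [Finite Γ] (σ : Γ →* G) (hσ : Function.Surjective σ)
    (hz : σ.ker ≤ center Γ) {p : ℕ} (hp : p.Prime) (hp2 : ¬ p ^ 2 ∣ Nat.card G) :
    ∃ P : Sylow p Γ, ⁅(P : Subgroup Γ), (P : Subgroup Γ)⁆ ⊓ σ.ker = ⊥ := by
  haveI := Fact.mk hp
  haveI : Finite G := Finite.of_surjective σ hσ
  obtain ⟨P⟩ : Nonempty (Sylow p Γ) := inferInstance
  haveI : IsCyclic ((P : Subgroup Γ).map σ) := by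
    obtain ⟨k, hk⟩ := (P.isPGroup'.map σ).exists_card_eq
    rcases k with _ | _ | k
    · rw [pow_zero] at hk
      exact @isCyclic_of_subsingleton _ _ (Nat.card_eq_one_iff_unique.1 hk).1
    · exact isCyclic_of_prime_card (p := p) (by rw [hk, pow_one])
    · exact absurd ((pow_dvd_pow p (by omega)).trans (hk ▸ card_subgroup_dvd_card _)) hp2
  exact ⟨P, commutator_inf_ker_eq_bot_of_isCyclic σ hz P⟩

/-- If the image of `P` is generated by pairwise commuting `A, B, D` with `B = A ^ g`, `D = B ^ g`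
and `D ^ g = A * B` (conjugation by some `g`), then `P` is abelian. -/
theorem commutator_eq_bot_of_cubic (σ : Γ →* G) (hz : σ.ker ≤ center Γ) (P : Subgroup Γ)
    {a g : Γ} (hab : σ a * σ (g * a * g⁻¹) = σ (g * a * g⁻¹) * σ a)
    (had : σ a * σ (g * (g * a * g⁻¹) * g⁻¹) = σ (g * (g * a * g⁻¹) * g⁻¹) * σ a)
    (hrel : σ (g * (g * (g * a * g⁻¹) * g⁻¹) * g⁻¹) = σ a * σ (g * a * g⁻¹))
    (hgen : P.map σ ≤
      Subgroup.closure {σ a, σ (g * a * g⁻¹), σ (g * (g * a * g⁻¹) * g⁻¹)}) : ⁅P, P⁆ = ⊥ := by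
  set b := g * a * g⁻¹ with hb
  set d := g * b * g⁻¹ with hd
  have cen : ∀ {z : Γ}, σ z = 1 → ∀ y, y * z = z * y := fun h y => mem_center_iff.1 (hz h) y
  have hcomk : ∀ {x y : Γ}, σ x * σ y = σ y * σ x → σ ⁅x, y⁆ = 1 := fun {x y} h => by
    rw [map_commutatorElement]; exact commutatorElement_eq_one_iff_mul_comm.2 h
  have hconj : ∀ x y : Γ, σ x * σ y = σ y * σ x →
      ⁅g * x * g⁻¹, g * y * g⁻¹⁆ = ⁅x, y⁆ := fun x y h => by
    have : ⁅g * x * g⁻¹, g * y * g⁻¹⁆ = g * ⁅x, y⁆ * g⁻¹ := by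
      simp only [commutatorElement_def]; group
    rw [this, cen (hcomk h) g, mul_inv_cancel_right]
  obtain ⟨z, hzk, hz'⟩ : ∃ z, σ z = 1 ∧ g * d * g⁻¹ = z * (a * b) := by
    refine ⟨g * d * g⁻¹ * (a * b)⁻¹, ?_, by group⟩
    simp only [map_mul, map_inv] at hrel ⊢
    rw [hrel]; group
  have hzc : ∀ x y : Γ, ⁅x, z * y⁆ = ⁅x, y⁆ := fun x y => by
    simp only [commutatorElement_def, mul_inv_rev]
    calc x * (z * y) * x⁻¹ * (y⁻¹ * z⁻¹) = (x * z) * y * x⁻¹ * y⁻¹ * z⁻¹ := by group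
      _ = z * (x * y * x⁻¹ * y⁻¹) * z⁻¹ := by rw [cen hzk x]; group
      _ = x * y * x⁻¹ * y⁻¹ := by
        rw [← cen hzk (x * y * x⁻¹ * y⁻¹), mul_inv_cancel_right]
  have hba : σ b * σ a = σ a * σ b := hab.symm
  have hbd : σ b * σ d = σ d * σ b := by
    rw [hd]; simp only [map_mul, map_inv]
    have : σ b = σ g * σ a * (σ g)⁻¹ := by rw [hb, map_mul, map_mul, map_inv]
    rw [this]
    simpa only [mul_assoc, inv_mul_cancel_left, hb, map_mul, map_inv] using
      congrArg (fun q => σ g * q * (σ g)⁻¹) hab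
  have hmul : ∀ x u v : Γ, σ x * σ v = σ v * σ x → ⁅x, u * v⁆ = ⁅x, u⁆ * ⁅x, v⁆ := fun x u v h => by
    calc ⁅x, u * v⁆ = ⁅x, u⁆ * (u * ⁅x, v⁆ * u⁻¹) := by simp only [commutatorElement_def]; group
      _ = ⁅x, u⁆ * ⁅x, v⁆ := by rw [cen (hcomk h) u, mul_inv_cancel_right]
  set c := ⁅a, b⁆ with hc
  have e1 : ⁅b, d⁆ = c := hconj a b hab
  have e2 : ⁅a, d⁆ = c⁻¹ := by
    rw [← hconj a d had, ← hb, hz', hzc, hmul b a b rfl, commutatorElement_self, mul_one,
      hc, commutatorElement_inv]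
  have e3 : ⁅b, d⁆ = 1 := by
    rw [← hconj b d hbd, ← hd, hz', hzc, hmul d a b hbd.symm]
    rw [← commutatorElement_inv a d, ← commutatorElement_inv b d, e1, e2, inv_inv, mul_inv_cancel]
  have hc1 : c = 1 := by rw [← e1, e3]
  have hab' : a * b = b * a := commutatorElement_eq_one_iff_mul_comm.1 hc1
  have had' : a * d = d * a := commutatorElement_eq_one_iff_mul_comm.1 (by rw [e2, hc1, inv_one])
  have hbd' : b * d = d * b := commutatorElement_eq_one_iff_mul_comm.1 e3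
  have hgens : ∀ x ∈ ({a, b, d} : Set Γ) ∪ σ.ker, ∀ y ∈ ({a, b, d} : Set Γ) ∪ σ.ker,
      x * y = y * x := by
    intro x hx y hy
    rcases hx with hx | hx
    · rcases hy with hy | hy
      · rcases hx with rfl | rfl | rfl <;> rcases hy with rfl | rfl | rfl <;>
          first | rfl | assumption | (apply Eq.symm; assumption)
      · exact mem_center_iff.1 (hz hy) x
    · exact (mem_center_iff.1 (hz hx) y).symm
  have hle : P ≤ Subgroup.closure (({a, b, d} : Set Γ) ∪ σ.ker) := by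
    rw [Subgroup.closure_union, Subgroup.closure_eq, ← Subgroup.comap_map_eq,
      MonoidHom.map_closure, Set.image_insert_eq, Set.image_insert_eq, Set.image_singleton]
    exact fun x hx => hgen (mem_map_of_mem σ hx)
  rw [Subgroup.commutator_eq_bot_iff_le_centralizer]
  intro x hx
  rw [mem_centralizer_iff]
  intro y hy
  exact congrArg Subtype.val
    ((Subgroup.isMulCommutative_closure hgens).is_comm.comm ⟨y, hle hy⟩ ⟨x, hle hx⟩)

/-- If the image of `P` is generated by commuting `σ a`, `σ b`, with `σ b` of odd exponent and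
some element fixing `σ a` and inverting `σ b` under conjugation, then `P` is abelian. -/
theorem commutator_eq_bot_of_inverted (σ : Γ →* G) (hz : σ.ker ≤ center Γ) (P : Subgroup Γ)
    {a b g : Γ} {n : ℕ} (hn : Odd n) (hbn : σ b ^ n = 1) (hab : σ a * σ b = σ b * σ a)
    (hga : σ g * σ a = σ a * σ g) (hgb : σ g * σ b = (σ b)⁻¹ * σ g)
    (hgen : P.map σ ≤ Subgroup.closure {σ a, σ b}) : ⁅P, P⁆ = ⊥ := by
  have cen : ∀ {z : Γ}, σ z = 1 → ∀ y, y * z = z * y := fun h y => mem_center_iff.1 (hz h) y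
  set c := a * b * a⁻¹ * b⁻¹ with hc
  have hck : σ c = 1 := by
    simp only [hc, map_mul, map_inv, hab]; group
  have hcc := cen hck
  have habc : a * b = c * (b * a) := by rw [hc]; group
  -- powers of `b`
  have hpow : ∀ k : ℕ, a * b ^ k * a⁻¹ = c ^ k * b ^ k := by
    intro k
    rw [← conj_pow]
    have : a * b * a⁻¹ = c * b := by rw [habc]; group
    rw [this]
    exact (show Commute c b from (hcc b).symm).mul_pow k
  have hcn : c ^ n = 1 := by
    have h1 := hpow n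
    have h2 : a * b ^ n * a⁻¹ = b ^ n := by
      rw [cen (show σ (b ^ n) = 1 by rw [map_pow, hbn]) a, mul_inv_cancel_right]
    rw [h2] at h1
    exact right_eq_mul.1 h1
  -- conjugation by `g`
  obtain ⟨z, hzk, hz'⟩ : ∃ z, σ z = 1 ∧ g * a * g⁻¹ = z * a :=
    ⟨g * a * g⁻¹ * a⁻¹, by simp only [map_mul, map_inv, hga]; group, by group⟩
  obtain ⟨w, hwk, hw'⟩ : ∃ w, σ w = 1 ∧ g * b * g⁻¹ = w * b⁻¹ :=
    ⟨g * b * g⁻¹ * b, by simp only [map_mul, map_inv, hgb]; group, by group⟩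
  have hcinv : c = c⁻¹ := by
    have e1 : g * c * g⁻¹ = c := by rw [hcc g, mul_inv_cancel_right]
    have e2 : g * c * g⁻¹ = (g * a * g⁻¹) * (g * b * g⁻¹) * (g * a * g⁻¹)⁻¹ * (g * b * g⁻¹)⁻¹ := by
      rw [hc]; group
    rw [e1, hz', hw'] at e2
    have e3 : z * a * (w * b⁻¹) * (z * a)⁻¹ * (w * b⁻¹)⁻¹ = a * b⁻¹ * a⁻¹ * b := by
      calc z * a * (w * b⁻¹) * (z * a)⁻¹ * (w * b⁻¹)⁻¹
          = z * (a * w) * b⁻¹ * a⁻¹ * z⁻¹ * b * w⁻¹ := by group
        _ = z * w * (a * b⁻¹ * a⁻¹) * z⁻¹ * b * w⁻¹ := by rw [cen hwk a]; group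
        _ = w * (z * (a * b⁻¹ * a⁻¹)) * z⁻¹ * b * w⁻¹ := by rw [cen hwk z]; group
        _ = w * (a * b⁻¹ * a⁻¹ * b) * w⁻¹ := by rw [← cen hzk (a * b⁻¹ * a⁻¹)]; group
        _ = a * b⁻¹ * a⁻¹ * b := by rw [← cen hwk, mul_inv_cancel_right]
    rw [e3] at e2
    have e4 : a * b⁻¹ * a⁻¹ * b = c⁻¹ := by
      have e5 : a * b⁻¹ * a⁻¹ = b⁻¹ * c⁻¹ := by
        have : a * b * a⁻¹ = c * b := by rw [habc]; group
        calc a * b⁻¹ * a⁻¹ = (a * b * a⁻¹)⁻¹ := by group
          _ = b⁻¹ * c⁻¹ := by rw [this]; group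
      rw [e5, cen (show σ c⁻¹ = 1 by rw [map_inv, hck, inv_one]) b⁻¹, inv_mul_cancel_right]
    rw [e4] at e2
    exact e2
  have hc1 : c = 1 := by
    obtain ⟨m, rfl⟩ := hn
    have h2 : c ^ 2 = 1 := by rw [sq]; nth_rewrite 1 [hcinv]; rw [inv_mul_cancel]
    rwa [pow_succ, pow_mul, h2, one_pow, one_mul] at hcn
  have hcomm : a * b = b * a := by rw [habc, hc1, one_mul]
  -- `P` lies in an abelian subgroup
  have hgens : ∀ x ∈ ({a, b} : Set Γ) ∪ σ.ker, ∀ y ∈ ({a, b} : Set Γ) ∪ σ.ker, x * y = y * x := by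
    intro x hx y hy
    rcases hx with hx | hx
    · rcases hy with hy | hy
      · rcases hx with rfl | rfl <;> rcases hy with rfl | rfl <;>
          first | rfl | exact hcomm | exact hcomm.symm
      · exact mem_center_iff.1 (hz hy) x
    · exact (mem_center_iff.1 (hz hx) y).symm
  have hle : P ≤ Subgroup.closure (({a, b} : Set Γ) ∪ σ.ker) := by
    rw [Subgroup.closure_union, Subgroup.closure_eq, ← Subgroup.comap_map_eq,
      MonoidHom.map_closure, Set.image_insert_eq, Set.image_singleton]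
    exact fun x hx => hgen (mem_map_of_mem σ hx)
  rw [Subgroup.commutator_eq_bot_iff_le_centralizer]
  intro x hx
  rw [mem_centralizer_iff]
  intro y hy
  have hx' := hle hx
  have hy' := hle hy
  exact congrArg Subtype.val
    ((Subgroup.isMulCommutative_closure hgens).is_comm.comm ⟨y, hy'⟩ ⟨x, hx'⟩)

end Cfsg.Agent.Schur
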