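import Cfsg.Agent.S2117
import Cfsg.Agent.Lib.Schur.Stem
import Cfsg.Agent.Lib.Schur.SylowLocal

/-!
Central extensions of SL₂ in characteristic `p` with kernel of prime exponent `r ≠ p`: a subgroup generated
by `p`-elements meets the kernel trivially.
-/

set_option autoImplicit false

namespace Cfsg.Agent.Schur

open Subgroup
open scoped MatrixGroups commutatorElement

theorem inf_ker_eq_bot_of_sl2 {E M F : Type*} [Group E] [Finite E] [Group M] [Field F] [Finite F] {p r : ℕ}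
    [CharP F p] [hp : Fact p.Prime] (hr : r.Prime) (hrp : r ≠ p) (π : E →* M) (hz : π.ker ≤ center E)
    (hker : ∀ z ∈ π.ker, z ^ r = 1) {L : Subgroup E} {L' : Subgroup M} (hL : L.map π = L')
    (hgen : L ≤ Subgroup.closure {x | x ∈ L ∧ ∃ j, x ^ p ^ j = 1}) (ψ : SL(2, F) →* M)
    (hψ : Function.Injective ψ) (hψr : ψ.range = L') : L ⊓ π.ker = ⊥ := by
  classical
  subst hL
  let e : SL(2, F) ≃* ↥(L.map π) := (MonoidHom.ofInjective hψ).trans (MulEquiv.subgroupCongr hψr)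
  let τ : ↥L →* SL(2, F) := e.symm.toMonoidHom.comp (π.subgroupMap L)
  have hτ : ∀ x : ↥L, τ x = 1 ↔ π (x : E) = 1 := fun x => by
    show e.symm _ = 1 ↔ _
    rw [MulEquiv.map_eq_one_iff, Subtype.ext_iff]
    rfl
  have hτz : τ.ker ≤ center ↥L := fun x hx => mem_center_iff.2 fun y =>
    Subtype.ext (mem_center_iff.1 (hz ((hτ x).1 hx)) (y : E))
  have hτr : ∀ x ∈ τ.ker, x ^ r = 1 := fun x hx => Subtype.ext (by
    rw [SubmonoidClass.coe_pow, hker _ ((hτ x).1 hx)]; rfl)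
  have hcop : ∀ j, Nat.Coprime (p ^ j) r := fun j =>
    Nat.Coprime.pow_left j ((Nat.coprime_primes hp.out hr).2 hrp.symm)
  have htriv : ∀ {G : Type _} [Group G] (x : G) (j : ℕ), x ^ p ^ j = 1 → x ^ r = 1 → x = 1 := by
    intro G _ x j h1 h2
    have := pow_gcd_eq_one.2 ⟨h1, h2⟩
    rwa [(hcop j).gcd_eq_one, pow_one] at this
  -- every element is a `p`-element modulo the derived group
  have hab : ∀ x : ↥L, ∃ j, x ^ p ^ j ∈ _root_.commutator ↥L := by
    let Q : Subgroup ↥L :=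
      { carrier := {x | ∃ j, (Abelianization.of x) ^ p ^ j = 1}
        one_mem' := ⟨0, by simp⟩
        mul_mem' := by
          rintro a b ⟨i, hi⟩ ⟨j, hj⟩
          refine ⟨i + j, ?_⟩
          rw [map_mul, mul_pow, pow_add, pow_mul, hi, one_pow, one_mul, mul_comm (p ^ i), pow_mul, hj, one_pow]
        inv_mem' := by
          rintro a ⟨i, hi⟩
          exact ⟨i, by rw [map_inv, inv_pow, hi, inv_one]⟩ }
    have hle : L ≤ Q.map L.subtype := hgen.trans ((Subgroup.closure_le _).2 (by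
      rintro x ⟨hx, j, hj⟩
      refine ⟨⟨x, hx⟩, ⟨j, ?_⟩, rfl⟩
      rw [← map_pow, show (⟨x, hx⟩ : ↥L) ^ p ^ j = 1 from Subtype.ext (by simpa using hj), map_one]))
    intro x
    obtain ⟨y, ⟨j, hj⟩, e⟩ := hle x.2
    rw [← Subtype.ext e]
    refine ⟨j, ?_⟩
    rw [← map_pow, ← MonoidHom.mem_ker, Abelianization.ker_of] at hj
    exact hj
  have hc : τ.ker ≤ _root_.commutator ↥L := by
    intro x hx
    obtain ⟨j, hj⟩ := hab x
    rw [← Abelianization.ker_of, MonoidHom.mem_ker] at hj ⊢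
    refine htriv _ j (by rw [← map_pow]; exact hj) ?_
    rw [← map_pow, hτr x hx, map_one]
  have hbot : τ.ker = ⊥ := by
    refine ker_eq_bot_of_sylow τ hτz hc fun l hl => ?_
    have := Fact.mk hl
    obtain ⟨P⟩ : Nonempty (Sylow l ↥L) := inferInstance
    refine ⟨P, ?_⟩
    by_cases hlp : l = p
    · subst hlp
      rw [eq_bot_iff]
      rintro x ⟨h1, h2⟩
      obtain ⟨j, hj⟩ := P.2 ⟨x, Subgroup.commutator_le_self _ h1⟩
      exact mem_bot.2 (htriv x j (by simpa using congrArg Subtype.val hj) (hτr x h2))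
    · refine S2117.commutator_inf_ker_cross τ hτz ?_ P P.2
      rw [Ne, CharP.cast_eq_zero_iff F p]
      exact fun hd => hlp ((Nat.prime_dvd_prime_iff_eq hp.out hl).1 hd).symm
  rw [eq_bot_iff]
  rintro x ⟨hx, hxk⟩
  have hm : (⟨x, hx⟩ : ↥L) ∈ τ.ker := (hτ _).2 hxk
  rw [hbot, mem_bot] at hm
  exact mem_bot.2 (congrArg Subtype.val hm)

end Cfsg.Agent.Schur
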