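import Cfsg.Agent.Lib.Schur.Basic
import Mathlib

/-!
# Multipliers of central quotients of perfect groups with trivial multiplier

* `hasSchurMultiplier_quotient` : `S` finite perfect with trivial multiplier, `N` central:
  the multiplier of `S ⧸ N` is `N`.
-/

set_option autoImplicit false

namespace Cfsg.Agent.Schur

open Subgroup
open scoped commutatorElement

universe u v

/-- Commutators in a central extension depend only on the images. -/
theorem commutator_congr {Γ : Type*} [Group Γ] {G : Type*} [Group G] {σ : Γ →* G} (hz : σ.ker ≤ center Γ)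
    {a a' b b' : Γ} (ha : σ a = σ a') (hb : σ b = σ b') : ⁅a, b⁆ = ⁅a', b'⁆ := by
  have key : ∀ x y : Γ, σ x = σ y → ∃ z ∈ center Γ, y = x * z := fun x y h =>
    ⟨x⁻¹ * y, hz (by rw [MonoidHom.mem_ker, map_mul, map_inv, h, inv_mul_cancel]), by group⟩
  obtain ⟨z, hz', rfl⟩ := key a a' ha
  obtain ⟨w, hw, rfl⟩ := key b b' hb
  have h1 := mem_center_iff.1 hz' (b * w)
  have h2 := mem_center_iff.1 hw a⁻¹
  symm
  rw [commutatorElement_def, commutatorElement_def]
  calc a * z * (b * w) * (a * z)⁻¹ * (b * w)⁻¹ = a * (z * (b * w) * z⁻¹) * a⁻¹ * (b * w)⁻¹ := by group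
    _ = a * b * (w * a⁻¹) * w⁻¹ * b⁻¹ := by rw [← h1]; group
    _ = a * b * a⁻¹ * b⁻¹ := by rw [← h2]; group

/-- Homomorphisms from a perfect group with trivial multiplier lift through central extensions. -/
theorem exists_perfect_lift {S : Type u} [Group S] [Finite S] (hperf : _root_.commutator S = ⊤)
    (hS : Cfsg.HasCyclicSchurMultiplier S 1) {Γ : Type u} [Group Γ] {G : Type u} [Group G] (σ : Γ →* G)
    (hσ : Function.Surjective σ) (hz : σ.ker ≤ center Γ) (π : S →* G) :
    ∃ f : S →* Γ, σ.comp f = π := by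
  let Δ : Subgroup (Γ × S) := (σ.comp (MonoidHom.fst Γ S)).eqLocus (π.comp (MonoidHom.snd Γ S))
  let τ : ↥Δ →* S := (MonoidHom.snd Γ S).comp Δ.subtype
  have hτ : Function.Surjective τ := fun s => by
    obtain ⟨g, hg⟩ := hσ (π s)
    exact ⟨⟨(g, s), hg⟩, rfl⟩
  have hτz : τ.ker ≤ center ↥Δ := by
    intro x hx
    have hx2 : (x : Γ × S).2 = 1 := hx
    have hk : (x : Γ × S).1 ∈ σ.ker := by
      have h0 : σ (x : Γ × S).1 = π (x : Γ × S).2 := x.2
      rw [MonoidHom.mem_ker, h0, hx2, map_one]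
    refine mem_center_iff.2 fun y => Subtype.ext (Prod.ext ?_ ?_)
    · exact mem_center_iff.1 (hz hk) _
    · show (y : Γ × S).2 * (x : Γ × S).2 = (x : Γ × S).2 * (y : Γ × S).2
      rw [hx2, one_mul, mul_one]
  have hbot := ker_inf_commutator_eq_bot hS τ hτ hτz
  let D : Subgroup ↥Δ := _root_.commutator ↥Δ
  let τ' : ↥D →* S := τ.comp D.subtype
  have hinj : Function.Injective τ' := by
    rw [injective_iff_map_eq_one]
    intro x hx
    have : (x : ↥Δ) ∈ τ.ker ⊓ _root_.commutator ↥Δ := ⟨hx, x.2⟩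
    rw [hbot, mem_bot] at this
    exact Subtype.ext this
  have hsurj : Function.Surjective τ' := by
    intro s
    have hs : s ∈ D.map τ := by
      show s ∈ (_root_.commutator ↥Δ).map τ
      rw [commutator_def, map_commutator, map_top_of_surjective τ hτ, ← commutator_def, hperf]
      exact mem_top s
    obtain ⟨d, hd, hde⟩ := hs
    exact ⟨⟨d, hd⟩, hde⟩
  let e : ↥D ≃* S := MulEquiv.ofBijective τ' ⟨hinj, hsurj⟩
  refine ⟨((MonoidHom.fst Γ S).comp (Δ.subtype.comp D.subtype)).comp e.symm.toMonoidHom, ?_⟩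
  ext s
  have h1 : σ (((e.symm s : ↥D) : ↥Δ) : Γ × S).1 = π (((e.symm s : ↥D) : ↥Δ) : Γ × S).2 :=
    ((e.symm s : ↥D) : ↥Δ).2
  exact h1.trans (congrArg π (e.apply_symm_apply s))

/-- The multiplier of a central quotient of a perfect group with trivial multiplier. -/
theorem hasSchurMultiplier_quotient {S : Type u} [Group S] [Finite S] (hperf : _root_.commutator S = ⊤)
    (hS : Cfsg.HasCyclicSchurMultiplier S 1) (N : Subgroup S) [N.Normal] (hN : N ≤ center S) {A : Type v}
    [CommGroup A] (e : ↥N ≃* A) : Cfsg.HasSchurMultiplier (S ⧸ N) A := by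
  refine ⟨⟨S, inferInstance, inferInstance, QuotientGroup.mk' N,
    ⟨QuotientGroup.mk'_surjective N, by rw [QuotientGroup.ker_mk']; exact hN,
      by rw [hperf]; exact le_top⟩, ⟨(MulEquiv.subgroupCongr (QuotientGroup.ker_mk' N)).trans e⟩⟩, ?_⟩
  intro Γ _ _ σ hσ
  obtain ⟨f, hf⟩ := exists_perfect_lift hperf hS σ hσ.1 hσ.2.1 (QuotientGroup.mk' N)
  have hfσ : ∀ s, σ (f s) = QuotientGroup.mk' N s := fun s => DFunLike.congr_fun hf s
  let g : ↥N →* ↥σ.ker := (f.comp N.subtype).codRestrict σ.ker fun x => by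
    rw [MonoidHom.mem_ker]
    exact (hfσ x).trans ((QuotientGroup.eq_one_iff _).2 x.2)
  have hsurj : Function.Surjective f := by
    intro γ
    obtain ⟨s, hs⟩ := QuotientGroup.mk'_surjective N (σ γ)
    have hker : (f s)⁻¹ * γ ∈ σ.ker := by
      rw [MonoidHom.mem_ker, map_mul, map_inv, hfσ, hs, inv_mul_cancel]
    have hle : _root_.commutator Γ ≤ f.range := by
      rw [commutator_def, commutator_le]
      rintro a - b -
      obtain ⟨u, hu⟩ := QuotientGroup.mk'_surjective N (σ a)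
      obtain ⟨v, hv⟩ := QuotientGroup.mk'_surjective N (σ b)
      exact ⟨⁅u, v⁆, (map_commutatorElement f u v).trans
        (commutator_congr hσ.2.1 ((hfσ u).trans hu) ((hfσ v).trans hv))⟩
    obtain ⟨t, ht⟩ := hle (hσ.2.2 hker)
    exact ⟨s * t, by rw [map_mul, ht, mul_inv_cancel_left]⟩
  refine ⟨g.comp e.symm.toMonoidHom, ?_⟩
  rintro ⟨k, hk⟩
  obtain ⟨s, rfl⟩ := hsurj k
  have hs : s ∈ N := by
    rw [MonoidHom.mem_ker, hfσ] at hk
    exact (QuotientGroup.eq_one_iff _).1 hk
  exact ⟨e ⟨s, hs⟩, Subtype.ext (by simp [g])⟩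

end Cfsg.Agent.Schur
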