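import Cfsg.Agent.Lib.Schur.Stem

/-!
Reduction of "trivial Schur multiplier" to stem extensions whose kernel has prime exponent, and the
resulting local criterion.
-/

set_option autoImplicit false

namespace Cfsg.Agent.Schur

open Subgroup
open scoped commutatorElement

universe u v

/-- A subgroup `D` of the kernel is all of it if every quotient by a subgroup containing `D`, with
kernel of prime exponent, is injective. -/
theorem ker_le_of_exponent {G : Type v} [Group G] [Finite G] {Γ : Type u} [Group Γ] [Finite Γ]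
    (σ : Γ →* G) (hσ : Cfsg.IsStemExtension σ) (D : Subgroup Γ) (hD : D ≤ σ.ker)
    (h : ∀ (p : ℕ), p.Prime → ∀ (M : Subgroup Γ) [M.Normal] (hM : M ≤ σ.ker), D ≤ M →
      Cfsg.IsStemExtension (QuotientGroup.lift M σ hM) →
      (∀ z ∈ (QuotientGroup.lift M σ hM).ker, z ^ p = 1) →
      (QuotientGroup.lift M σ hM).ker = ⊥) :
    σ.ker ≤ D := by
  by_contra hne
  have hidx : D.relIndex σ.ker ≠ 1 := fun h1 => hne (Subgroup.relIndex_eq_one.1 h1)
  obtain ⟨p, hp, hdvd⟩ := Nat.exists_prime_and_dvd hidx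
  have := Fact.mk hp
  have hcomm : ∀ a b : σ.ker, Commute a b := fun a b =>
    Subtype.ext (mem_center_iff.1 (hσ.2.1 b.2) a)
  let f : σ.ker →* Γ :=
    { toFun := fun z => ((z ^ p : σ.ker) : Γ)
      map_one' := by simp
      map_mul' := fun a b => by rw [(hcomm a b).mul_pow, Subgroup.coe_mul] }
  let M : Subgroup Γ := D ⊔ f.range
  have hM : M ≤ σ.ker := sup_le hD (by rintro _ ⟨z, rfl⟩; exact (z ^ p).2)
  have hMn : M.Normal :=
    ⟨fun z hz g => by
      rwa [mem_center_iff.1 (hσ.2.1 (hM hz)) g, mul_inv_cancel_right]⟩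
  let σ' : Γ ⧸ M →* G := QuotientGroup.lift M σ hM
  have hker : σ'.ker = σ.ker.map (QuotientGroup.mk' M) := QuotientGroup.ker_lift M σ hM
  have hstem : Cfsg.IsStemExtension σ' := by
    refine ⟨fun g => ?_, ?_, ?_⟩
    · obtain ⟨x, rfl⟩ := hσ.1 g; exact ⟨x, rfl⟩
    · rw [hker]
      rintro _ ⟨z, hz, rfl⟩
      rw [mem_center_iff]
      intro y
      obtain ⟨y, rfl⟩ := QuotientGroup.mk'_surjective M y
      rw [← map_mul, ← map_mul, mem_center_iff.1 (hσ.2.1 hz) y]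
    · rw [hker]
      refine (Subgroup.map_mono hσ.2.2).trans ?_
      rw [commutator_def, commutator_def, Subgroup.map_commutator]
      exact Subgroup.commutator_mono le_top le_top
  have hexp : ∀ z ∈ σ'.ker, z ^ p = 1 := by
    rw [hker]
    rintro _ ⟨z, hz, rfl⟩
    rw [← map_pow]
    exact (QuotientGroup.eq_one_iff _).2 (Subgroup.mem_sup_right ⟨⟨z, hz⟩, rfl⟩)
  have hbot := h p hp M hM le_sup_left hstem hexp
  rw [hker, Subgroup.map_eq_bot_iff, QuotientGroup.ker_mk'] at hbot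
  -- the `p`-th power map would be onto `σ.ker / D`
  let D' : Subgroup σ.ker := D.subgroupOf σ.ker
  have : D'.Normal := ⟨fun z hz g => by rwa [(hcomm g z).eq, mul_inv_cancel_right]⟩
  let f' : σ.ker ⧸ D' → σ.ker ⧸ D' := fun q => q ^ p
  have hsurj : Function.Surjective f' := fun q => by
    obtain ⟨z, rfl⟩ := QuotientGroup.mk_surjective q
    have hz : (z : Γ) ∈ (D ⊔ f.range : Subgroup Γ) := hbot z.2
    have hnorm : f.range ≤ Subgroup.normalizer (D : Set Γ) := by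
      rintro _ ⟨w, rfl⟩
      rw [Subgroup.mem_normalizer_iff]
      intro y
      have hc : y * f w = f w * y := mem_center_iff.1 (hσ.2.1 (w ^ p).2) y
      rw [← hc, mul_inv_cancel_right]
    rw [← SetLike.mem_coe, Subgroup.coe_mul_of_right_le_normalizer_left D f.range hnorm] at hz
    obtain ⟨d, hd, _, ⟨w, rfl⟩, hdw⟩ := hz
    refine ⟨QuotientGroup.mk w, ?_⟩
    show (QuotientGroup.mk (w ^ p) : σ.ker ⧸ D') = QuotientGroup.mk z
    rw [QuotientGroup.eq]
    show ((w ^ p : σ.ker) : Γ)⁻¹ * (z : Γ) ∈ D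
    rw [← hdw]
    have hc := mem_center_iff.1 (hσ.2.1 (w ^ p).2) d
    change ((w ^ p : σ.ker) : Γ)⁻¹ * (d * ((w ^ p : σ.ker) : Γ)) ∈ D
    rwa [hc, inv_mul_cancel_left]
  obtain ⟨x, hx⟩ := exists_prime_orderOf_dvd_card' (G := σ.ker ⧸ D') p hdvd
  have h1 : f' x = f' 1 := by simp only [f', one_pow, ← hx, pow_orderOf_eq_one]
  rw [Finite.injective_iff_surjective.2 hsurj h1, orderOf_one] at hx
  exact hp.one_lt.ne hx

/-- It is enough that a stem extension with kernel of prime exponent is injective. -/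
theorem hasCyclicSchurMultiplier_one_of_exponent {G : Type u} [Group G] [Finite G]
    (h : ∀ (p : ℕ), p.Prime → ∀ (Γ : Type u) [Group Γ] [Finite Γ] (σ : Γ →* G),
      Cfsg.IsStemExtension σ → (∀ z ∈ σ.ker, z ^ p = 1) → σ.ker = ⊥) :
    Cfsg.HasCyclicSchurMultiplier G 1 :=
  hasCyclicSchurMultiplier_one fun Γ _ _ σ hσ => le_bot_iff.1
    (ker_le_of_exponent σ hσ ⊥ bot_le fun p hp M _ hM _ hst he => h p hp (Γ ⧸ M) _ hst he)

variable {Γ : Type u} {G : Type v} [Group Γ] [Group G]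

/-- A kernel of exponent `p` dies if some subgroup of index prime to `p` meets it trivially in its
derived group. -/
theorem ker_eq_bot_of_local [Finite Γ] (σ : Γ →* G) (hz : σ.ker ≤ center Γ)
    (hc : σ.ker ≤ _root_.commutator Γ) {p : ℕ} (hp : p.Prime) (hexp : ∀ z ∈ σ.ker, z ^ p = 1)
    (H : Subgroup Γ) (hidx : ¬ p ∣ H.index) (hH : ⁅H, H⁆ ⊓ σ.ker = ⊥) : σ.ker = ⊥ := by
  rw [eq_bot_iff]
  intro x hx
  have h1 : x ^ H.index = 1 :=
    Subgroup.mem_bot.1 (hH ▸ ⟨pow_index_mem_commutator H (hz hx) (hc hx), pow_mem hx _⟩)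
  have h2 : x ^ Nat.gcd H.index p = 1 := pow_gcd_eq_one.2 ⟨h1, hexp x hx⟩
  rw [Nat.Coprime.gcd_eq_one ((hp.coprime_iff_not_dvd.2 hidx).symm), pow_one] at h2
  exact Subgroup.mem_bot.2 h2

/-- A subgroup meeting the kernel trivially takes in the derived subgroup of whatever has image
inside its image. -/
theorem commutator_inf_ker_eq_bot_of_complement (σ : Γ →* G) (hz : σ.ker ≤ center Γ)
    (P K : Subgroup Γ) (hK : K ⊓ σ.ker = ⊥) (hmap : P.map σ ≤ K.map σ) :
    ⁅P, P⁆ ⊓ σ.ker = ⊥ := by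
  refine eq_bot_iff.2 (le_trans (inf_le_inf_right _ ?_) hK.le)
  rw [Subgroup.commutator_le]
  intro a ha b hb
  obtain ⟨a₀, ha₀, ea⟩ := hmap (mem_map_of_mem σ ha)
  obtain ⟨b₀, hb₀, eb⟩ := hmap (mem_map_of_mem σ hb)
  have hza : a₀⁻¹ * a ∈ center Γ := hz (by simp [MonoidHom.mem_ker, ea])
  have hzb : b₀⁻¹ * b ∈ center Γ := hz (by simp [MonoidHom.mem_ker, eb])
  have hkey : ⁅a, b⁆ = ⁅a₀, b₀⁆ := by
    obtain ⟨z, hz1, rfl⟩ : ∃ z, z ∈ center Γ ∧ a = a₀ * z := ⟨_, hza, by group⟩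
    obtain ⟨w, hw1, rfl⟩ : ∃ w, w ∈ center Γ ∧ b = b₀ * w := ⟨_, hzb, by group⟩
    simp only [commutatorElement_def, mul_inv_rev]
    have cz := mem_center_iff.1 hz1
    have cw := mem_center_iff.1 hw1
    calc a₀ * z * (b₀ * w) * (z⁻¹ * a₀⁻¹) * (w⁻¹ * b₀⁻¹)
        = a₀ * ((z * (b₀ * w)) * z⁻¹) * a₀⁻¹ * w⁻¹ * b₀⁻¹ := by group
      _ = a₀ * b₀ * (w * a₀⁻¹) * w⁻¹ * b₀⁻¹ := by rw [← cz, mul_inv_cancel_right]; group
      _ = a₀ * b₀ * a₀⁻¹ * b₀⁻¹ := by rw [← cw, ← mul_assoc (a₀ * b₀), mul_inv_cancel_right]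
  rw [hkey, commutatorElement_def]
  exact mul_mem (mul_mem (mul_mem ha₀ hb₀) (inv_mem ha₀)) (inv_mem hb₀)

end Cfsg.Agent.Schur
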