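import Cfsg.Agent.Lib.Schur.ThreeLocal

/-!
The criterion of `ThreeLocal` for an arbitrary odd prime: a Sylow image `⟨a, b⟩` whose commutator `c` is central of
order `p`, inverted modulo `⟨c⟩` by some element.
-/

set_option autoImplicit false

namespace Cfsg.Agent.Schur

open Subgroup
open scoped commutatorElement

variable {Γ G : Type*} [Group Γ] [Group G]

/-- The criterion for an extraspecial image of order p³ and exponent p, p odd. -/
theorem commutator_inf_ker_eq_bot_of_oddPrime {p : ℕ} [hp : Fact p.Prime] (hp2 : Odd p) (σ : Γ →* G) (hz : σ.ker ≤ center Γ) (P : Subgroup Γ)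
    {a b t : Γ} (ha3 : σ a ^ p = 1) (hc3 : ⁅σ a, σ b⁆ ^ p = 1) (hc1 : ⁅σ a, σ b⁆ ≠ 1)
    (hca : Commute ⁅σ a, σ b⁆ (σ a)) (hcb : Commute ⁅σ a, σ b⁆ (σ b)) {i j : ℕ}
    (hta : σ t * σ a * (σ t)⁻¹ = (σ a)⁻¹ * ⁅σ a, σ b⁆ ^ i)
    (htb : σ t * σ b * (σ t)⁻¹ = (σ b)⁻¹ * ⁅σ a, σ b⁆ ^ j)
    (hb3 : σ b ^ p = 1) (hgen : P.map σ ≤ closure {σ a, σ b}) : ⁅P, P⁆ ⊓ σ.ker = ⊥ := by
  set c := ⁅a, b⁆ with hcdef
  have hsc : σ c = ⁅σ a, σ b⁆ := map_commutatorElement σ a b
  -- commutators of `c` with anything are unchanged by conjugation with `t`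
  have htc : σ (t * c * t⁻¹) = σ c := by
    rw [hsc, map_mul, map_mul, map_inv, hsc]
    have e : σ t * ⁅σ a, σ b⁆ * (σ t)⁻¹ =
        ⁅(σ a)⁻¹ * ⁅σ a, σ b⁆ ^ i, (σ b)⁻¹ * ⁅σ a, σ b⁆ ^ j⁆ := by
      rw [← hta, ← htb]; simp only [commutatorElement_def]; group
    rw [e]
    set x := σ a
    set y := σ b
    set k := ⁅x, y⁆ with hk
    have kx : Commute (k ^ i) x := hca.pow_left i
    have ky : Commute (k ^ i) y := hcb.pow_left i
    have jx : Commute (k ^ j) x := hca.pow_left j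
    have jy : Commute (k ^ j) y := hcb.pow_left j
    calc ⁅x⁻¹ * k ^ i, y⁻¹ * k ^ j⁆
        = x⁻¹ * (k ^ i * y⁻¹) * (k ^ j * (k ^ i)⁻¹) * x * ((k ^ j)⁻¹ * y) := by
          simp only [commutatorElement_def, mul_inv_rev, inv_inv]; group
      _ = x⁻¹ * y⁻¹ * ((k ^ j * x) * (k ^ j)⁻¹) * y := by
          rw [ky.inv_right.eq, ((Commute.refl k).pow_pow j i).inv_right.eq]; group
      _ = (y * x)⁻¹ * (x * y) := by rw [jx.eq]; group
      _ = (y * x)⁻¹ * k * (y * x) := by rw [hk, commutatorElement_def]; group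
      _ = k := by
          rw [mul_assoc, (hcb.mul_right hca).eq, ← mul_assoc, inv_mul_cancel, one_mul]
  have hkill : ∀ (x : Γ) (m : ℕ), σ x ^ p = 1 → Commute (σ c) (σ x) →
      σ t * σ x * (σ t)⁻¹ = (σ x)⁻¹ * σ c ^ m → Commute c x := by
    intro x m hx3 hcx htx
    have hk : σ ⁅x, c⁆ = 1 := by
      rw [map_commutatorElement]; exact commutatorElement_eq_one_iff_mul_comm.2 hcx.symm.eq
    set k := ⁅x, c⁆ with hkdef
    have hkc := mem_center_iff.1 (hz hk)
    have hk3 : k ^ p = 1 := pow_commutator_eq_one σ hz (hkc x) hx3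
    have h1 : ⁅t * x * t⁻¹, t * c * t⁻¹⁆ = k := by
      have : ⁅t * x * t⁻¹, t * c * t⁻¹⁆ = t * k * t⁻¹ := by
        simp only [hkdef, commutatorElement_def]; group
      rw [this, hkc t, mul_inv_cancel_right]
    have h2 : ⁅t * x * t⁻¹, t * c * t⁻¹⁆ = ⁅x⁻¹ * c ^ m, c⁆ :=
      commutatorElement_eq_of_map_eq σ hz (by simp [htx]) htc
    have h3 : ⁅x⁻¹ * c ^ m, c⁆ = k⁻¹ := by
      calc ⁅x⁻¹ * c ^ m, c⁆ = x⁻¹ * (c ^ m * c * (c ^ m)⁻¹) * x * c⁻¹ := by
            simp only [commutatorElement_def, mul_inv_rev, inv_inv]; group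
        _ = x⁻¹ * (k⁻¹ * x) := by
            rw [((Commute.refl c).pow_left m).eq, mul_inv_cancel_right, hkdef, commutatorElement_def]
            group
        _ = k⁻¹ := by
            have := mem_center_iff.1 (inv_mem (hz (show k ∈ σ.ker from hk))) x
            rw [← this, inv_mul_cancel_left]
    rw [h2, h3] at h1
    have hk2 : k ^ 2 = 1 := by rw [pow_two]; nth_rewrite 1 [← h1]; exact inv_mul_cancel k
    have hk1 : k = 1 := by
      obtain ⟨m, rfl⟩ := hp2
      rwa [pow_succ, pow_mul, hk2, one_pow, one_mul] at hk3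
    exact (commutatorElement_eq_one_iff_mul_comm.1 hk1).symm
  have hcomA : Commute c a := hkill a i ha3 (by rw [hsc]; exact hca) (by rw [hsc]; exact hta)
  have hcomB : Commute c b := hkill b j hb3 (by rw [hsc]; exact hcb) (by rw [hsc]; exact htb)
  have hc : c ^ p = 1 := pow_commutator_eq_one σ hz hcomA.symm ha3
  have hN : ⁅P, P⁆ ≤ zpowers c := by
    have hmap : P.map σ ≤ closure (σ '' {a, b}) := by rwa [Set.image_pair]
    refine (Subgroup.commutator_mono (SmallSylow.le_closure_of_map_le σ P _ hmap)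
      (SmallSylow.le_closure_of_map_le σ P _ hmap)).trans (SmallSylow.commutator_closure_le _ ?_ ?_)
    · intro x hx
      have hxc : Commute c x := by
        rcases hx with (rfl | rfl) | hx
        exacts [hcomA, hcomB, mem_center_iff.1 (hz hx) c]
      refine mem_normalizer_iff.2 fun y => ?_
      constructor <;> intro hy
      · obtain ⟨k, rfl⟩ := mem_zpowers_iff.1 hy
        rw [← (hxc.zpow_left k).eq, mul_inv_cancel_right]
        exact zpow_mem (mem_zpowers c) k
      · obtain ⟨k, hk⟩ := mem_zpowers_iff.1 hy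
        have : y = x⁻¹ * c ^ k * x := by rw [hk]; group
        rw [this, mul_assoc, (hxc.zpow_left k).eq, inv_mul_cancel_left]
        exact zpow_mem (mem_zpowers c) k
    · intro x hx y hy
      have hk : ∀ u v : Γ, u ∈ σ.ker → ⁅u, v⁆ = 1 := fun u v hu =>
        commutatorElement_eq_one_iff_mul_comm.2 ((mem_center_iff.1 (hz hu) v).symm)
      rcases hx with hx | hx
      · rcases hy with hy | hy
        · rcases hx with rfl | rfl <;> rcases hy with rfl | rfl
          · simp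
          · exact mem_zpowers _
          · rw [← commutatorElement_inv]; exact inv_mem (mem_zpowers _)
          · simp
        · rw [← commutatorElement_inv, hk y x hy, inv_one]; exact one_mem _
      · rw [hk x y hx]; exact one_mem _
  rw [eq_bot_iff]
  rintro x ⟨hx, hxk⟩
  obtain ⟨k, rfl⟩ := mem_zpowers_iff.1 (hN hx)
  have hord : orderOf (σ c) = p :=
    orderOf_eq_prime (by rw [hsc]; exact hc3) (by rw [hsc]; exact hc1)
  have h1 : σ c ^ k = 1 := by rw [← map_zpow]; exact hxk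
  have h3 : ((p : ℕ) : ℤ) ∣ k := hord ▸ orderOf_dvd_iff_zpow_eq_one.2 h1
  obtain ⟨l, rfl⟩ := h3
  rw [Subgroup.mem_bot, zpow_mul, zpow_natCast, hc, one_zpow]

end Cfsg.Agent.Schur
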