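import Cfsg.Agent.Lib.Schur.PerfectCover
import Cfsg.Agent.Lib.Schur.Stem
import Cfsg.Agent.Lib.SL2Presentation.SteinbergNCard
import Cfsg.Agent.Lib.GL.Simple

/-!
# The Schur multiplier of `SL_n(q)` is trivial, `n ≥ 3`

Steinberg's argument: elementary matrices lift uniquely to a central extension and satisfy the
Steinberg relations there; the order bound for the Steinberg group finishes the proof.
-/

set_option autoImplicit false

namespace Cfsg.Agent.Schur.SLn

open Matrix Subgroup
open scoped commutatorElement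

universe u

variable {F : Type u} [Field F] {n : ℕ}


/-- Elementary matrices. -/
noncomputable def el (i j : Fin n) (t : F) : Matrix.SpecialLinearGroup (Fin n) F :=
  if h : i ≠ j then SpecialLinearGroup.transvection h t else 1

theorem el_val {i j : Fin n} (h : i ≠ j) (t : F) :
    ((el i j t : Matrix.SpecialLinearGroup (Fin n) F) : Matrix (Fin n) (Fin n) F) = 1 + Matrix.single i j t := by
  rw [el, dif_pos h]
  rfl

theorem el_add {i j : Fin n} (h : i ≠ j) (t u : F) : (el i j (t + u) : Matrix.SpecialLinearGroup (Fin n) F) = el i j t * el i j u := by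
  apply SpecialLinearGroup.coeMonoidHom_injective
  simp only [map_mul, SpecialLinearGroup.coeMonoidHom_apply]
  rw [el_val h, el_val h, el_val h, Matrix.single_add]
  simp only [mul_add, add_mul, one_mul, mul_one, Matrix.single_mul_single_of_ne _ _ _ _ h.symm]
  abel

theorem el_comm {i j k l : Fin n} (hij : i ≠ j) (hkl : k ≠ l) (hil : i ≠ l) (hjk : j ≠ k) (t u : F) :
    (el i j t : Matrix.SpecialLinearGroup (Fin n) F) * el k l u = el k l u * el i j t := by
  apply SpecialLinearGroup.coeMonoidHom_injective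
  simp only [map_mul, SpecialLinearGroup.coeMonoidHom_apply]
  rw [el_val hij, el_val hkl]
  simp only [mul_add, add_mul, one_mul, mul_one, Matrix.single_mul_single_of_ne _ _ _ _ hjk,
    Matrix.single_mul_single_of_ne _ _ _ _ hil.symm]
  abel

theorem el_chain {i j l : Fin n} (hij : i ≠ j) (hjl : j ≠ l) (hil : i ≠ l) (t u : F) :
    ⁅(el i j t : Matrix.SpecialLinearGroup (Fin n) F), el j l u⁆ = el i l (t * u) := by
  rw [el, el, el, dif_pos hij, dif_pos hjl, dif_pos hil]
  exact GL.commutator_transvection hij hjl hil t u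

/-- Diagonal matrices of determinant one. -/
noncomputable def torus (d : Fin n → F) (hd : ∏ i, d i = 1) : Matrix.SpecialLinearGroup (Fin n) F :=
  ⟨Matrix.diagonal d, by rw [Matrix.det_diagonal]; exact hd⟩

theorem torus_comm (d e : Fin n → F) (hd : ∏ i, d i = 1) (he : ∏ i, e i = 1) :
    torus d hd * torus e he = torus e he * torus d hd := by
  refine Subtype.ext ?_
  show Matrix.diagonal d * Matrix.diagonal e = Matrix.diagonal e * Matrix.diagonal d
  rw [Matrix.diagonal_mul_diagonal, Matrix.diagonal_mul_diagonal]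
  exact congrArg _ (funext fun i => mul_comm _ _)

theorem torus_el (d : Fin n → F) (hd : ∏ i, d i = 1) {i j : Fin n} (h : i ≠ j) (t : F) :
    torus d hd * el i j t * (torus d hd)⁻¹ = (el i j (d i * t / d j) : Matrix.SpecialLinearGroup (Fin n) F) := by
  have hne : ∀ k, d k ≠ 0 := fun k => (Finset.prod_ne_zero_iff.1 (hd ▸ one_ne_zero)) k (Finset.mem_univ k)
  rw [mul_inv_eq_iff_eq_mul]
  apply SpecialLinearGroup.coeMonoidHom_injective
  simp only [map_mul, SpecialLinearGroup.coeMonoidHom_apply]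
  rw [el_val h, el_val h]
  show Matrix.diagonal d * _ = _ * Matrix.diagonal d
  ext r s
  simp only [Matrix.diagonal_mul, Matrix.mul_diagonal, Matrix.add_apply, Matrix.one_apply, Matrix.single_apply]
  split_ifs with h1 h2 h3 <;> first
    | (obtain ⟨rfl, rfl⟩ := h2; exact absurd h1 h)
    | (subst h1; ring)
    | (obtain ⟨rfl, rfl⟩ := h2; field_simp [hne _]; ring)
    | (obtain ⟨rfl, rfl⟩ := h3; field_simp [hne _]; ring)
    | ring

/-- The matrix of a permutation of sign one. -/
noncomputable def permMat (σ : Equiv.Perm (Fin n)) (hσ : Equiv.Perm.sign σ = 1) :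
    Matrix.SpecialLinearGroup (Fin n) F :=
  ⟨σ.permMatrix F, by rw [Matrix.det_permutation, hσ]; simp⟩

theorem permMat_el (σ : Equiv.Perm (Fin n)) (hσ : Equiv.Perm.sign σ = 1) {i j : Fin n} (h : i ≠ j) (t : F) :
    permMat σ hσ * el (σ i) (σ j) t * (permMat σ hσ)⁻¹ = (el i j t : Matrix.SpecialLinearGroup (Fin n) F) := by
  rw [mul_inv_eq_iff_eq_mul]
  apply SpecialLinearGroup.coeMonoidHom_injective
  simp only [map_mul, SpecialLinearGroup.coeMonoidHom_apply]
  rw [el_val h, el_val (σ.injective.ne h)]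
  show σ.permMatrix F * _ = _ * σ.permMatrix F
  rw [mul_add, add_mul, mul_one, one_mul]
  congr 1
  ext r s
  simp only [Matrix.mul_apply, Equiv.Perm.permMatrix, PEquiv.toMatrix_apply, Equiv.toPEquiv_apply,
    Option.mem_def, Option.some.injEq, Matrix.single_apply]
  rw [Finset.sum_eq_single (σ r), Finset.sum_eq_single j]
  · by_cases hr : i = r <;> by_cases hs : σ j = s <;> simp [hr, hs, σ.injective.eq_iff]
  · intro b _ hb
    simp [Ne.symm hb]
  · simp
  · intro b _ hb
    simp [Ne.symm hb]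
  · simp

theorem closure_el : Subgroup.closure {g : Matrix.SpecialLinearGroup (Fin n) F | ∃ i j, i ≠ j ∧ ∃ t, g = el i j t} = ⊤ :=
  GL.SL_eq_top_of_transvection_mem fun i j hij c => subset_closure ⟨i, j, hij, c, by rw [el, dif_pos hij]⟩

/-- A subfield containing all cubes, when there are non-trivial cubes. -/
theorem subfield_eq_top_of_cubes [Finite F] (R : Subfield F) (h : ∃ a : F, a ≠ 0 ∧ a ^ 3 ≠ 1)
    (hR : ∀ a : F, a ≠ 0 → a ^ 3 ∈ R) : R = ⊤ := by
  classical
  have : Fintype F := Fintype.ofFinite F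
  obtain ⟨a₀, ha₀, ha3⟩ := h
  set q := Nat.card F
  set c := Nat.card R
  have hcu : Nat.card Fˣ ≤ 3 * (c - 1) := by
    let f : Fˣ →* Fˣ := powMonoidHom 3
    have h1 : Nat.card f.range ≤ c - 1 := by
      have h2 : c - 1 = Nat.card Rˣ := by
        have := Nat.card_eq_card_units_add_one R
        omega
      rw [h2]
      let g : f.range → Rˣ := fun x => Units.mk0 ⟨((x : Fˣ) : F), by
        obtain ⟨y, hy⟩ := x.2
        rw [← hy]
        exact hR _ y.ne_zero⟩ (fun h => (x : Fˣ).ne_zero (congrArg Subtype.val h))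
      refine Nat.card_le_card_of_injective g fun x y hxy => ?_
      exact Subtype.ext (Units.ext (congrArg Subtype.val (congrArg Units.val hxy)))
    have h3 : Nat.card f.ker ≤ 3 := by
      rw [IsCyclic.card_powMonoidHom_ker]
      exact Nat.le_of_dvd (by norm_num) (Nat.gcd_dvd_right _ _)
    calc Nat.card Fˣ = Nat.card f.range * Nat.card f.ker := by
          rw [Subgroup.card_eq_card_quotient_mul_card_subgroup f.ker,
            Nat.card_congr (QuotientGroup.quotientKerEquivRange f).toEquiv]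
      _ ≤ (c - 1) * 3 := Nat.mul_le_mul h1 h3
      _ = 3 * (c - 1) := mul_comm _ _
  have hq : q = c ^ Module.finrank R F := Module.natCard_eq_pow_finrank
  have hq1 := Nat.card_eq_card_units_add_one F
  by_contra hne
  have hd : 2 ≤ Module.finrank R F := by
    by_contra hd
    have hpos : 0 < Module.finrank R F := Module.finrank_pos
    rw [show Module.finrank R F = 1 by omega, pow_one] at hq
    refine hne (eq_top_iff.2 fun x _ => ?_)
    have := (Nat.bijective_iff_injective_and_card (fun r : R => (r : F))).2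
      ⟨Subtype.val_injective, hq.symm⟩
    obtain ⟨r, rfl⟩ := this.2 x
    exact r.2
  have hc2 : 2 ≤ c := Finite.one_lt_card
  have hpow : c ^ 2 ≤ q := hq ▸ Nat.pow_le_pow_right (by omega) hd
  have hc : c = 2 := by
    by_contra hc
    have h3 : 3 ≤ c := by omega
    have h4 : c ^ 2 ≤ 3 * (c - 1) + 1 := by omega
    obtain ⟨d, hd⟩ : ∃ d, c = d + 3 := ⟨c - 3, by omega⟩
    rw [hd, show (d + 3) - 1 = d + 2 by omega] at h4
    nlinarith
  have hu : Nat.card Fˣ = 3 := by
    rw [hc] at hcu hpow
    rcases Nat.lt_or_ge (Module.finrank R F) 3 with h' | h'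
    · rw [hc, show Module.finrank R F = 2 by omega] at hq
      omega
    · have := Nat.pow_le_pow_right (show 0 < 2 by norm_num) h'
      rw [hc] at hq
      omega
  apply ha3
  have := pow_card_eq_one' (x := Units.mk0 a₀ ha₀)
  rw [hu] at this
  simpa using congrArg Units.val this

section Lift

variable {Γ : Type*} [Group Γ] (σ : Γ →* Matrix.SpecialLinearGroup (Fin n) F)

/-- Commutators with central factors. -/
theorem comm_mul_of_central {a b c : Γ} (h : ⁅a, c⁆ ∈ center Γ) : ⁅a, b * c⁆ = ⁅a, b⁆ * ⁅a, c⁆ := by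
  have := mem_center_iff.1 h b
  rw [commutatorElement_def, commutatorElement_def, commutatorElement_def] at *
  calc a * (b * c) * a⁻¹ * (b * c)⁻¹ = a * b * a⁻¹ * (a * c * a⁻¹ * c⁻¹) * b⁻¹ := by group
    _ = a * b * a⁻¹ * (b⁻¹ * (b * (a * c * a⁻¹ * c⁻¹))) * b⁻¹ := by group
    _ = a * b * a⁻¹ * b⁻¹ * (a * c * a⁻¹ * c⁻¹) := by rw [this]; group

theorem conj_central {g x : Γ} (h : x ∈ center Γ) : g * x * g⁻¹ = x := by
  rw [mem_center_iff.1 h g, mul_inv_cancel_right]

theorem conj_commutator (g a b : Γ) : g * ⁅a, b⁆ * g⁻¹ = ⁅g * a * g⁻¹, g * b * g⁻¹⁆ := by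
  rw [commutatorElement_def, commutatorElement_def]; group

variable (hs : Function.Surjective σ) (hz : σ.ker ≤ center Γ)

include hz

theorem central_of_comm {a b : Γ} (h : σ a * σ b = σ b * σ a) : ⁅a, b⁆ ∈ center Γ :=
  hz (by rw [MonoidHom.mem_ker, map_commutatorElement, commutatorElement_eq_one_iff_mul_comm]; exact h)

/-- An element commuting modulo the centre with `b` and `c` commutes with `⁅b, c⁆`. -/
theorem commute_commutator {a b c : Γ} (hb : σ a * σ b = σ b * σ a) (hc : σ a * σ c = σ c * σ a) :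
    Commute a ⁅b, c⁆ := by
  refine mul_inv_eq_iff_eq_mul.1 (?_ : a * ⁅b, c⁆ * a⁻¹ = ⁅b, c⁆)
  rw [conj_commutator]
  refine commutator_congr hz ?_ ?_ <;> rw [map_mul, map_mul, map_inv] <;>
    first | rw [hb, mul_inv_cancel_right] | rw [hc, mul_inv_cancel_right]

include hs

/-- An additive function invariant under a non-trivial scaling is trivial. -/
theorem eq_one_of_scale {f : F → Γ} (hadd : ∀ x y, f (x + y) = f x * f y) {c : F} (hc : c ≠ 1)
    (h : ∀ x, f (c * x) = f x) (x : F) : f x = 1 := by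
  have h0 : f 0 = 1 := by
    have := hadd 0 0; rw [add_zero] at this; exact left_eq_mul.1 this
  have h1 := hadd ((c - 1) * (x / (c - 1))) (x / (c - 1))
  rw [show (c - 1) * (x / (c - 1)) + x / (c - 1) = c * (x / (c - 1)) by ring, h] at h1
  have h2 := right_eq_mul.1 h1
  rwa [mul_div_cancel₀ _ (sub_ne_zero.2 hc)] at h2


/-- The commutator `⁅x̃_ik(t), x̃_kj(u)⁆` of lifts. -/
noncomputable def B (i k j : Fin n) (t u : F) : Γ :=
  ⁅Function.surjInv hs (el i k t), Function.surjInv hs (el k j u)⁆

variable [Finite F]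

/-- Lifts of commuting elementary matrices commute, when a torus separates the two roots. -/
theorem commute_of_torus {i j k l : Fin n} (hij : i ≠ j) (hkl : k ≠ l) (hil : i ≠ l) (hjk : j ≠ k)
    (d : Fin n → F) (hd : ∏ x, d x = 1) (h1 : d i = d j) (h2 : d k ≠ d l) {t s : F} {a b : Γ}
    (ha : σ a = el i j t) (hb : σ b = el k l s) : Commute a b := by
  choose u hu using fun x : F => hs (el k l x)
  obtain ⟨g, hg⟩ := hs (torus d hd)
  have hne : ∀ x, d x ≠ 0 := fun x => (Finset.prod_ne_zero_iff.1 (hd ▸ one_ne_zero)) x (Finset.mem_univ x)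
  have hcen : ∀ x, ⁅a, u x⁆ ∈ center Γ := fun x => central_of_comm σ hz (by
    rw [ha, hu, el_comm hij hkl hil hjk])
  have key : ∀ x, ⁅a, u x⁆ = 1 := by
    refine eq_one_of_scale (σ := σ) (hs := hs) (hz := hz) (fun x y => ?_) (c := d k / d l) ?_ fun x => ?_
    · rw [← comm_mul_of_central (hcen y)]
      exact commutator_congr hz rfl (by rw [map_mul, hu, hu, hu, el_add hkl])
    · rw [Ne, div_eq_one_iff_eq (hne l)]; exact h2
    · conv_rhs => rw [← conj_central (g := g) (hcen x), conj_commutator]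
      refine commutator_congr hz ?_ ?_ <;> rw [map_mul, map_mul, map_inv, hg]
      · rw [ha, torus_el d hd hij, h1]
        congr 1
        field_simp [hne j]
      · rw [hu, hu, torus_el d hd hkl]; congr 1; ring
  have := key s
  rw [commutatorElement_eq_one_iff_commute] at this
  exact commutatorElement_eq_one_iff_commute.1
    ((commutator_congr hz rfl (by rw [hb, hu])).trans (commutatorElement_eq_one_iff_commute.2 this))

/-- Lifts of elementary matrices commute as soon as a fifth index is free. -/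
theorem commute_of_index {i j k l m : Fin n} (hij : i ≠ j) (hkl : k ≠ l) (hil : i ≠ l) (hjk : j ≠ k)
    (hmi : m ≠ i) (hmj : m ≠ j) (hmk : m ≠ k) (hml : m ≠ l) {t s : F} {a b : Γ}
    (ha : σ a = el i j t) (hb : σ b = el k l s) : Commute a b := by
  obtain ⟨p, hp⟩ := hs (el i m t)
  obtain ⟨q, hq⟩ := hs (el m j 1)
  have e : σ ⁅p, q⁆ = σ a := by rw [map_commutatorElement, hp, hq, el_chain hmi.symm hmj hij, mul_one, ha]
  have hc : Commute b ⁅p, q⁆ := commute_commutator σ hz
    (by rw [hb, hp, el_comm hkl hmi.symm hmk.symm hil.symm])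
    (by rw [hb, hq, el_comm hkl hmj hjk.symm hml.symm])
  have hz' : a * ⁅p, q⁆⁻¹ ∈ center Γ := hz (by rw [MonoidHom.mem_ker, map_mul, map_inv, e, mul_inv_cancel])
  have : Commute (a * ⁅p, q⁆⁻¹) b := (mem_center_iff.1 hz' b).symm
  have h := this.mul_left hc.symm
  rwa [inv_mul_cancel_right] at h

variable (hn : 3 ≤ n) (hF : n = 3 → ∃ a : F, a ≠ 0 ∧ a ^ 3 ≠ 1) (hF4 : n = 4 → 3 ≤ Nat.card F)

include hn hF hF4

/-- Lifts of commuting elementary matrices commute. -/
theorem commute_lift {i j k l : Fin n} (hij : i ≠ j) (hkl : k ≠ l) (hil : i ≠ l) (hjk : j ≠ k)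
    {t s : F} {a b : Γ} (ha : σ a = el i j t) (hb : σ b = el k l s) : Commute a b := by
  classical
  by_cases hm : ∃ m, m ≠ i ∧ m ≠ j ∧ m ≠ k ∧ m ≠ l
  · obtain ⟨m, h1, h2, h3, h4⟩ := hm
    exact commute_of_index σ hs hz hij hkl hil hjk h1 h2 h3 h4 ha hb
  push Not at hm
  have hcov : (Finset.univ : Finset (Fin n)) ⊆ {i, j, k, l} := by
    intro m _
    simp only [Finset.mem_insert, Finset.mem_singleton]
    by_cases h1 : m = i
    · exact Or.inl h1
    by_cases h2 : m = j
    · exact Or.inr (Or.inl h2)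
    by_cases h3 : m = k
    · exact Or.inr (Or.inr (Or.inl h3))
    exact Or.inr (Or.inr (Or.inr (hm m h1 h2 h3)))
  have hle : n ≤ ({i, j, k, l} : Finset (Fin n)).card := by
    have := Finset.card_le_card hcov
    simpa using this
  -- one coincidence: a torus
  have hone : ∀ o : Fin n, n = 3 → ∃ c : F, c ≠ 0 ∧ c ^ 3 ≠ 1 ∧
      ∏ x, (if x = o then (c ^ 2)⁻¹ else c) = 1 := by
    intro o h3
    obtain ⟨c, hc0, hc3⟩ := hF h3
    refine ⟨c, hc0, hc3, ?_⟩
    rw [← Finset.prod_erase_mul _ _ (Finset.mem_univ o), Finset.prod_congr rfl (g := fun _ => c)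
      (fun x hx => if_neg (Finset.ne_of_mem_erase hx)), Finset.prod_const, Finset.card_erase_of_mem
      (Finset.mem_univ o), Finset.card_univ, Fintype.card_fin, show n - 1 = 2 by omega]
    simp [hc0]
  by_cases hik : i = k
  · subst hik
    have h3 : n = 3 := by
      have h : ({i, j, i, l} : Finset (Fin n)) ⊆ {i, j, l} := by
        intro x; simp only [Finset.mem_insert, Finset.mem_singleton]; tauto
      have := hle.trans ((Finset.card_le_card h).trans Finset.card_le_three)
      omega
    have hjl : j ≠ l := by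
      rintro rfl
      have h : ({i, j, i, j} : Finset (Fin n)) ⊆ {i, j} := by
        intro x; simp only [Finset.mem_insert, Finset.mem_singleton]; tauto
      have := hle.trans ((Finset.card_le_card h).trans Finset.card_le_two)
      omega
    obtain ⟨c, hc0, hc3, hd⟩ := hone l h3
    refine commute_of_torus σ hs hz hij hkl hil hjk _ hd (by simp [hil, hjl]) ?_ ha hb
    simp only [if_neg hil, if_pos]
    intro e
    refine hc3 ?_
    field_simp at e
    linear_combination e
  by_cases hjl : j = l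
  · subst hjl
    have h3 : n = 3 := by
      have h : ({i, j, k, j} : Finset (Fin n)) ⊆ {i, j, k} := by
        intro x; simp only [Finset.mem_insert, Finset.mem_singleton]; tauto
      have := hle.trans ((Finset.card_le_card h).trans Finset.card_le_three)
      omega
    obtain ⟨c, hc0, hc3, hd⟩ := hone k h3
    refine commute_of_torus σ hs hz hij hkl hil hjk _ hd (by simp [hik, hkl.symm]) ?_ ha hb
    simp only [if_neg hkl.symm, if_pos]
    intro e
    refine hc3 ?_
    field_simp at e
    linear_combination -e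
  -- four distinct indices
  have hcard4 : ({i, j, k, l} : Finset (Fin n)).card = 4 := by
    rw [Finset.card_insert_of_notMem, Finset.card_insert_of_notMem, Finset.card_pair hkl] <;>
      simp [hij, hik, hil, hjk, hjl]
  have hn4 : n = 4 := by
    have := Finset.card_le_univ ({i, j, k, l} : Finset (Fin n))
    rw [Fintype.card_fin] at this
    omega
  have : Fintype F := Fintype.ofFinite F
  rcases (hF4 hn4).eq_or_lt with hq3 | hq4
  swap
  · obtain ⟨c, hc0, hc2⟩ := GL.exists_sq_ne_one_of_four_le_card (F := F) hq4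
    let d : Fin n → F := fun x => if x = k then c else if x = l then c⁻¹ else 1
    have hd : ∏ x, d x = 1 := by
      rw [← Finset.prod_erase_mul _ _ (Finset.mem_univ k), ← Finset.prod_erase_mul _ _
        (Finset.mem_erase.2 ⟨hkl.symm, Finset.mem_univ l⟩), Finset.prod_eq_one]
      · simp [d, hkl.symm, hc0]
      · intro x hx
        obtain ⟨h1, h2⟩ := Finset.mem_erase.1 hx
        simp [d, h1, Finset.ne_of_mem_erase h2]
    refine commute_of_torus σ hs hz hij hkl hil hjk d hd (by simp [d, hik, hil, hjk, hjl]) ?_ ha hb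
    simp only [d, if_pos, if_neg hkl.symm]
    intro e
    refine hc2 ?_
    field_simp at e
    linear_combination e
  -- three elements: a permutation matrix exchanges the two roots
  have hchar : ((3 : ℕ) : F) = 0 := by rw [hq3, Nat.card_eq_fintype_card]; exact Nat.cast_card_eq_zero F
  have hnat : ∀ x : F, ∃ r : ℕ, (r : F) = x := by
    intro x
    have hp : Fact (Nat.Prime 3) := ⟨Nat.prime_three⟩
    have : CharP F 3 := CharP.charP_iff_prime_eq_zero Nat.prime_three |>.2 hchar
    let e := ZMod.ringEquivOfPrime F Nat.prime_three (by rw [← Nat.card_eq_fintype_card, ← hq3])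
    refine ⟨(e.symm x).val, ?_⟩
    rw [← map_natCast e, ZMod.natCast_zmod_val, RingEquiv.apply_symm_apply]
  obtain ⟨a₁, ha₁⟩ := hs (el i j 1)
  obtain ⟨b₁, hb₁⟩ := hs (el k l 1)
  have hpow : ∀ {p q : Fin n} (h : p ≠ q) (r : ℕ), (el p q (r : F) : Matrix.SpecialLinearGroup (Fin n) F) = el p q 1 ^ r := by
    intro p q h r
    induction r with
    | zero =>
      rw [Nat.cast_zero, pow_zero]
      have := el_add (F := F) h (0 : F) 0
      rw [add_zero] at this
      exact left_eq_mul.1 this
    | succ r ih => rw [Nat.cast_succ, el_add h, ih, pow_succ]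
  have hx : ⁅a₁, b₁⁆ = 1 := by
    have hc : ⁅a₁, b₁⁆ ∈ center Γ := central_of_comm σ hz (by rw [ha₁, hb₁, el_comm hij hkl hil hjk])
    let π : Equiv.Perm (Fin n) := Equiv.swap i k * Equiv.swap j l
    have hsign : Equiv.Perm.sign π = 1 := by
      simp [π, Equiv.Perm.sign_swap hik, Equiv.Perm.sign_swap hjl]
    obtain ⟨g, hg⟩ := hs (permMat π hsign)
    have hπ : π i = k ∧ π j = l ∧ π k = i ∧ π l = j := by
      simp [π, Equiv.swap_apply_def, hij, hij.symm, hik, Ne.symm hik, hil, hil.symm, hjk, hjk.symm, hjl,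
        Ne.symm hjl, hkl, hkl.symm]
    have h1 : ⁅a₁, b₁⁆ = ⁅a₁, b₁⁆⁻¹ := by
      conv_lhs => rw [← conj_central (g := g) hc, conj_commutator]
      rw [commutatorElement_inv]
      refine commutator_congr hz ?_ ?_ <;> rw [map_mul, map_mul, map_inv, hg]
      · rw [ha₁, hb₁]
        have := permMat_el (F := F) π hsign hkl 1
        rwa [hπ.2.2.1, hπ.2.2.2] at this
      · rw [ha₁, hb₁]
        have := permMat_el (F := F) π hsign hij 1
        rwa [hπ.1, hπ.2.1] at this
    have h3 : ⁅a₁, b₁⁆ * ⁅a₁, b₁⁆ * ⁅a₁, b₁⁆ = 1 := by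
      have hc2 : ⁅a₁, b₁ * b₁⁆ = ⁅a₁, b₁⁆ * ⁅a₁, b₁⁆ := comm_mul_of_central hc
      rw [← hc2, ← comm_mul_of_central hc, ← commutatorElement_one_right a₁]
      refine commutator_congr hz rfl ?_
      rw [map_one, map_mul, map_mul, hb₁, ← pow_two, ← pow_succ, ← hpow hkl, hchar]
      have := el_add (F := F) hkl (0 : F) 0
      rw [add_zero] at this
      exact left_eq_mul.1 this
    have h4 : ⁅a₁, b₁⁆ * ⁅a₁, b₁⁆ = 1 := by nth_rewrite 2 [h1]; exact mul_inv_cancel _
    rwa [h4, one_mul] at h3
  obtain ⟨r, rfl⟩ := hnat t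
  obtain ⟨r', rfl⟩ := hnat s
  rw [← commutatorElement_eq_one_iff_commute,
    commutator_congr hz (a' := a₁ ^ r) (b' := b₁ ^ r') (by rw [ha, map_pow, ha₁, hpow hij])
      (by rw [hb, map_pow, hb₁, hpow hkl]), commutatorElement_eq_one_iff_commute]
  exact (commutatorElement_eq_one_iff_commute.1 hx).pow_pow r r'


omit hz hn hF hF4 in
theorem sigma_B {i k j : Fin n} (hik : i ≠ k) (hkj : k ≠ j) (hij : i ≠ j) (t u : F) :
    σ (B σ hs i k j t u) = el i j (t * u) := by
  rw [B, map_commutatorElement, Function.surjInv_eq hs, Function.surjInv_eq hs, el_chain hik hkj hij]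

omit hn hF hF4 in
theorem B_eq {i k j : Fin n} {t u : F} {a b : Γ} (ha : σ a = el i k t) (hb : σ b = el k j u) :
    B σ hs i k j t u = ⁅a, b⁆ :=
  commutator_congr hz (by rw [Function.surjInv_eq hs, ha]) (by rw [Function.surjInv_eq hs, hb])

theorem B_add_left {i k j : Fin n} (hik : i ≠ k) (hkj : k ≠ j) (hij : i ≠ j) (t t' u : F) :
    B σ hs i k j (t + t') u = B σ hs i k j t u * B σ hs i k j t' u := by
  obtain ⟨a, ha⟩ := hs (el i k t)
  obtain ⟨a', ha'⟩ := hs (el i k t')
  obtain ⟨b, hb⟩ := hs (el k j u)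
  rw [B_eq σ hs hz (a := a * a') (b := b) (by rw [map_mul, ha, ha', el_add hik]) hb,
    B_eq σ hs hz ha hb, B_eq σ hs hz ha' hb]
  have h1 : Commute a ⁅a', b⁆ := commute_lift σ hs hz hn hF hF4 hik hij hij hik.symm ha
    (s := t' * u) (by rw [map_commutatorElement, ha', hb, el_chain hik hkj hij])
  have h2 : Commute ⁅a', b⁆ ⁅a, b⁆ := commute_lift σ hs hz hn hF hF4 hij hij hij hij.symm
    (t := t' * u) (s := t * u) (by rw [map_commutatorElement, ha', hb, el_chain hik hkj hij])
    (by rw [map_commutatorElement, ha, hb, el_chain hik hkj hij])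
  rw [← h2.eq]
  have h3 := h1.eq
  rw [commutatorElement_def, commutatorElement_def, commutatorElement_def] at *
  calc a * a' * b * (a * a')⁻¹ * b⁻¹ = a * (a' * b * a'⁻¹ * b⁻¹) * (b * a⁻¹ * b⁻¹) := by group
    _ = a' * b * a'⁻¹ * b⁻¹ * (a * b * a⁻¹ * b⁻¹) := by rw [h3]; group

theorem B_add_right {i k j : Fin n} (hik : i ≠ k) (hkj : k ≠ j) (hij : i ≠ j) (t u u' : F) :
    B σ hs i k j t (u + u') = B σ hs i k j t u * B σ hs i k j t u' := by
  obtain ⟨a, ha⟩ := hs (el i k t)
  obtain ⟨b, hb⟩ := hs (el k j u)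
  obtain ⟨b', hb'⟩ := hs (el k j u')
  rw [B_eq σ hs hz (a := a) (b := b * b') ha (by rw [map_mul, hb, hb', el_add hkj]),
    B_eq σ hs hz ha hb, B_eq σ hs hz ha hb']
  have h1 : Commute b ⁅a, b'⁆ := commute_lift σ hs hz hn hF hF4 hkj hij hkj hij.symm hb
    (s := t * u') (by rw [map_commutatorElement, ha, hb', el_chain hik hkj hij])
  have h3 := h1.eq
  rw [commutatorElement_def, commutatorElement_def, commutatorElement_def] at *
  calc a * (b * b') * a⁻¹ * (b * b')⁻¹ = a * b * a⁻¹ * (a * b' * a⁻¹ * b'⁻¹) * b⁻¹ := by group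
    _ = a * b * a⁻¹ * (b⁻¹ * (b * (a * b' * a⁻¹ * b'⁻¹))) * b⁻¹ := by group
    _ = a * b * a⁻¹ * b⁻¹ * (a * b' * a⁻¹ * b'⁻¹) := by rw [h3]; group

/-- Moving the middle index. -/
theorem B_assoc {i k l j : Fin n} (hik : i ≠ k) (hkl : k ≠ l) (hlj : l ≠ j) (hil : i ≠ l) (hkj : k ≠ j)
    (hij : i ≠ j) (t r u : F) : B σ hs i l j (t * r) u = B σ hs i k j t (r * u) := by
  obtain ⟨a, ha⟩ := hs (el i k t)
  obtain ⟨b, hb⟩ := hs (el k l r)
  obtain ⟨c, hc⟩ := hs (el l j u)
  have hA : σ ⁅a, b⁆ = el i l (t * r) := by rw [map_commutatorElement, ha, hb, el_chain hik hkl hil]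
  have hC : σ ⁅b, c⁆ = el k j (r * u) := by rw [map_commutatorElement, hb, hc, el_chain hkl hlj hkj]
  have hAc : σ ⁅⁅a, b⁆, c⁆ = el i j (t * r * u) := by rw [map_commutatorElement, hA, hc, el_chain hil hlj hij]
  rw [B_eq σ hs hz hA hc, B_eq σ hs hz ha hC]
  have h1 : Commute a c := commute_lift σ hs hz hn hF hF4 hik hlj hij hkl ha hc
  have h2 : Commute ⁅a, b⁆ ⁅b, c⁆ := commute_lift σ hs hz hn hF hF4 hil hkj hij hkl.symm hA hC
  have h3 : Commute ⁅⁅a, b⁆, c⁆ ⁅b, c⁆ := commute_lift σ hs hz hn hF hF4 hij hkj hij hkj.symm hAc hC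
  have e : a * ⁅b, c⁆ * a⁻¹ = ⁅⁅a, b⁆, c⁆ * ⁅b, c⁆ := by
    rw [conj_commutator, show a * c * a⁻¹ = c by rw [h1.eq, mul_inv_cancel_right],
      show a * b * a⁻¹ = ⁅a, b⁆ * b by rw [commutatorElement_def]; group, h3.eq]
    have h4 := h2.eq
    generalize ⁅a, b⁆ = A at h4 ⊢
    rw [commutatorElement_def, commutatorElement_def, commutatorElement_def] at *
    calc A * b * c * (A * b)⁻¹ * c⁻¹ = A * (b * c * b⁻¹ * c⁻¹) * (c * A⁻¹ * c⁻¹) := by group
      _ = b * c * b⁻¹ * c⁻¹ * (A * c * A⁻¹ * c⁻¹) := by rw [h4]; group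
  show ⁅⁅a, b⁆, c⁆ = a * ⁅b, c⁆ * a⁻¹ * ⁅b, c⁆⁻¹
  rw [e, mul_inv_cancel_right]

/-- The scalars moving through the commutator. -/
theorem B_scalar {i k j : Fin n} (hik : i ≠ k) (hkj : k ≠ j) (hij : i ≠ j) (r t u : F) :
    B σ hs i k j (t * r) u = B σ hs i k j t (r * u) := by
  classical
  by_cases hl : ∃ l, l ≠ i ∧ l ≠ k ∧ l ≠ j
  · obtain ⟨l, hli, hlk, hlj⟩ := hl
    have h1 := B_assoc σ hs hz hn hF hF4 hik hlk.symm hlj hli.symm hkj hij
    have h2 := h1 (t * r) 1 u
    rw [mul_one, one_mul] at h2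
    rw [← h2, h1]
  -- `n = 3`: the scalars which move through form a subfield containing the cubes
  push Not at hl
  have h3 : n = 3 := by
    have : (Finset.univ : Finset (Fin n)) ⊆ {i, k, j} := fun l _ => by
      simp only [Finset.mem_insert, Finset.mem_singleton]
      by_cases h1 : l = i
      · exact Or.inl h1
      by_cases h2 : l = k
      · exact Or.inr (Or.inl h2)
      exact Or.inr (Or.inr (hl l h1 h2))
    have := (Finset.card_le_card this).trans Finset.card_le_three
    rw [Finset.card_univ, Fintype.card_fin] at this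
    omega
  have : Fintype F := Fintype.ofFinite F
  have hcube : ∀ a : F, a ≠ 0 → ∀ t u, B σ hs i k j (t * a ^ 3) u = B σ hs i k j t (a ^ 3 * u) := by
    intro a ha0 t u
    have hprod : ∀ (c : F), c ≠ 0 → ∏ x, (if x = k then (c ^ 2)⁻¹ else c) = 1 := by
      intro c hc0
      rw [← Finset.prod_erase_mul _ _ (Finset.mem_univ k), Finset.prod_congr rfl (g := fun _ => c)
        (fun x hx => if_neg (Finset.ne_of_mem_erase hx)), Finset.prod_const, Finset.card_erase_of_mem
        (Finset.mem_univ k), Finset.card_univ, Fintype.card_fin, show n - 1 = 2 by omega]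
      simp [hc0]
    let d : Fin n → F := fun x => if x = k then (a ^ 2)⁻¹ else a
    obtain ⟨g, hg⟩ := hs (torus d (hprod a ha0))
    -- `g` centralises the lifts of `el i j`
    obtain ⟨c, hc0, hc3⟩ := hF h3
    have hne : c ≠ 1 := fun h => hc3 (by rw [h, one_pow])
    let d' : Fin n → F := fun x => if x = i then c else if x = k then c⁻¹ else 1
    have hd' : ∏ x, d' x = 1 := by
      rw [← Finset.prod_erase_mul _ _ (Finset.mem_univ i), ← Finset.prod_erase_mul _ _
        (Finset.mem_erase.2 ⟨hik.symm, Finset.mem_univ k⟩), Finset.prod_eq_one]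
      · simp [d', hik.symm, hc0]
      · intro x hx
        obtain ⟨h1, h2⟩ := Finset.mem_erase.1 hx
        simp [d', h1, Finset.ne_of_mem_erase h2]
    obtain ⟨g', hg'⟩ := hs (torus d' hd')
    choose w hw using fun x : F => hs (el i j x)
    have hcen : ∀ x, ⁅g, w x⁆ ∈ center Γ := fun x => central_of_comm σ hz (by
      rw [hg, hw, ← mul_inv_eq_iff_eq_mul, torus_el d _ hij]
      congr 1
      simp only [d, if_neg hik, if_neg hkj.symm]
      field_simp)
    have hfix : ∀ x, ⁅g, w x⁆ = 1 := by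
      refine eq_one_of_scale (σ := σ) (hs := hs) (hz := hz) (fun x y => ?_) (c := c) hne fun x => ?_
      · rw [← comm_mul_of_central (hcen y)]
        exact commutator_congr hz rfl (by rw [map_mul, hw, hw, hw, el_add hij])
      · conv_rhs => rw [← conj_central (g := g') (hcen x), conj_commutator]
        refine commutator_congr hz ?_ ?_ <;> rw [map_mul, map_mul, map_inv, hg']
        · rw [hg, torus_comm, mul_inv_cancel_right]
        · rw [hw, hw, torus_el d' _ hij]
          congr 1
          simp [d', hij.symm, hkj.symm]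
    have hB : Commute g (B σ hs i k j (t * a ^ 3) u) ∧ True := by
      refine ⟨?_, trivial⟩
      rw [← commutatorElement_eq_one_iff_commute, ← hfix (t * a ^ 3 * u)]
      exact commutator_congr hz rfl (by rw [sigma_B σ hs hik hkj hij, hw])
    obtain ⟨p, hp⟩ := hs (el i k t)
    obtain ⟨q, hq⟩ := hs (el k j (a ^ 3 * u))
    have e : g * ⁅p, q⁆ * g⁻¹ = B σ hs i k j (t * a ^ 3) u := by
      rw [conj_commutator]
      refine (B_eq σ hs hz ?_ ?_).symm <;> rw [map_mul, map_mul, map_inv, hg]
      · rw [hp, torus_el d _ hik]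
        congr 1
        simp only [d, if_neg hik, if_pos]
        field_simp
      · rw [hq, torus_el d _ hkj]
        congr 1
        simp only [d, if_neg hkj.symm, if_pos]
        field_simp
    rw [B_eq σ hs hz hp hq]
    have h5 := hB.1.eq
    rw [← e] at h5
    rw [← e]
    have h6 : g⁻¹ * (g * (g * ⁅p, q⁆ * g⁻¹)) = g⁻¹ * (g * ⁅p, q⁆ * g⁻¹ * g) := by rw [h5]
    simpa [mul_assoc] using h6
  let R : Subfield F :=
    { carrier := {r | ∀ t u, B σ hs i k j (t * r) u = B σ hs i k j t (r * u)}
      one_mem' := fun t u => by rw [mul_one, one_mul]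
      mul_mem' := fun {r r'} hr hr' t u => by rw [← mul_assoc, hr', hr, ← mul_assoc]
      zero_mem' := fun t u => by
        have h1 := B_add_left σ hs hz hn hF hF4 hik hkj hij (0 : F) 0 u
        have h2 := B_add_right σ hs hz hn hF hF4 hik hkj hij t 0 (0 : F)
        rw [add_zero] at h1 h2
        rw [mul_zero, zero_mul, left_eq_mul.1 h1, left_eq_mul.1 h2]
      add_mem' := fun {r r'} hr hr' t u => by
        rw [mul_add, B_add_left σ hs hz hn hF hF4 hik hkj hij, hr, hr', add_mul,
          B_add_right σ hs hz hn hF hF4 hik hkj hij]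
      neg_mem' := fun {r} hr t u => by
        have h1 := B_add_left σ hs hz hn hF hF4 hik hkj hij (t * r) (t * -r) u
        have h2 := B_add_right σ hs hz hn hF hF4 hik hkj hij t (r * u) (-r * u)
        have h1' := B_add_left σ hs hz hn hF hF4 hik hkj hij (0 : F) 0 u
        have h2' := B_add_right σ hs hz hn hF hF4 hik hkj hij t 0 (0 : F)
        rw [add_zero] at h1' h2'
        rw [mul_neg, add_neg_cancel, left_eq_mul.1 h1'] at h1
        rw [neg_mul, add_neg_cancel, left_eq_mul.1 h2'] at h2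
        rw [hr] at h1
        rw [mul_neg, neg_mul]
        exact mul_left_cancel (h1.symm.trans h2)
      inv_mem' := fun r hr t u => by
        rcases eq_or_ne r 0 with rfl | hr0
        · rw [_root_.inv_zero]
          simpa using hr t u
        have := hr (t * r⁻¹) (r⁻¹ * u)
        rw [mul_assoc, inv_mul_cancel₀ hr0, mul_one, ← mul_assoc r, mul_inv_cancel₀ hr0, one_mul] at this
        exact this.symm }
  suffices hR : R = ⊤ from (show r ∈ R by rw [hR]; trivial) t u
  exact subfield_eq_top_of_cubes R (hF h3) fun a ha => hcube a ha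

/-- The Steinberg relations among the lifts. -/
theorem exists_rels : ∃ S : SL2Presentation.Rels F n Γ, ∀ i j, i ≠ j → ∀ t, σ (S.x i j t) = el i j t := by
  classical
  have hmid : ∀ i j : Fin n, ∃ k, k ≠ i ∧ k ≠ j := by
    intro i j
    by_contra hh
    push Not at hh
    have : (Finset.univ : Finset (Fin n)) ⊆ {i, j} := fun m _ => by
      simp only [Finset.mem_insert, Finset.mem_singleton]
      by_cases h1 : m = i
      · exact Or.inl h1
      · exact Or.inr (hh m h1)
    have := (Finset.card_le_card this).trans Finset.card_le_two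
    rw [Finset.card_univ, Fintype.card_fin] at this
    omega
  choose m hmi hmj using hmid
  have hx : ∀ i j, i ≠ j → ∀ t, σ (B σ hs i (m i j) j t 1) = el i j t := fun i j h t => by
    rw [sigma_B σ hs (hmi i j).symm (hmj i j) h, mul_one]
  refine ⟨⟨fun i j t => B σ hs i (m i j) j t 1, fun i j h t u => ?_, fun i j k l h1 h2 h3 h4 t u => ?_,
    fun i j l h1 h2 h3 t u => ?_⟩, hx⟩
  · exact B_add_left σ hs hz hn hF hF4 (hmi i j).symm (hmj i j) h t u 1
  · exact commute_lift σ hs hz hn hF hF4 h1 h2 h3 h4 (hx i j h1 t) (hx k l h2 u)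
  · have e : B σ hs i (m i l) l (t * u) 1 = B σ hs i j l t u := by
      by_cases hjm : m i l = j
      · rw [hjm, B_scalar σ hs hz hn hF hF4 h1 h2 h3, mul_one]
      · rw [B_assoc σ hs hz hn hF hF4 h1 (Ne.symm hjm) (hmj i l) (hmi i l).symm h2 h3, mul_one]
    rw [e, B_eq σ hs hz (hx i j h1 t) (hx j l h2 u), commutatorElement_def]
    group

end Lift

/-- **Steinberg**: the Schur multiplier of `SL_n(q)` is trivial. -/
theorem hasCyclicSchurMultiplier [Fintype F] (hn : 3 ≤ n) (hF : n = 3 → ∃ a : F, a ≠ 0 ∧ a ^ 3 ≠ 1)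
    (hF4 : n = 4 → 3 ≤ Nat.card F) : Cfsg.HasCyclicSchurMultiplier (Matrix.SpecialLinearGroup (Fin n) F) 1 := by
  classical
  refine Schur.hasCyclicSchurMultiplier_one fun Γ _ _ σ hσ => ?_
  obtain ⟨hs, hz, hc⟩ := hσ
  obtain ⟨R, hR⟩ := exists_rels σ hs hz hn hF hF4
  let T : SL2Presentation.StN F n Γ :=
    { R with
      rel := fun i j hij t u ht => by
        obtain ⟨k, hki, hkj⟩ : ∃ k : Fin n, k ≠ i ∧ k ≠ j := by
          have : ({i, j} : Finset (Fin n))ᶜ.Nonempty := by
            rw [← Finset.card_pos, Finset.card_compl, Fintype.card_fin, Finset.card_pair hij]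
            omega
          obtain ⟨k, hk⟩ := this
          exact ⟨k, by simp at hk; exact hk.1, by simp at hk; exact hk.2⟩
        exact R.rel_of_third hij hki hkj t u ht
      gen := by
        set H := Subgroup.closure {g : Γ | ∃ i j, i ≠ j ∧ ∃ t, g = R.x i j t}
        have hH : H.map σ = ⊤ := by
          rw [eq_top_iff, ← closure_el (F := F) (n := n), Subgroup.closure_le]
          rintro _ ⟨i, j, hij, t, rfl⟩
          exact ⟨_, subset_closure ⟨i, j, hij, t, rfl⟩, hR i j hij t⟩
        have hcom : _root_.commutator Γ ≤ H := by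
          rw [commutator_def, commutator_le]
          rintro a - b -
          obtain ⟨a', ha', hae⟩ : σ a ∈ H.map σ := hH ▸ mem_top _
          obtain ⟨b', hb', hbe⟩ : σ b ∈ H.map σ := hH ▸ mem_top _
          rw [← commutator_congr hz hae hbe, commutatorElement_def]
          exact mul_mem (mul_mem (mul_mem ha' hb') (inv_mem ha')) (inv_mem hb')
        refine eq_top_iff.2 fun γ _ => ?_
        obtain ⟨h, hh, he⟩ : σ γ ∈ H.map σ := hH ▸ mem_top _
        have : h⁻¹ * γ ∈ σ.ker := by rw [MonoidHom.mem_ker, map_mul, map_inv, he, inv_mul_cancel]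
        have := mul_mem hh (hcom (hc this))
        rwa [mul_inv_cancel_left] at this }
  obtain ⟨m, rfl⟩ : ∃ m, n = m + 1 := ⟨n - 1, by omega⟩
  obtain ⟨-, hle⟩ := SL2Presentation.StN.card_bound m T
  have hbij : Function.Bijective σ := by
    refine hs.bijective_of_nat_card_le (hle.trans (le_of_eq ?_))
    rw [GL.card_SL_prod]
    simp
  exact (MonoidHom.ker_eq_bot_iff σ).2 hbij.1

end Cfsg.Agent.Schur.SLn
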