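import Mathlib
import Cfsg.Prelude.Def_KGroupFacts

/-!
Fibre products of stem extensions with kernels of coprime orders.
-/

set_option autoImplicit false

namespace Cfsg.Agent.Schur

open Subgroup

universe u v w

variable {A : Type u} [Group A] {B : Type v} [Group B] {G : Type w} [Group G]

/-- The fibre product of two homomorphisms. -/
def fibre (α : A →* G) (β : B →* G) : Subgroup (A × B) where
  carrier := {x | α x.1 = β x.2}
  one_mem' := by simp
  mul_mem' := fun {x y} hx hy => by
    show α (x.1 * y.1) = β (x.2 * y.2)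
    rw [map_mul, map_mul, hx, hy]
  inv_mem' := fun {x} hx => by
    show α x.1⁻¹ = β x.2⁻¹
    rw [map_inv, map_inv, hx]

def fibreFst (α : A →* G) (β : B →* G) : fibre α β →* A :=
  (MonoidHom.fst A B).comp (fibre α β).subtype

theorem mem_fibre {α : A →* G} {β : B →* G} {x : A × B} : x ∈ fibre α β ↔ α x.1 = β x.2 := Iff.rfl

theorem fibreFst_surjective (α : A →* G) {β : B →* G} (hβ : Function.Surjective β) :
    Function.Surjective (fibreFst α β) := fun a => by
  obtain ⟨b, hb⟩ := hβ (α a)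
  exact ⟨⟨(a, b), mem_fibre.2 hb.symm⟩, rfl⟩

def fibreSnd (α : A →* G) (β : B →* G) : fibre α β →* B :=
  (MonoidHom.snd A B).comp (fibre α β).subtype

theorem fibreSnd_surjective {α : A →* G} (hα : Function.Surjective α) (β : B →* G) :
    Function.Surjective (fibreSnd α β) := fun b => by
  obtain ⟨a, ha⟩ := hα (β b)
  exact ⟨⟨(a, b), mem_fibre.2 ha⟩, rfl⟩

theorem exists_mem_commutator_of_surjective {X Y : Type*} [Group X] [Group Y] {f : X →* Y}
    (hf : Function.Surjective f) {y : Y} (hy : y ∈ _root_.commutator Y) :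
    ∃ x ∈ _root_.commutator X, f x = y := by
  have h : (_root_.commutator X).map f = _root_.commutator Y := by
    rw [_root_.commutator_def, _root_.commutator_def, Subgroup.map_commutator,
      ← MonoidHom.range_eq_map, MonoidHom.range_eq_top.2 hf]
  rw [← h] at hy
  exact hy

/-- Elements killed by `n` on one side of a coprime product are powers of a lift. -/
theorem exists_zpow_fst (α : A →* G) {β : B →* G} (hα : Function.Surjective α)
    (hβ : Function.Surjective β) {m n : ℕ} (hco : m.Coprime n)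
    (hAd : α.ker ≤ _root_.commutator A) (hA : ∀ a ∈ α.ker, a ^ m = 1)
    (hB : ∀ b ∈ β.ker, b ^ n = 1) {a : A} (ha : a ∈ α.ker) :
    ∀ x : fibre α β, (x : A × B) = (a, 1) → x ∈ _root_.commutator (fibre α β) := by
  intro x hx
  obtain ⟨y, hy, hya⟩ := exists_mem_commutator_of_surjective (fibreFst_surjective α hβ) (hAd ha)
  have hy1 : (y : A × B).1 = a := hya
  have hy2 : (y : A × B).2 ∈ β.ker := by
    have := mem_fibre.1 y.2
    rw [hy1, MonoidHom.mem_ker.1 ha] at this
    exact this.symm
  have : x = y ^ ((n : ℤ) * Int.gcdB m n) := by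
    have hbez : (1 : ℤ) = m * Int.gcdA m n + n * Int.gcdB m n := by
      rw [← Int.gcd_eq_gcd_ab, Int.gcd_natCast_natCast, hco.gcd_eq_one]; rfl
    apply Subtype.ext
    rw [SubgroupClass.coe_zpow, hx]
    refine Prod.ext ?_ ?_
    · rw [← MonoidHom.coe_fst, map_zpow, MonoidHom.coe_fst, hy1]
      show a = _
      conv_lhs => rw [← zpow_one a, hbez, zpow_add, zpow_mul, zpow_natCast, hA a ha, one_zpow, one_mul]
    · rw [← MonoidHom.coe_snd, map_zpow, MonoidHom.coe_snd]
      show (1 : B) = _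
      rw [zpow_mul, zpow_natCast, hB _ hy2, one_zpow]
  rw [this]
  exact zpow_mem hy _

/-- Two stem extensions with kernels of coprime orders give one with the product kernel. -/
theorem isStemExtension_fibre {A B : Type u} [Group A] [Group B] {α : A →* G} {β : B →* G}
    (hα : Cfsg.IsStemExtension α) (hβ : Cfsg.IsStemExtension β) {m n : ℕ} (hco : m.Coprime n)
    (hA : ∀ a ∈ α.ker, a ^ m = 1) (hB : ∀ b ∈ β.ker, b ^ n = 1) :
    Cfsg.IsStemExtension (α.comp (fibreFst α β)) ∧
      Nonempty ((α.comp (fibreFst α β)).ker ≃* α.ker × β.ker) := by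
  have hker : ∀ x : fibre α β, x ∈ (α.comp (fibreFst α β)).ker ↔
      (x : A × B).1 ∈ α.ker ∧ (x : A × B).2 ∈ β.ker := fun x => by
    constructor
    · intro h
      have h1 : α (x : A × B).1 = 1 := h
      exact ⟨h1, (mem_fibre.1 x.2).symm.trans h1⟩
    · exact fun h => h.1
  refine ⟨⟨hα.1.comp (fibreFst_surjective α hβ.1), fun x hx => ?_, fun x hx => ?_⟩, ⟨?_⟩⟩
  · rw [hker] at hx
    exact mem_center_iff.2 fun g => Subtype.ext (Prod.ext (mem_center_iff.1 (hα.2.1 hx.1) _)
      (mem_center_iff.1 (hβ.2.1 hx.2) _))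
  · rw [hker] at hx
    let x1 : fibre α β := ⟨((x : A × B).1, 1), mem_fibre.2 (hx.1.trans (map_one β).symm)⟩
    let x2 : fibre α β := ⟨(1, (x : A × B).2), mem_fibre.2 ((map_one α).trans hx.2.symm)⟩
    have e : x = x1 * x2 := Subtype.ext (Prod.ext (by simp [x1, x2]) (by simp [x1, x2]))
    rw [e]
    refine mul_mem (exists_zpow_fst α hα.1 hβ.1 hco hα.2.2 hA hB hx.1 x1 rfl) ?_
    obtain ⟨y, hy, hyb⟩ := exists_mem_commutator_of_surjective
      (fibreSnd_surjective hα.1 β) (hβ.2.2 hx.2)
    have h1 : (y : A × B).1 ∈ α.ker := by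
      have h2 : (y : A × B).2 = (x : A × B).2 := hyb
      rw [MonoidHom.mem_ker, mem_fibre.1 y.2, h2]; exact hx.2
    let y1 : fibre α β := ⟨((y : A × B).1, 1), mem_fibre.2 (h1.trans (map_one β).symm)⟩
    have : x2 = y1⁻¹ * y := Subtype.ext (Prod.ext (by simp [x2, y1]) (by
      show (x : A × B).2 = (1 : B)⁻¹ * (y : A × B).2
      rw [inv_one, one_mul]; exact hyb.symm))
    rw [this]
    exact mul_mem (inv_mem (exists_zpow_fst α hα.1 hβ.1 hco hα.2.2 hA hB h1 y1 rfl)) hy
  · exact
      { toFun := fun x => (⟨_, ((hker x.1).1 x.2).1⟩, ⟨_, ((hker x.1).1 x.2).2⟩)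
        invFun := fun y => ⟨⟨(y.1.1, y.2.1), mem_fibre.2 (y.1.2.trans y.2.2.symm)⟩,
          (hker _).2 ⟨y.1.2, y.2.2⟩⟩
        left_inv := fun x => rfl
        right_inv := fun y => rfl
        map_mul' := fun x y => rfl }

end Cfsg.Agent.Schur
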