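import Cfsg.Agent.Lib.Schur.Basic
import Cfsg.Agent.Lib.Schur.Stem

/-!
Bounds on stem kernels from Sylow images of order `p`, `p²` or dihedral of order eight, and their
assembly for multipliers of squarefree order.
-/

set_option autoImplicit false

namespace Cfsg.Agent.Schur.SmallSylow

open scoped commutatorElement

universe u

open Subgroup

variable {Γ G : Type*} [Group Γ] [Group G]

theorem commutator_closure_le {S : Set Γ} (N : Subgroup Γ) (hn : S ⊆ normalizer (N : Set Γ))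
    (h : ∀ a ∈ S, ∀ b ∈ S, ⁅a, b⁆ ∈ N) : ⁅closure S, closure S⁆ ≤ N := by
  have hn' : closure S ≤ normalizer (N : Set Γ) := (closure_le _).2 hn
  have step : ∀ g : Γ, (∀ b ∈ S, ⁅g, b⁆ ∈ N) → ∀ k ∈ closure S, ⁅g, k⁆ ∈ N := by
    intro g hg k hk
    induction hk using closure_induction with
    | mem x hx => exact hg x hx
    | one => rw [commutatorElement_one_right]; exact one_mem _
    | mul x y hx hy ihx ihy =>
      rw [show ⁅g, x * y⁆ = ⁅g, x⁆ * (x * ⁅g, y⁆ * x⁻¹) by simp only [commutatorElement_def]; group]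
      exact mul_mem ihx ((mem_normalizer_iff.1 (hn' hx) _).1 ihy)
    | inv x hx ih =>
      rw [show ⁅g, x⁻¹⁆ = x⁻¹ * ⁅g, x⁆⁻¹ * x⁻¹⁻¹ by simp only [commutatorElement_def]; group]
      exact (mem_normalizer_iff.1 (inv_mem (hn' hx)) _).1 (inv_mem ih)
  rw [Subgroup.commutator_le]
  intro g hg k hk
  refine step g (fun b hb => ?_) k hk
  have := step b (fun c hc => h b hb c hc) g hg
  rw [← commutatorElement_inv]
  exact inv_mem this

theorem le_closure_of_map_le (σ : Γ →* G) (P : Subgroup Γ) (S : Set Γ)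
    (h : P.map σ ≤ closure (σ '' S)) : P ≤ closure (S ∪ σ.ker) := by
  intro x hx
  have h1 := h ⟨x, hx, rfl⟩
  rw [← MonoidHom.map_closure] at h1
  obtain ⟨y, hy, hxy⟩ := h1
  have h2 : y⁻¹ * x ∈ σ.ker := by
    rw [MonoidHom.mem_ker, map_mul, map_inv, hxy, inv_mul_cancel]
  have h3 := mul_mem (closure_mono Set.subset_union_left hy)
    (subset_closure (Or.inr h2) : y⁻¹ * x ∈ closure (S ∪ σ.ker))
  rwa [mul_inv_cancel_left] at h3

/-- An image of order dividing `p`. -/
theorem card_local_prime [Finite Γ] (σ : Γ →* G) (hz : σ.ker ≤ center Γ) {p : ℕ} (hp : p.Prime)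
    (P : Subgroup Γ) (hP : Nat.card (P.map σ) ∣ p) :
    Nat.card ↥(⁅P, P⁆ ⊓ σ.ker) = 1 := by
  haveI := Fact.mk hp
  haveI : IsCyclic (P.map σ) := isCyclic_of_card_dvd_prime hP
  rw [commutator_inf_ker_eq_bot_of_isCyclic σ hz P]
  exact card_bot

/-- An image of order dividing `p²`. -/
theorem card_local_prime_sq [Finite Γ] (σ : Γ →* G) (hz : σ.ker ≤ center Γ) {p : ℕ} (hp : p.Prime)
    (P : Subgroup Γ) (hP : Nat.card (P.map σ) ∣ p ^ 2) :
    Nat.card ↥(⁅P, P⁆ ⊓ σ.ker) ∣ p := by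
  haveI := Fact.mk hp
  by_cases hc : IsCyclic (P.map σ)
  · rw [commutator_inf_ker_eq_bot_of_isCyclic σ hz P, card_bot]; exact one_dvd _
  have hcard : Nat.card (P.map σ) = p ^ 2 := by
    obtain ⟨k, hk, hk'⟩ := (Nat.dvd_prime_pow hp).1 hP
    rcases Nat.lt_or_ge k 2 with h | h
    · exact absurd (isCyclic_of_card_dvd_prime (p := p)
        (hk' ▸ (Nat.pow_dvd_pow p (Nat.le_of_lt_succ h)).trans (pow_one p).dvd)) hc
    · rw [hk', le_antisymm hk h]
  haveI : Finite (P.map σ) := Nat.finite_of_card_ne_zero (by rw [hcard]; exact pow_ne_zero _ hp.ne_zero)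
  have hcomm := IsPGroup.commutative_of_card_eq_prime_sq (p := p) hcard
  have hexp : ∀ a : P.map σ, a ^ p = 1 := by
    intro a
    obtain ⟨k, hk, hk'⟩ := (Nat.dvd_prime_pow hp).1 (hcard ▸ orderOf_dvd_natCard a)
    rcases Nat.lt_or_ge k 2 with h | h
    · exact orderOf_dvd_iff_pow_eq_one.1
        (hk' ▸ (Nat.pow_dvd_pow p (Nat.le_of_lt_succ h)).trans (pow_one p).dvd)
    · refine absurd (isCyclic_of_orderOf_eq_card a ?_) hc
      rw [hcard, hk', le_antisymm hk h]
  -- two generators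
  obtain ⟨a, ha⟩ : ∃ a : P.map σ, a ≠ 1 := by
    by_contra h
    push Not at h
    exact hc ⟨⟨1, fun x => by rw [h x]; exact ⟨0, zpow_zero _⟩⟩⟩
  obtain ⟨b, hb⟩ : ∃ b : P.map σ, b ∉ zpowers a := by
    by_contra h
    push Not at h
    exact hc ⟨⟨a, h⟩⟩
  have hgen : (closure {a, b} : Subgroup (P.map σ)) = ⊤ := by
    apply eq_top_of_card_eq
    obtain ⟨k, hk, hk'⟩ := (Nat.dvd_prime_pow hp).1 (hcard ▸ card_subgroup_dvd_card (closure {a, b}))
    have hle : zpowers a ≤ closure {a, b} := zpowers_le.2 (subset_closure (by simp))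
    have hlt : zpowers a < closure {a, b} :=
      lt_of_le_of_ne hle fun h => hb (h ▸ subset_closure (by simp))
    have h1 : Nat.card (zpowers a) < Nat.card (closure {a, b} : Subgroup (P.map σ)) :=
      lt_of_le_of_ne (card_le_of_le hle) fun h => hlt.ne (eq_of_le_of_card_ge hle h.ge)
    rw [Nat.card_zpowers, orderOf_eq_prime (hexp a) ha, hk'] at h1
    have h2 : 1 < k := by
      by_contra h2
      have := Nat.pow_le_pow_right hp.pos (not_lt.1 h2)
      rw [pow_one] at this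
      omega
    rw [hk', hcard, le_antisymm hk h2]
  obtain ⟨A, hA, hAa⟩ := a.2
  obtain ⟨B, hB, hBb⟩ := b.2
  have hmap : P.map σ ≤ closure (σ '' {A, B}) := by
    have h1 : σ '' {A, B} = (P.map σ).subtype '' {a, b} := by
      simp [Set.image_pair, hAa, hBb]
    rw [h1, ← MonoidHom.map_closure, hgen, ← MonoidHom.range_eq_map, Subgroup.range_subtype]
  obtain ⟨c, hcdef⟩ : ∃ c : Γ, c = ⁅A, B⁆ := ⟨_, rfl⟩
  have hcker : c ∈ σ.ker := by
    rw [MonoidHom.mem_ker, hcdef, commutatorElement_def, map_mul, map_mul, map_mul, map_inv, map_inv, hAa, hBb]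
    have := congrArg Subtype.val (hcomm a b)
    simp only [Subgroup.coe_mul] at this
    rw [this]; group
  have hccen := hz hcker
  have hconj : A * B * A⁻¹ = c * B := by rw [hcdef, commutatorElement_def]; group
  have hpow : ∀ n : ℕ, A * B ^ n * A⁻¹ = c ^ n * B ^ n := by
    intro n
    induction n with
    | zero => simp
    | succ n ih =>
      rw [pow_succ, show A * (B ^ n * B) * A⁻¹ = (A * B ^ n * A⁻¹) * (A * B * A⁻¹) by group, ih,
        hconj, pow_succ]
      calc c ^ n * B ^ n * (c * B) = c ^ n * (B ^ n * c) * B := by group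
        _ = c ^ n * (c * B ^ n) * B := by rw [mem_center_iff.1 hccen (B ^ n)]
        _ = _ := by group
  have hcp : c ^ p = 1 := by
    have h1 : B ^ p ∈ σ.ker := by
      rw [MonoidHom.mem_ker, map_pow, hBb]
      exact congrArg Subtype.val (hexp b)
    have h2 := hpow p
    rw [mem_center_iff.1 (hz h1) A, mul_inv_cancel_right] at h2
    exact mul_eq_right.1 h2.symm
  have hN : ⁅P, P⁆ ≤ zpowers c := by
    refine (Subgroup.commutator_mono (le_closure_of_map_le σ P _ hmap)
      (le_closure_of_map_le σ P _ hmap)).trans (commutator_closure_le _ ?_ ?_)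
    · intro x _
      refine mem_normalizer_iff.2 fun y => ?_
      constructor <;> intro hy
      · obtain ⟨i, rfl⟩ := mem_zpowers_iff.1 hy
        rw [mem_center_iff.1 (zpow_mem hccen i) x, mul_inv_cancel_right]
        exact zpow_mem (mem_zpowers c) i
      · obtain ⟨i, hi⟩ := mem_zpowers_iff.1 hy
        have : y = x⁻¹ * c ^ i * x := by rw [hi]; group
        rw [this, mem_center_iff.1 (zpow_mem hccen i) x⁻¹, inv_mul_cancel_right]
        exact zpow_mem (mem_zpowers c) i
    · intro x hx y hy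
      have hk : ∀ u v : Γ, u ∈ σ.ker → ⁅u, v⁆ = 1 := fun u v hu =>
        commutatorElement_eq_one_iff_mul_comm.2 ((mem_center_iff.1 (hz hu) v).symm)
      rcases hx with hx | hx
      · rcases hy with hy | hy
        · rcases hx with rfl | rfl <;> rcases hy with rfl | rfl
          · simp
          · rw [hcdef]; exact mem_zpowers _
          · rw [← commutatorElement_inv, hcdef]; exact inv_mem (mem_zpowers _)
          · simp
        · rw [← commutatorElement_inv, hk y x hy, inv_one]; exact one_mem _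
      · rw [hk x y hx]; exact one_mem _
  refine (card_dvd_of_le (inf_le_left.trans hN)).trans ?_
  rw [Nat.card_zpowers]
  exact orderOf_dvd_of_pow_eq_one hcp

/-- A dihedral image of order eight. -/
theorem card_local_dihedral (σ : Γ →* G) (hz : σ.ker ≤ center Γ) (P : Subgroup Γ) {r s : G}
    (hr : r ∈ P.map σ) (hs : s ∈ P.map σ) (hr4 : r ^ 4 = 1) (hr2 : r ^ 2 ≠ 1) (hs2 : s * s = 1)
    (hsr : s * r * s⁻¹ = r⁻¹) (hgen : P.map σ ≤ closure {r, s}) :
    Nat.card ↥(⁅P, P⁆ ⊓ σ.ker) ∣ 2 := by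
  obtain ⟨R, hR, rfl⟩ := hr
  obtain ⟨S, hS, rfl⟩ := hs
  obtain ⟨z, hzdef⟩ : ∃ z : Γ, z = R * (S * R * S⁻¹) := ⟨_, rfl⟩
  have hz1 : z ∈ σ.ker := by
    rw [MonoidHom.mem_ker, hzdef, map_mul, map_mul, map_mul, map_inv, hsr, mul_inv_cancel]
  have hzc := hz hz1
  have hzcomm : ∀ g, g * z = z * g := mem_center_iff.1 hzc
  have hSR : S * R * S⁻¹ = R⁻¹ * z := by rw [hzdef]; group
  obtain ⟨c, hcdef⟩ : ∃ c : Γ, c = R * S * R⁻¹ * S⁻¹ := ⟨_, rfl⟩
  have hc : c = R * R * z⁻¹ := by
    have h1 : c = R * (S * R * S⁻¹)⁻¹ := by rw [hcdef]; group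
    rw [h1, hSR, mul_inv_rev, inv_inv]
    have := mem_center_iff.1 (inv_mem hzc) R
    rw [← mul_assoc, this, mul_assoc, ← mem_center_iff.1 (inv_mem hzc)]
  have hRc : R * c * R⁻¹ = c := by
    rw [hc, ← mul_assoc, mul_assoc _ z⁻¹, ← mem_center_iff.1 (inv_mem hzc) R⁻¹]; group
  have hzi : Commute R z := hzcomm R
  have hSc : S * c * S⁻¹ = c⁻¹ := by
    rw [hc, show S * (R * R * z⁻¹) * S⁻¹ = (S * R * S⁻¹) * (S * R * S⁻¹) * (S * z⁻¹ * S⁻¹) by group,
      hSR, mem_center_iff.1 (inv_mem hzc) S, mul_inv_cancel_right, mul_inv_rev, mul_inv_rev, inv_inv]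
    calc R⁻¹ * z * (R⁻¹ * z) * z⁻¹ = R⁻¹ * (z * R⁻¹) := by group
      _ = R⁻¹ * (R⁻¹ * z) := by rw [hzcomm R⁻¹]
      _ = (R⁻¹ * R⁻¹) * z := by group
      _ = z * (R⁻¹ * R⁻¹) := hzcomm _
  have hc4 : c ^ 4 = 1 := by
    have h1 : R ^ 4 ∈ σ.ker := by rw [MonoidHom.mem_ker, map_pow, hr4]
    have h2 : S * R ^ 4 * S⁻¹ = R ^ 4 := by
      rw [mem_center_iff.1 (hz h1) S, mul_inv_cancel_right]
    rw [← conj_pow, hSR, ((hzi.inv_left)).mul_pow] at h2
    have h8 : R ^ 8 = z ^ 4 := by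
      calc R ^ 8 = R ^ 4 * R ^ 4 := by rw [← pow_add]
        _ = R ^ 4 * (R⁻¹ ^ 4 * z ^ 4) := by rw [h2]
        _ = z ^ 4 := by rw [inv_pow]; group
    rw [hc, ((hzi.mul_left hzi).inv_right).mul_pow, ← pow_two, ← pow_mul,
      h8, inv_pow, mul_inv_cancel]
  have hN : ⁅P, P⁆ ≤ zpowers c := by
    have hmap : P.map σ ≤ closure (σ '' {R, S}) := by rwa [Set.image_pair]
    refine (Subgroup.commutator_mono (le_closure_of_map_le σ P _ hmap)
      (le_closure_of_map_le σ P _ hmap)).trans (commutator_closure_le _ ?_ ?_)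
    · intro x hx
      have key : x * c * x⁻¹ = c ∨ x * c * x⁻¹ = c⁻¹ := by
        rcases hx with (rfl | rfl) | hx
        · exact Or.inl hRc
        · exact Or.inr hSc
        · exact Or.inl (by rw [← mem_center_iff.1 (hz hx) c, mul_inv_cancel_right])
      have hmap' : (zpowers c).map (MulAut.conj x).toMonoidHom = zpowers c := by
        rw [MonoidHom.map_zpowers]
        show zpowers (x * c * x⁻¹) = _
        rcases key with h | h <;> rw [h]
        exact zpowers_inv
      refine mem_normalizer_iff.2 fun y => ?_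
      constructor <;> intro hy
      · rw [← hmap']; exact ⟨y, hy, rfl⟩
      · rw [← hmap'] at hy
        obtain ⟨y', hy', e⟩ := hy
        have e' : x * y' * x⁻¹ = x * y * x⁻¹ := e
        rwa [← mul_left_cancel (mul_right_cancel e')]
    · intro x hx y hy
      have hk : ∀ u v : Γ, u ∈ σ.ker → ⁅u, v⁆ = 1 := fun u v hu =>
        commutatorElement_eq_one_iff_mul_comm.2 ((mem_center_iff.1 (hz hu) v).symm)
      rcases hx with hx | hx
      · rcases hy with hy | hy
        · rcases hx with rfl | rfl <;> rcases hy with rfl | rfl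
          · simp
          · rw [commutatorElement_def, ← hcdef]; exact mem_zpowers c
          · rw [← commutatorElement_inv, commutatorElement_def, ← hcdef]; exact inv_mem (mem_zpowers c)
          · simp
        · rw [← commutatorElement_inv, hk y x hy, inv_one]; exact one_mem _
      · rw [hk x y hx]; exact one_mem _
  have hle : ⁅P, P⁆ ⊓ σ.ker ≤ zpowers (c ^ 2) := by
    rintro x ⟨hx, hxk⟩
    obtain ⟨i, rfl⟩ := mem_zpowers_iff.1 (hN hx)
    have hσc : σ c = σ R ^ 2 := by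
      rw [hc, map_mul, map_mul, map_inv, show σ z = 1 from hz1, inv_one, mul_one, pow_two]
    obtain ⟨j, rfl | rfl⟩ := Int.even_or_odd' i
    · exact mem_zpowers_iff.2 ⟨j, by rw [zpow_mul, zpow_ofNat]⟩
    · exfalso
      apply hr2
      have h : σ c ^ (2 * j + 1) = 1 := by rw [← map_zpow]; exact hxk
      rw [zpow_add, zpow_one, zpow_mul, hσc, zpow_ofNat, ← pow_mul, show 2 * 2 = 4 from rfl, hr4,
        one_zpow, one_mul] at h
      exact h
  refine (card_dvd_of_le hle).trans ?_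
  rw [Nat.card_zpowers]
  exact orderOf_dvd_of_pow_eq_one (by rw [← pow_mul]; exact hc4)

/-- A kernel bounded by `p` at the primes of a squarefree `m` and trivial elsewhere. -/
theorem exists_surjective_of_local [Finite Γ] (σ : Γ →* G) (hz : σ.ker ≤ center Γ)
    (hd : σ.ker ≤ _root_.commutator Γ) {m : ℕ} (hm : Squarefree m)
    (h : ∀ p : ℕ, p.Prime → ∃ P : Sylow p Γ,
      Nat.card ↥(⁅(P : Subgroup Γ), (P : Subgroup Γ)⁆ ⊓ σ.ker) ∣ Nat.gcd p m) :
    ∃ π : Multiplicative (ZMod m) →* σ.ker, Function.Surjective π := by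
  haveI : NeZero m := ⟨hm.ne_zero⟩
  letI : CommGroup σ.ker :=
    { (inferInstance : Group σ.ker) with
      mul_comm := fun a b => Subtype.ext (mem_center_iff.1 (hz b.2) a) }
  have hdvd : Nat.card σ.ker ∣ m := by
    refine Nat.dvd_iff_prime_pow_dvd_dvd _ _ |>.2 fun p k hp hk => ?_
    haveI := Fact.mk hp
    obtain ⟨P, hP⟩ := h p hp
    obtain ⟨Q, hQ⟩ := Sylow.exists_subgroup_card_pow_prime (G := σ.ker) p hk
    let φ : Q →* ↥(⁅(P : Subgroup Γ), (P : Subgroup Γ)⁆ ⊓ σ.ker) :=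
      { toFun := fun x => ⟨((x : σ.ker) : Γ) ^ (P : Subgroup Γ).index,
          pow_index_mem_commutator _ (hz x.1.2) (hd x.1.2), pow_mem x.1.2 _⟩
        map_one' := Subtype.ext (one_pow _)
        map_mul' := fun x y => Subtype.ext
          (Commute.mul_pow (mem_center_iff.1 (hz y.1.2) (x.1 : Γ)) _) }
    have hφ : Function.Injective φ := by
      rw [injective_iff_map_eq_one]
      intro x hx
      have h1 : orderOf x ∣ (P : Subgroup Γ).index :=
        orderOf_dvd_of_pow_eq_one (Subtype.ext (Subtype.ext (by simpa [φ] using congrArg Subtype.val hx)))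
      have h2 : orderOf x ∣ p ^ k := hQ ▸ orderOf_dvd_natCard x
      have hco : Nat.Coprime (p ^ k) (P : Subgroup Γ).index :=
        ((Nat.Prime.coprime_iff_not_dvd hp).2 P.not_dvd_index).pow_left k
      exact orderOf_eq_one_iff.1 (Nat.eq_one_of_dvd_coprimes hco h2 h1)
    exact hQ ▸ ((card_dvd_of_injective φ hφ).trans hP).trans (Nat.gcd_dvd_right p m)
  haveI : IsCyclic σ.ker := by
    have := IsZGroup.of_squarefree (hm.squarefree_of_dvd hdvd)
    infer_instance
  obtain ⟨c, hc⟩ := IsCyclic.exists_generator (α := σ.ker)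
  refine exists_surjective_zmod_of_le_zpowers σ.ker m (c := (c : Γ)) (fun x hx => ?_) ?_
  · obtain ⟨i, hi⟩ := mem_zpowers_iff.1 (hc ⟨x, hx⟩)
    exact mem_zpowers_iff.2 ⟨i, by rw [← SubgroupClass.coe_zpow, hi]⟩
  · have : c ^ m = 1 := orderOf_dvd_iff_pow_eq_one.1 ((orderOf_dvd_natCard c).trans hdvd)
    rw [← SubgroupClass.coe_pow, this, OneMemClass.coe_one]

/-- The image of a `p`-group has order dividing the `p`-part. -/
theorem card_map_dvd (σ : Γ →* G) {p : ℕ} [hp : Fact p.Prime] (P : Subgroup Γ) (hP : IsPGroup p P)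
    [Finite G] {a b : ℕ} (hG : Nat.card G = p ^ a * b) (hb : ¬ p ∣ b) : Nat.card (P.map σ) ∣ p ^ a := by
  obtain ⟨k, hk⟩ := IsPGroup.iff_card.1 (hP.map σ)
  have h1 : p ^ k ∣ p ^ a * b := by rw [← hk, ← hG]; exact card_subgroup_dvd_card _
  rw [hk]
  exact (((Nat.Prime.coprime_iff_not_dvd hp.out).2 hb).pow_left k).dvd_of_dvd_mul_right h1

/-- Assembly: a stem extension with kernel of order `m` and the local bounds. -/
theorem hasCyclicSchurMultiplier_of {Q : Type u} [Group Q] {m : ℕ} (hm : Squarefree m)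
    {E : Type u} [Group E] [Finite E] (τ : E →* Q) (hτ : Cfsg.IsStemExtension τ)
    (hcard : Nat.card τ.ker = m)
    (hloc : ∀ (Δ : Type u) [Group Δ] [Finite Δ] (σ : Δ →* Q), Cfsg.IsStemExtension σ →
      ∀ p : ℕ, p.Prime → ∃ P : Sylow p Δ,
        Nat.card ↥(⁅(P : Subgroup Δ), (P : Subgroup Δ)⁆ ⊓ σ.ker) ∣ Nat.gcd p m) :
    Cfsg.HasCyclicSchurMultiplier Q m := by
  haveI : NeZero m := ⟨hm.ne_zero⟩
  refine ⟨⟨E, inferInstance, inferInstance, τ, hτ, ?_⟩, fun Δ _ _ σ hσ =>
    exists_surjective_of_local σ hσ.2.1 hσ.2.2 hm (hloc Δ σ hσ)⟩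
  obtain ⟨π, hπ⟩ := exists_surjective_of_local τ hτ.2.1 hτ.2.2 hm (hloc E τ hτ)
  exact ⟨(MulEquiv.ofBijective π ((Nat.bijective_iff_surjective_and_card π).2
    ⟨hπ, by rw [hcard, Nat.card_congr Multiplicative.toAdd, Nat.card_zmod]⟩)).symm⟩

end Cfsg.Agent.Schur.SmallSylow
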