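import Cfsg.Agent.Lib.Schur.Cover

/-!
# API for `HasSchurMultiplier`

* `hasSchurMultiplier_mult`, `nonempty_equiv_mult`, `hasSchurMultiplier_of_mulEquiv`
* `ker_inf_commutator_eq_bot` : trivial multiplier kills `ker σ ⊓ Γ'` in every central extension
* `exists_surjective_of_central` : `A` maps onto `ker σ ⊓ Γ'` for every central extension
* `toExt_injOn_mult` : a Schur cover receives the multiplier injectively
* `exists_lift` : lifting along a Schur cover into a central extension with divisible kernel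
* `exists_surjective_zmod_of_le_zpowers` : targets of cyclic multipliers
-/

set_option autoImplicit false

namespace Cfsg.Agent.Schur

open Subgroup
open scoped commutatorElement

universe u v w

/-- The canonical free presentation of `Q`. -/
def pres (Q : Type u) [Group Q] : FreeGroup Q →* Q := FreeGroup.lift id

theorem pres_surjective (Q : Type u) [Group Q] : Function.Surjective (pres Q) :=
  fun q => ⟨FreeGroup.of q, by simp [pres]⟩

section

variable {ι Q : Type u} [Group Q] [Finite Q] [Finite ι] (π : FreeGroup ι →* Q)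
  (hπ : Function.Surjective π)

include hπ in
/-- The Hopf formula group is the Schur multiplier. -/
theorem hasSchurMultiplier_mult : Cfsg.HasSchurMultiplier Q ↥(mult π) := by
  constructor
  · obtain ⟨C, hC, hCM, hsup⟩ := exists_complement π (rel π) le_rfl
    have := normal_of_le_rel π hC
    obtain ⟨hfin, hstem, hiso⟩ := stem_of_complement π hπ hC hCM hsup
    exact ⟨Ext π ⧸ C, inferInstance, hfin, _, hstem, hiso⟩
  · intro Γ _ _ σ hσ
    obtain ⟨f, hf, -⟩ := exists_surjective_mult π hσ.1 hσ.2.1 hπ hσ.2.2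
    exact ⟨f, hf⟩

include hπ in
/-- Every group satisfying `HasSchurMultiplier` is the Hopf formula group. -/
theorem nonempty_equiv_mult {A : Type v} [CommGroup A] (hA : Cfsg.HasSchurMultiplier Q A) :
    Nonempty (↥(mult π) ≃* A) := by
  obtain ⟨⟨Γ, iΓ, iF, σ, hσ, ⟨e⟩⟩, huniv⟩ := hA
  obtain ⟨f, hf, -⟩ := exists_surjective_mult π hσ.1 hσ.2.1 hπ hσ.2.2
  obtain ⟨C, hC, hCM, hsup⟩ := exists_complement π (rel π) le_rfl
  have := normal_of_le_rel π hC
  obtain ⟨hfin, hstem, ⟨e'⟩⟩ := stem_of_complement π hπ hC hCM hsup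
  have : Finite (Ext π ⧸ C) := hfin
  obtain ⟨g, hg⟩ := huniv _ _ hstem
  let F : ↥(mult π) →* A := e.toMonoidHom.comp f
  let H : A →* ↥(mult π) := e'.toMonoidHom.comp g
  have hF : Function.Surjective F := e.surjective.comp hf
  have hH : Function.Surjective H := e'.surjective.comp hg
  have : Finite A := Finite.of_surjective F hF
  exact ⟨MulEquiv.ofBijective F (hF.bijective_of_nat_card_le
    (Nat.card_le_card_of_surjective H hH))⟩

include hπ in
/-- A group isomorphic to the Hopf formula group is the Schur multiplier. -/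
theorem hasSchurMultiplier_of_mulEquiv {A : Type v} [CommGroup A] (e : ↥(mult π) ≃* A) :
    Cfsg.HasSchurMultiplier Q A := by
  obtain ⟨⟨Γ, iΓ, iF, σ, hσ, ⟨e'⟩⟩, huniv⟩ := hasSchurMultiplier_mult π hπ
  refine ⟨⟨Γ, iΓ, iF, σ, hσ, ⟨e'.trans e⟩⟩, fun Δ _ _ τ hτ => ?_⟩
  obtain ⟨f, hf⟩ := huniv Δ τ hτ
  exact ⟨f.comp e.symm.toMonoidHom, hf.comp e.symm.surjective⟩

end

section

variable {Q : Type u} [Group Q] [Finite Q]

theorem finite_of_hasSchurMultiplier {A : Type v} [CommGroup A]
    (hA : Cfsg.HasSchurMultiplier Q A) : Finite A := by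
  obtain ⟨e⟩ := nonempty_equiv_mult (pres Q) (pres_surjective Q) hA
  exact Finite.of_equiv _ e.toEquiv

/-- The multiplier maps onto `ker σ ⊓ Γ'` for every central extension (in any universe). -/
theorem exists_surjective_of_central {A : Type v} [CommGroup A] (hA : Cfsg.HasSchurMultiplier Q A)
    {Γ : Type w} [Group Γ] (σ : Γ →* Q) (hσ : Function.Surjective σ) (hz : σ.ker ≤ center Γ) :
    ∃ f : A →* ↥(σ.ker ⊓ _root_.commutator Γ), Function.Surjective f := by
  obtain ⟨e⟩ := nonempty_equiv_mult (pres Q) (pres_surjective Q) hA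
  have h := map_mult (pres Q) hσ hz (pres_surjective Q)
  refine ⟨(((toExt (pres Q) hσ hz).comp (mult (pres Q)).subtype).codRestrict _
    (fun m => h ▸ mem_map_of_mem _ m.2)).comp e.symm.toMonoidHom, fun y => ?_⟩
  have hy : (y : Γ) ∈ (mult (pres Q)).map (toExt (pres Q) hσ hz) := by
    rw [h]
    exact y.2
  obtain ⟨x, hx, hxy⟩ := hy
  exact ⟨e ⟨x, hx⟩, Subtype.ext (by simpa using hxy)⟩

/-- With trivial multiplier, `ker σ ⊓ Γ' = 1` in every central extension. -/
theorem ker_inf_commutator_eq_bot (hQ : Cfsg.HasCyclicSchurMultiplier Q 1)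
    {Γ : Type w} [Group Γ] (σ : Γ →* Q) (hσ : Function.Surjective σ) (hz : σ.ker ≤ center Γ) :
    σ.ker ⊓ _root_.commutator Γ = ⊥ := by
  obtain ⟨f, hf⟩ := exists_surjective_of_central hQ σ hσ hz
  rw [eq_bot_iff]
  intro x hx
  obtain ⟨a, ha⟩ := hf ⟨x, hx⟩
  have : a = 1 := Subsingleton.elim (α := ZMod 1) _ _
  rw [this, map_one] at ha
  exact mem_bot.mpr (congrArg Subtype.val ha).symm

/-- A Schur cover receives the multiplier injectively. -/
theorem toExt_injOn_mult {A : Type v} [CommGroup A] (hA : Cfsg.HasSchurMultiplier Q A)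
    {Γ : Type w} [Group Γ] {σ : Γ →* Q} (hσ : Cfsg.IsStemExtension σ)
    (hk : Nonempty (σ.ker ≃* A)) :
    (toExt (pres Q) hσ.1 hσ.2.1).ker ⊓ mult (pres Q) = ⊥ := by
  obtain ⟨e⟩ := nonempty_equiv_mult (pres Q) (pres_surjective Q) hA
  obtain ⟨k⟩ := hk
  obtain ⟨f, hf, hval⟩ := exists_surjective_mult (pres Q) hσ.1 hσ.2.1 (pres_surjective Q) hσ.2.2
  have hinj : Function.Injective f :=
    (hf.bijective_of_nat_card_le (Nat.card_congr (k.trans e.symm).toEquiv).ge).1
  rw [eq_bot_iff]
  rintro x ⟨hx, hxm⟩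
  have : f ⟨x, hxm⟩ = 1 := Subtype.ext ((hval _).trans hx)
  exact mem_bot.mpr (congrArg Subtype.val (hinj (this.trans (map_one f).symm)))

end

/-- Homomorphisms into a divisible abelian group extend from subgroups of abelian groups. -/
theorem exists_extend {B D : Type*} [CommGroup B] [CommGroup D]
    (hdiv : ∀ n : ℕ, n ≠ 0 → Function.Surjective (fun d : D => d ^ n)) {C : Type*} [CommGroup C]
    (i : C →* B) (hi : Function.Injective i) (θ : C →* D) : ∃ χ : B →* D, χ.comp i = θ := by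
  let : DivisibleBy (Additive D) ℕ := divisibleByOfSMulRightSurj _ _ fun {n} hn => hdiv n hn
  let : DivisibleBy (Additive D) ℤ := AddGroup.divisibleByIntOfDivisibleByNat _
  obtain ⟨h, hh⟩ := (Module.Baer.of_divisible (Additive D)).extension_property_addMonoidHom
    (MonoidHom.toAdditive i) hi (MonoidHom.toAdditive θ)
  exact ⟨MonoidHom.toAdditive.symm h, MonoidHom.ext fun c =>
    congrArg Additive.toMul (DFunLike.congr_fun hh (Additive.ofMul c))⟩

/-- Lifting into a central extension with divisible kernel: a map `E → Q → Y` restricted along a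
quotient `E → Γ` whose kernel meets `E'` trivially lifts to `Γ`. -/
theorem exists_lift {ι : Type w} {Q : Type u} [Group Q] (π : FreeGroup ι →* Q) {Γ : Type v} [Group Γ]
    {σ : Γ →* Q} (q : Ext π →* Γ) (hq : Function.Surjective q) (hqσ : σ.comp q = extHom π)
    (hqc : q.ker ⊓ _root_.commutator (Ext π) = ⊥)
    {X Y : Type*} [Group X] [Group Y] {p : X →* Y} (hp : Function.Surjective p)
    (hz : p.ker ≤ center X) (hdiv : ∀ n : ℕ, n ≠ 0 → ∀ d ∈ p.ker, ∃ d' ∈ p.ker, d' ^ n = d)
    (γ : Q →* Y) : ∃ ρ : Γ →* X, p.comp ρ = γ.comp σ := by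
  -- a map `E → X` over `γ`
  let P : Subgroup (X × Q) := (p.comp (MonoidHom.fst X Q)).eqLocus (γ.comp (MonoidHom.snd X Q))
  let s : ↥P →* Q := (MonoidHom.snd X Q).comp P.subtype
  have hs : Function.Surjective s := fun b => by
    obtain ⟨x, hx⟩ := hp (γ b)
    exact ⟨⟨(x, b), hx⟩, rfl⟩
  have hsz : s.ker ≤ center ↥P := by
    rintro ⟨⟨x, b⟩, hxb⟩ hb
    have hb' : b = 1 := hb
    subst hb'
    have hxb' : p x = γ 1 := hxb
    have hx : x ∈ p.ker := by rw [MonoidHom.mem_ker, hxb', map_one]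
    rw [mem_center_iff]
    rintro ⟨⟨y, c⟩, _⟩
    exact Subtype.ext (Prod.ext (mem_center_iff.mp (hz hx) y) (by simp))
  let ψ : Ext π →* X := ((MonoidHom.fst X Q).comp P.subtype).comp (toExt π hs hsz)
  have hψ : p.comp ψ = γ.comp (extHom π) := by
    refine MonoidHom.ext fun e => ?_
    have h1 : p ((toExt π hs hsz e : ↥P) : X × Q).1 = γ ((toExt π hs hsz e : ↥P) : X × Q).2 :=
      (toExt π hs hsz e).2
    exact h1.trans (congrArg γ (DFunLike.congr_fun (comp_toExt π hs hsz) e))
  have hC : q.ker ≤ rel π := fun e he => by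
    rw [MonoidHom.mem_ker, ← hqσ, MonoidHom.comp_apply, MonoidHom.mem_ker.mp he, map_one]
  -- `ψ` on `ker q` extends to a homomorphism `E → ker p`
  let : CommGroup ↥p.ker :=
    { (inferInstance : Group ↥p.ker) with
      mul_comm := fun a b => Subtype.ext (mem_center_iff.mp (hz b.2) (a : X)) }
  let : CommGroup ↥q.ker :=
    { (inferInstance : Group ↥q.ker) with
      mul_comm := fun a b => Subtype.ext (mem_center_iff.mp (rel_le_center π (hC b.2)) (a : Ext π)) }
  let θ : ↥q.ker →* ↥p.ker := (ψ.comp q.ker.subtype).codRestrict p.ker fun c => by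
    have h1 := DFunLike.congr_fun hψ (c : Ext π)
    have h2 : extHom π (c : Ext π) = 1 := hC c.2
    simp only [MonoidHom.comp_apply] at h1
    rw [h2, map_one] at h1
    exact h1
  have hi : Function.Injective ((Abelianization.of : Ext π →* Abelianization (Ext π)).comp q.ker.subtype) := by
    rw [injective_iff_map_eq_one]
    intro c hc
    have : (c : Ext π) ∈ _root_.commutator (Ext π) := by
      rw [← Abelianization.ker_of]
      exact hc
    exact Subtype.ext (mem_bot.mp (hqc ▸ ⟨c.2, this⟩))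
  obtain ⟨χ, hχ⟩ := exists_extend (fun n hn d => by
    obtain ⟨d', hd', hd''⟩ := hdiv n hn d d.2
    exact ⟨⟨d', hd'⟩, Subtype.ext hd''⟩) _ hi θ
  have hcent : ∀ e : Ext π, ((χ (Abelianization.of e) : ↥p.ker) : X) ∈ center X := fun e => hz (χ _).2
  let φ : Ext π →* X :=
    { toFun := fun e => ψ e * ((χ (Abelianization.of e) : ↥p.ker) : X)⁻¹
      map_one' := by simp
      map_mul' := fun a b => by
        simp only [map_mul, Subgroup.coe_mul, mul_inv_rev]
        have := mem_center_iff.mp (inv_mem (hcent a)) (ψ b * ((χ (Abelianization.of b) : ↥p.ker) : X)⁻¹)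
        rw [mul_assoc (ψ a), mul_assoc (ψ a), ← mul_assoc (ψ b), this] }
  have hker : q.ker ≤ φ.ker := fun c hc => by
    have h1 : ((χ (Abelianization.of c) : ↥p.ker) : X) = ψ c :=
      congrArg Subtype.val (DFunLike.congr_fun hχ ⟨c, hc⟩)
    show ψ c * ((χ (Abelianization.of c) : ↥p.ker) : X)⁻¹ = 1
    rw [h1, mul_inv_cancel]
  refine ⟨MonoidHom.liftOfSurjective q hq ⟨φ, hker⟩, MonoidHom.ext fun g => ?_⟩
  obtain ⟨e, rfl⟩ := hq g
  rw [MonoidHom.comp_apply, MonoidHom.comp_apply, MonoidHom.liftOfRightInverse_comp_apply]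
  show p (ψ e * ((χ (Abelianization.of e) : ↥p.ker) : X)⁻¹) = γ (σ (q e))
  rw [map_mul, map_inv, MonoidHom.mem_ker.mp (χ (Abelianization.of e)).2, inv_one, mul_one]
  have h1 := DFunLike.congr_fun hψ e
  rw [← hqσ] at h1
  exact h1

/-- A subgroup inside `⟨c⟩` with `c ^ n = 1` is an image of `ZMod n`. -/
theorem exists_surjective_zmod_of_le_zpowers {Γ : Type u} [Group Γ] (N : Subgroup Γ) (n : ℕ) {c : Γ}
    (hN : N ≤ zpowers c) (hc : c ^ n = 1) :
    ∃ f : Multiplicative (ZMod n) →* ↥N, Function.Surjective f := by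
  have : IsCyclic ↥N := isCyclic_of_le hN
  obtain ⟨d, hd⟩ := IsCyclic.exists_generator (α := ↥N)
  have hdn : d ^ n = 1 := by
    obtain ⟨i, hi⟩ := hN d.2
    refine Subtype.ext ?_
    have hi' : c ^ i = (d : Γ) := hi
    rw [Subgroup.coe_pow, ← hi', ← zpow_natCast (c ^ i), ← zpow_mul, mul_comm, zpow_mul, zpow_natCast,
      hc, one_zpow]
    rfl
  let f0 : ℤ →+ Additive ↥N := zmultiplesHom _ (Additive.ofMul d)
  have h0 : f0 n = 0 := by
    show ((n : ℤ) • Additive.ofMul d) = 0
    rw [natCast_zsmul]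
    exact congrArg Additive.ofMul hdn
  refine ⟨AddMonoidHom.toMultiplicativeLeft (ZMod.lift n ⟨f0, h0⟩), fun y => ?_⟩
  obtain ⟨i, hi⟩ := hd y
  refine ⟨Multiplicative.ofAdd (i : ZMod n), ?_⟩
  show Additive.toMul (ZMod.lift n ⟨f0, h0⟩ (i : ZMod n)) = y
  rw [ZMod.lift_coe]
  exact hi

end Cfsg.Agent.Schur
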