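import Cfsg.Agent.Lib.Schur.Transfer

/-!
The transfer of a double cover `p` of a subgroup `H` of odd index.  If the commutator form of the cover on commuting
elements is invariant under the fusion in `G`, then the value of the transferred extension on a commuting pair of
elements of `2`-power order of `H` is the value of the form to the index, so a nonzero value gives a stem extension.
-/

set_option autoImplicit false

namespace Cfsg.Agent.Schur.TransferPair

open Subgroup Schur.Transfer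
open scoped commutatorElement

variable {G : Type} [Group G] {X : Type} [MulAction G X] {L : Type} [Group L] (p : L →* G) (t : X → G)
  (ε : p.ker ≃* Multiplicative (ZMod 2))

/-- The value of an element of the kernel, `1` elsewhere. -/
noncomputable def vL (l : L) : Multiplicative (ZMod 2) :=
  open Classical in if h : l ∈ p.ker then ε ⟨l, h⟩ else 1

theorem vL_of_mem {l : L} (h : l ∈ p.ker) : vL p ε l = ε ⟨l, h⟩ := dif_pos h

theorem vL_mul {l m : L} (hl : l ∈ p.ker) (hm : m ∈ p.ker) : vL p ε (l * m) = vL p ε l * vL p ε m := by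
  rw [vL_of_mem p ε hl, vL_of_mem p ε hm, vL_of_mem p ε (mul_mem hl hm), ← map_mul]; rfl

theorem vL_inv {l : L} (hl : l ∈ p.ker) : vL p ε l⁻¹ = (vL p ε l)⁻¹ := by
  rw [vL_of_mem p ε hl, vL_of_mem p ε (inv_mem hl), ← map_inv]; rfl

variable {p t}

/-- The value at `x` of the commutator of two families. -/
def comAt (a b : group p t) (x : X) : L :=
  a.1.left x * b.1.left (a.1.right⁻¹ • x) * (b.1.left x * a.1.left (b.1.right⁻¹ • x))⁻¹

variable {a b : group p t}

theorem comAt_mem_ker (h : Commute a.1.right b.1.right) (x : X) : comAt a b x ∈ p.ker := by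
  rw [MonoidHom.mem_ker, comAt, map_mul, map_inv, map_mul, map_mul, a.2 x, a.2 (b.1.right⁻¹ • x), b.2 x,
    b.2 (a.1.right⁻¹ • x), ← cocyc_mul,
    ← cocyc_mul, h.eq, mul_inv_cancel]

theorem left_commutator (h : Commute a.1.right b.1.right) (x : X) :
    (⁅a, b⁆ : group p t).1.left x = comAt a b x := by
  have e : ⁅a, b⁆ * (b * a) = a * b := by rw [commutatorElement_def]; group
  have hr : (⁅a, b⁆ : group p t).1.right = 1 := by
    show proj p t ⁅a, b⁆ = 1
    rw [map_commutatorElement]; exact commutatorElement_eq_one_iff_commute.2 h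
  have e' := congrArg (fun y : group p t => y.1.left x) e
  change (⁅a, b⁆ : group p t).1.left x *
      (b.1.left ((⁅a, b⁆ : group p t).1.right⁻¹ • x) *
        a.1.left (b.1.right⁻¹ • (⁅a, b⁆ : group p t).1.right⁻¹ • x)) =
    a.1.left x * b.1.left (a.1.right⁻¹ • x) at e'
  rw [hr, inv_one, one_smul] at e'
  exact eq_mul_inv_of_mul_eq e'

variable (a b) in
/-- The product of the values over a finite set. -/
noncomputable def beta (S : Finset X) : Multiplicative (ZMod 2) := ∏ x ∈ S, vL p ε (comAt a b x)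

theorem beta_symm (h : Commute a.1.right b.1.right) (S : Finset X) : beta ε b a S = (beta ε a b S)⁻¹ := by
  rw [beta, beta, ← Finset.prod_inv_distrib]
  refine Finset.prod_congr rfl fun x _ => ?_
  rw [← vL_inv p ε (comAt_mem_ker h x)]
  refine congrArg (vL p ε) ?_
  simp only [comAt]
  group

/-- The pairs `(a, b)` and `(a, a b)` have the same value on an invariant set. -/
theorem beta_mul (hz : p.ker ≤ center L) (h : Commute a.1.right b.1.right) {S : Finset X}
    (hS : ∀ x, a.1.right • x ∈ S ↔ x ∈ S) : beta ε a (a * b) S = beta ε a b S := by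
  refine Finset.prod_equiv (MulAction.toPerm a.1.right⁻¹) (fun x => ?_) fun x _ => congrArg (vL p ε) ?_
  · show x ∈ S ↔ a.1.right⁻¹ • x ∈ S
    conv_lhs => rw [← smul_inv_smul a.1.right x, hS]
  · show a.1.left x * (a.1.left (a.1.right⁻¹ • x) * b.1.left (a.1.right⁻¹ • a.1.right⁻¹ • x)) *
      (a.1.left x * b.1.left (a.1.right⁻¹ • x) * a.1.left ((a.1.right * b.1.right)⁻¹ • x))⁻¹ =
      comAt a b (a.1.right⁻¹ • x)
    rw [mul_inv_rev a.1.right, mul_smul]
    calc _ = a.1.left x * comAt a b (a.1.right⁻¹ • x) * (a.1.left x)⁻¹ := by rw [comAt]; group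
      _ = _ := by
        rw [mem_center_iff.1 (hz (comAt_mem_ker h _)) (a.1.left x), mul_inv_cancel_right]

/-- The value does not depend on the lift of the second element. -/
theorem beta_congr_right (hz : p.ker ≤ center L) (h : Commute a.1.right b.1.right) {b' : group p t}
    (hb : b'.1.right = b.1.right) {S : Finset X} (hS : ∀ x, a.1.right • x ∈ S ↔ x ∈ S) :
    beta ε a b' S = beta ε a b S := by
  let k : X → L := fun x => (b.1.left x)⁻¹ * b'.1.left x
  have hk : ∀ x, k x ∈ p.ker := fun x => by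
    rw [MonoidHom.mem_ker, map_mul, map_inv, b.2, b'.2, hb, inv_mul_cancel]
  have hc : ∀ x l, l * k x = k x * l := fun x l => mem_center_iff.1 (hz (hk x)) l
  have e : ∀ x, comAt a b' x = comAt a b x * (k (a.1.right⁻¹ • x) * (k x)⁻¹) := fun x => by
    rw [comAt, comAt, show b'.1.left (a.1.right⁻¹ • x) = b.1.left (a.1.right⁻¹ • x) * k (a.1.right⁻¹ • x) from
      (mul_inv_cancel_left _ _).symm, show b'.1.left x = b.1.left x * k x from (mul_inv_cancel_left _ _).symm, hb]
    have c1 := hc (a.1.right⁻¹ • x) (a.1.left (b.1.right⁻¹ • x))⁻¹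
    have c1' := hc (a.1.right⁻¹ • x) (b.1.left x)⁻¹
    calc _ = a.1.left x * b.1.left (a.1.right⁻¹ • x) *
          (k (a.1.right⁻¹ • x) * (a.1.left (b.1.right⁻¹ • x))⁻¹) * (k x)⁻¹ * (b.1.left x)⁻¹ := by group
      _ = a.1.left x * b.1.left (a.1.right⁻¹ • x) * (a.1.left (b.1.right⁻¹ • x))⁻¹ * k (a.1.right⁻¹ • x) *
          ((k x)⁻¹ * (b.1.left x)⁻¹) := by rw [← c1]; group
      _ = a.1.left x * b.1.left (a.1.right⁻¹ • x) * (a.1.left (b.1.right⁻¹ • x))⁻¹ *
          (k (a.1.right⁻¹ • x) * (b.1.left x)⁻¹) * (k x)⁻¹ := by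
        rw [← mul_inv_rev, hc x (b.1.left x), mul_inv_rev]; group
      _ = _ := by rw [← c1']; group
  have hperm : ∏ x ∈ S, vL p ε (k (a.1.right⁻¹ • x)) = ∏ x ∈ S, vL p ε (k x) :=
    Finset.prod_equiv (MulAction.toPerm a.1.right⁻¹) (fun x => by
      show x ∈ S ↔ a.1.right⁻¹ • x ∈ S
      conv_lhs => rw [← smul_inv_smul a.1.right x, hS]) fun x _ => rfl
  simp only [beta, e]
  rw [Finset.prod_congr rfl fun x _ => vL_mul p ε (comAt_mem_ker h x) (mul_mem (hk _) (inv_mem (hk x))),
    Finset.prod_mul_distrib, Finset.prod_congr rfl fun x (_ : x ∈ S) => vL_mul p ε (hk _) (inv_mem (hk x)),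
    Finset.prod_mul_distrib, hperm,
    Finset.prod_congr rfl fun x (_ : x ∈ S) => vL_inv p ε (hk x), Finset.prod_inv_distrib, mul_inv_cancel,
    mul_one]

/-- Two blocks exchanged by the first element. -/
theorem beta_two [DecidableEq X] (hz : p.ker ≤ center L) (h : Commute a.1.right b.1.right) {S T : Finset X}
    (hsub : T ⊆ S) (hS : ∀ x, a.1.right • x ∈ S ↔ x ∈ S) (hT : ∀ x ∈ S, a.1.right • x ∈ T ↔ x ∉ T) :
    beta ε a b S = beta ε (a * a) b T := by
  let B : X → L := fun x => if x ∈ S ∧ x ∉ T then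
      a.1.left x * b.1.left (a.1.right⁻¹ • x) * (a.1.left (b.1.right⁻¹ • x))⁻¹
    else b.1.left x
  have hB : (⟨B, b.1.right⟩ : (X → L) ⋊[shiftAut X L] G) ∈ group p t := by
    intro x
    by_cases hx : x ∈ S ∧ x ∉ T
    · show p (B x) = _
      simp only [B, if_pos hx, map_mul, map_inv]
      rw [a.2 x, a.2 (b.1.right⁻¹ • x), b.2 (a.1.right⁻¹ • x)]
      rw [← cocyc_mul, h.eq, cocyc_mul, mul_inv_cancel_right]
    · show p (B x) = _
      simp only [B, if_neg hx]
      exact b.2 x
  rw [← beta_congr_right ε hz h (b' := ⟨_, hB⟩) rfl hS]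
  have hinS : ∀ x ∈ S, a.1.right⁻¹ • x ∈ S := fun x hx => by rwa [← hS, smul_inv_smul]
  have hin : ∀ x ∈ S, a.1.right⁻¹ • x ∈ T ↔ x ∉ T := fun x hx => by
    have := hT _ (hinS x hx)
    rw [smul_inv_smul] at this
    tauto
  rw [beta, ← Finset.prod_sdiff hsub, Finset.prod_eq_one (s := S \ T), one_mul]
  · refine Finset.prod_congr rfl fun x hx => congrArg (vL p ε) ?_
    have hxS := hsub hx
    have h1 : a.1.right⁻¹ • x ∈ S ∧ a.1.right⁻¹ • x ∉ T := ⟨hinS x hxS, fun hc => (hin x hxS).1 hc hx⟩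
    show a.1.left x * B (a.1.right⁻¹ • x) * (B x * a.1.left (b.1.right⁻¹ • x))⁻¹ =
      a.1.left x * a.1.left (a.1.right⁻¹ • x) * b.1.left ((a.1.right * a.1.right)⁻¹ • x) *
        (b.1.left x * (a.1.left (b.1.right⁻¹ • x) * a.1.left (a.1.right⁻¹ • b.1.right⁻¹ • x)))⁻¹
    simp only [B, if_pos h1, if_neg (show ¬ (x ∈ S ∧ x ∉ T) from fun h => h.2 hx)]
    rw [mul_inv_rev a.1.right a.1.right, mul_smul, ← mul_smul a.1.right⁻¹ b.1.right⁻¹, h.inv_inv.eq, mul_smul]
    group
  · intro x hx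
    rw [Finset.mem_sdiff] at hx
    have h1 : ¬ (a.1.right⁻¹ • x ∈ S ∧ a.1.right⁻¹ • x ∉ T) := fun hc => hc.2 ((hin x hx.1).2 hx.2)
    rw [vL_of_mem p ε (comAt_mem_ker (b := ⟨_, hB⟩) h x), ← map_one ε]
    refine congrArg ε (Subtype.ext ?_)
    show a.1.left x * B (a.1.right⁻¹ • x) * (B x * a.1.left (b.1.right⁻¹ • x))⁻¹ = 1
    simp only [B, if_pos hx, if_neg h1]
    group

/-- The form of the cover. -/
def Invariant (p : L →* G) : Prop :=
  ∀ (g : G) (l m l' m' : L), Commute (p l) (p m) → p l' = g * p l * g⁻¹ → p m' = g * p m * g⁻¹ → ⁅l', m'⁆ = ⁅l, m⁆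

theorem sq_eq_one (x : Multiplicative (ZMod 2)) : x * x = 1 := by
  revert x; decide

theorem pow_card_even (x : Multiplicative (ZMod 2)) {n : ℕ} (h : Even n) : x ^ n = 1 := by
  obtain ⟨k, rfl⟩ := h
  rw [pow_add, ← mul_pow, sq_eq_one, one_pow]

/-- The value of the transferred extension over an invariant set. -/
theorem beta_eq [Finite G] (hz : p.ker ≤ center L) (hinv : Invariant p) : ∀ (n : ℕ) (S : Finset X), S.card = n →
    ∀ (l m : L) (a b : group p t), a.1.right = p l → b.1.right = p m → Commute (p l) (p m) →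
      IsPGroup 2 (closure {p l, p m} : Subgroup G) → (∀ x, p l • x ∈ S ↔ x ∈ S) →
      (∀ x, p m • x ∈ S ↔ x ∈ S) → beta ε a b S = vL p ε ⁅l, m⁆ ^ n := by
  classical
  intro n
  induction n using Nat.strong_induction_on with
  | _ n ih =>
  intro S hn l m a b ha hb hlm hA hSl hSm
  have hc : Commute a.1.right b.1.right := by rw [ha, hb]; exact hlm
  have hker : ⁅l, m⁆ ∈ p.ker := by
    rw [MonoidHom.mem_ker, map_commutatorElement]; exact commutatorElement_eq_one_iff_commute.2 hlm
  rcases S.eq_empty_or_nonempty with rfl | ⟨x₀, hx₀⟩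
  · simp [beta, ← hn]
  set A := (closure {p l, p m} : Subgroup G) with hAdef
  have hAS : ∀ g ∈ A, ∀ x, g • x ∈ S ↔ x ∈ S := by
    intro g hg
    induction hg using closure_induction with
    | mem g hg => rcases hg with rfl | rfl <;> assumption
    | one => simp
    | mul g h _ _ hg hh => intro x; rw [mul_smul, hg, hh]
    | inv g _ hg => intro x; rw [← hg, smul_inv_smul]
  by_cases hT : ∃ T ⊆ S, T ≠ S ∧ T.Nonempty ∧ ∀ g ∈ A, ∀ x, g • x ∈ T ↔ x ∈ T
  · obtain ⟨T, hTS, hne, hT0, hTA⟩ := hT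
    have hl : p l ∈ A := subset_closure (Set.mem_insert _ _)
    have hm : p m ∈ A := subset_closure (Set.mem_insert_of_mem _ rfl)
    have hcard := Finset.card_sdiff_add_card_eq_card hTS
    have h1 : T.card < n := hn ▸ Finset.card_lt_card (hTS.ssubset_of_ne hne)
    have h2 : 0 < T.card := hT0.card_pos
    rw [beta, ← Finset.prod_sdiff hTS, ← hn, ← hcard, pow_add]
    exact congrArg₂ (· * ·)
      (ih _ (by omega) _ rfl l m a b ha hb hlm hA (fun x => by simp [Finset.mem_sdiff, hSl, hTA _ hl])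
        fun x => by simp [Finset.mem_sdiff, hSm, hTA _ hm])
      (ih _ h1 _ rfl l m a b ha hb hlm hA (hTA _ hl) (hTA _ hm))
  push Not at hT
  have htrans : ∀ x ∈ S, ∃ g ∈ A, g • x₀ = x := by
    intro x hx
    by_contra hne
    push Not at hne
    obtain ⟨g, hg, y, hy⟩ := hT (S.filter fun y => ∃ g ∈ A, g • x₀ = y) (Finset.filter_subset _ _)
      (fun h => by
        rw [← h, Finset.mem_filter] at hx
        obtain ⟨g, hg, e⟩ := hx.2
        exact hne g hg e)
      ⟨x₀, Finset.mem_filter.2 ⟨hx₀, 1, one_mem _, one_smul _ _⟩⟩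
    simp only [Finset.mem_filter] at hy
    rcases hy with ⟨⟨h1, k, hk, e⟩, h2⟩ | ⟨h1, h2, k, hk, e⟩
    · exact h2 ⟨(hAS g hg y).1 h1, g⁻¹ * k, mul_mem (inv_mem hg) hk, by rw [mul_smul, e, inv_smul_smul]⟩
    · exact h1 ⟨(hAS g hg y).2 h2, g * k, mul_mem hg hk, by rw [mul_smul, e]⟩
  rcases Nat.lt_or_ge 1 n with hn1 | hn1
  swap
  · have h1 : n = 1 := le_antisymm hn1 (hn ▸ Finset.card_pos.2 ⟨x₀, hx₀⟩)
    obtain ⟨y, rfl⟩ := Finset.card_eq_one.1 (hn.trans h1)
    have hly : p l • y = y := by simpa using hSl y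
    have hmy : p m • y = y := by simpa using hSm y
    rw [beta, Finset.prod_singleton, h1, pow_one]
    refine congrArg (vL p ε) ?_
    have e1 : a.1.right⁻¹ • y = y := by rw [ha, inv_smul_eq_iff, hly]
    have e2 : b.1.right⁻¹ • y = y := by rw [hb, inv_smul_eq_iff, hmy]
    rw [← hinv (t y)⁻¹ l m (a.1.left y) (b.1.left y) hlm
      (by rw [a.2, cocyc, e1, inv_inv, ha]) (by rw [b.2, cocyc, e2, inv_inv, hb]),
      comAt, e1, e2, commutatorElement_def, mul_inv_rev]
    group
  -- a subgroup of index 2 containing the stabiliser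
  let St : Subgroup A := MulAction.stabilizer A x₀
  have : Finite A := inferInstance
  obtain ⟨N, hN⟩ := IsPGroup.iff_card.1 hA
  obtain ⟨j, hj⟩ := IsPGroup.iff_card.1 (hA.to_subgroup St)
  have hjN : j < N := by
    by_contra hle
    have hSt : St = ⊤ := eq_top_of_le_card _ (by rw [hN, hj]; exact Nat.pow_le_pow_right two_pos (not_lt.1 hle))
    have hone : S ⊆ {x₀} := fun x hx => by
      obtain ⟨g, hg, rfl⟩ := htrans x hx
      exact Finset.mem_singleton.2 (show (⟨g, hg⟩ : A) ∈ St from hSt ▸ mem_top _)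
    have := Finset.card_le_card hone
    simp at this
    omega
  have : Fact (Nat.Prime 2) := ⟨Nat.prime_two⟩
  obtain ⟨K, hK, hKle⟩ := Sylow.exists_subgroup_card_pow_prime_le 2 (G := A) (n := j) (m := N - 1)
    (by rw [hN]; exact pow_dvd_pow 2 (by omega)) St hj (by omega)
  have hidx : K.index = 2 := by
    have e := K.card_mul_index
    rw [hK, hN, show N = N - 1 + 1 by omega, pow_succ, show N - 1 + 1 - 1 = N - 1 by omega] at e
    exact Nat.eq_of_mul_eq_mul_left (pow_pos two_pos _) e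
  let T : Finset X := S.filter fun x => ∃ k : A, k ∈ K ∧ k • x₀ = x
  have hTS : T ⊆ S := Finset.filter_subset _ _
  have hTiff : ∀ g : A, g • x₀ ∈ T ↔ g ∈ K := fun g => by
    refine ⟨fun h => ?_, fun h => Finset.mem_filter.2 ⟨(hAS g.1 g.2 x₀).2 hx₀, g, h, rfl⟩⟩
    obtain ⟨k, hk, e⟩ := (Finset.mem_filter.1 h).2
    have : k⁻¹ * g ∈ St := MulAction.mem_stabilizer_iff.2 (by rw [mul_smul, ← e, inv_smul_smul])
    have := mul_mem hk (hKle this)
    rwa [mul_inv_cancel_left] at this
  have hmove : ∀ g : A, ∀ x ∈ S, g • x ∈ T ↔ (g ∈ K ↔ x ∈ T) := by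
    intro g x hx
    obtain ⟨h, hh, rfl⟩ := htrans x hx
    rw [show g • h • x₀ = (g * ⟨h, hh⟩) • x₀ from (mul_smul g (⟨h, hh⟩ : A) x₀).symm, hTiff,
      Subgroup.mul_mem_iff_of_index_two hidx]
    exact iff_congr Iff.rfl (hTiff ⟨h, hh⟩).symm
  have hgood : ∀ (l m : L) (a b : group p t) (hl : p l ∈ A) (hm : p m ∈ A), a.1.right = p l →
      b.1.right = p m → Commute (p l) (p m) → (⟨p l, hl⟩ : A) ∉ K → (⟨p m, hm⟩ : A) ∈ K →
      beta ε a b S = 1 := by
    intro l m a b hl hm ha hb hlm hlK hmK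
    have hc : Commute a.1.right b.1.right := by rw [ha, hb]; exact hlm
    rw [beta_two ε hz hc hTS (fun x => by rw [ha]; exact hAS _ hl x) fun x hx => by
      rw [ha]; exact (hmove ⟨_, hl⟩ x hx).trans ⟨fun h hx => hlK (h.2 hx), fun h => iff_of_false hlK h⟩]
    have hle : closure {p (l * l), p m} ≤ A := (closure_le _).2 (by
      rintro _ (rfl | rfl)
      · rw [map_mul]; exact mul_mem hl hl
      · exact hm)
    have hlt : T.card < n := hn ▸ Finset.card_lt_card (hTS.ssubset_of_ne fun h =>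
      hlK ((hTiff ⟨_, hl⟩).1 (h ▸ (hAS _ hl x₀).2 hx₀)))
    have hstab : ∀ (g : A), g ∈ K → ∀ x, g.1 • x ∈ T ↔ x ∈ T := fun g hg x => by
      by_cases hx : x ∈ S
      · exact (hmove g x hx).trans ⟨fun h => h.1 hg, fun h => iff_of_true hg h⟩
      · exact iff_of_false (fun h => hx ((hAS g.1 g.2 x).1 (hTS h))) fun h => hx (hTS h)
    have hsq : (⟨p l, hl⟩ * ⟨p l, hl⟩ : A) ∈ K := Subgroup.mul_self_mem_of_index_two hidx _
    rw [ih _ hlt T rfl (l * l) m (a * a) b (by rw [map_mul]; exact congrArg₂ (· * ·) ha ha) hb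
      (by rw [map_mul]; exact hlm.mul_left hlm) (hA.to_le hle)
      (fun x => by rw [map_mul]; exact hstab _ hsq x) (hstab ⟨_, hm⟩ hmK)]
    have h2 : vL p ε ⁅l * l, m⁆ = 1 := by
      have hk : ⁅l, m⁆ ∈ p.ker := by
        rw [MonoidHom.mem_ker, map_commutatorElement]; exact commutatorElement_eq_one_iff_commute.2 hlm
      rw [show ⁅l * l, m⁆ = l * ⁅l, m⁆ * l⁻¹ * ⁅l, m⁆ by simp only [commutatorElement_def]; group,
        mem_center_iff.1 (hz hk) l, mul_inv_cancel_right, vL_mul p ε hk hk, sq_eq_one]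
    rw [h2, one_pow]
  have heven : vL p ε ⁅l, m⁆ ^ n = 1 := by
    refine pow_card_even _ ?_
    obtain ⟨g, hg⟩ : ∃ g : A, g ∉ K := by
      by_contra h; push Not at h
      rw [show K = ⊤ from eq_top_iff.2 fun g _ => h g, index_top] at hidx
      omega
    have e : T.card = (S \ T).card := Finset.card_equiv (MulAction.toPerm g.1) fun x => by
      rw [Finset.mem_sdiff]
      show x ∈ T ↔ g.1 • x ∈ S ∧ g.1 • x ∉ T
      by_cases hx : x ∈ S
      · have : g.1 • x ∈ T ↔ x ∉ T := (hmove g x hx).trans ⟨fun h hx => hg (h.2 hx), fun h => iff_of_false hg h⟩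
        simp only [(hAS g.1 g.2 x).2 hx, this, true_and, not_not]
      · exact iff_of_false (fun h => hx (hTS h)) fun h => hx ((hAS g.1 g.2 x).1 h.1)
    exact ⟨T.card, by rw [← hn, ← Finset.card_sdiff_add_card_eq_card hTS, e]⟩
  rw [heven]
  have hl : p l ∈ A := subset_closure (Set.mem_insert _ _)
  have hm : p m ∈ A := subset_closure (Set.mem_insert_of_mem _ rfl)
  by_cases hlK : (⟨p l, hl⟩ : A) ∈ K <;> by_cases hmK : (⟨p m, hm⟩ : A) ∈ K
  · exfalso
    obtain ⟨g, hg⟩ : ∃ g : A, g ∉ K := by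
      by_contra h; push Not at h
      rw [show K = ⊤ from eq_top_iff.2 fun g _ => h g, index_top] at hidx
      omega
    have : A ≤ K.map A.subtype := (closure_le _).2 (by
      rintro _ (rfl | rfl)
      exacts [⟨_, hlK, rfl⟩, ⟨_, hmK, rfl⟩])
    obtain ⟨k, hk, e⟩ := this g.2
    exact hg (Subtype.ext e ▸ hk)
  · rw [← inv_inv (beta ε a b S), ← beta_symm ε hc, hgood m l b a hm hl hb ha hlm.symm hmK hlK, inv_one]
  · exact hgood l m a b hl hm ha hb hlm hlK hmK
  · rw [← beta_mul ε hz hc (fun x => by rw [ha]; exact hSl x)]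
    refine hgood l (l * m) a (a * b) hl (by rw [map_mul]; exact mul_mem hl hm) ha
      (by rw [map_mul]; exact congrArg₂ (· * ·) ha hb) (by rw [map_mul]; exact (Commute.refl _).mul_right hlm) hlK ?_
    have : (⟨p l, hl⟩ * ⟨p m, hm⟩ : A) ∈ K :=
      (Subgroup.mul_mem_iff_of_index_two hidx).2 (iff_of_false hlK hmK)
    convert this using 1
    exact Subtype.ext (map_mul p l m)

variable (p) in
/-- A double cover of a subgroup of odd index with invariant form, nonzero on a pair of `2`-elements, gives a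
stem extension. -/
theorem exists_stem_of_invariant [Finite G] [Finite L] (hz : p.ker ≤ center L) (hcard : Nat.card p.ker = 2)
    (hodd : Odd p.range.index) (hinv : Invariant p) (l m : L) (hlm : Commute (p l) (p m))
    (hA : IsPGroup 2 (closure {p l, p m} : Subgroup G)) (hne : ⁅l, m⁆ ≠ 1) :
    ∃ (E : Type) (_ : Group E) (_ : Finite E) (σ : E →* G), Cfsg.IsStemExtension σ ∧ Nat.card σ.ker = 2 := by
  classical
  have : Fact (Nat.Prime 2) := ⟨Nat.prime_two⟩
  have := Fintype.ofFinite (G ⧸ p.range)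
  let ε : p.ker ≃* Multiplicative (ZMod 2) := mulEquivOfPrimeCardEq (p := 2) hcard (by simp)
  have ht : ∀ x : G ⧸ p.range, x.out • ((1 : G) : G ⧸ p.range) = x := fun x => by
    rw [MulAction.Quotient.smul_mk, smul_eq_mul, mul_one, QuotientGroup.out_eq']
  have hp : ∀ h ∈ MulAction.stabilizer G ((1 : G) : G ⧸ p.range), ∃ l, p l = h := fun h hh => by
    rw [MulAction.mem_stabilizer_iff, MulAction.Quotient.smul_mk, smul_eq_mul, mul_one, eq_comm, QuotientGroup.eq,
      inv_one, one_mul] at hh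
    exact hh
  obtain ⟨a, ha⟩ := proj_surjective (p := p) (t := fun x : G ⧸ p.range => x.out) ht hp (p l)
  obtain ⟨b, hb⟩ := proj_surjective (p := p) (t := fun x : G ⧸ p.range => x.out) ht hp (p m)
  have hab : Commute (proj p _ a) (proj p _ b) := by rw [ha, hb]; exact hlm
  refine (exists_stem (p := p) (A := Multiplicative (ZMod 2)) ε.toMonoidHom ht hp hz ε.bijective (by
    simp [Nat.prime_two]) a b hab ?_).imp fun E h => h.imp fun _ h => h.imp fun _ h => h.imp fun σ h =>
      ⟨h.1, h.2.trans (by simp)⟩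
  have hker : ⁅l, m⁆ ∈ p.ker := by
    rw [MonoidHom.mem_ker, map_commutatorElement]; exact commutatorElement_eq_one_iff_commute.2 hlm
  have key := beta_eq ε hz hinv _ Finset.univ rfl l m a b ha hb hlm hA (by simp) (by simp)
  have hodd' : Odd (Finset.univ : Finset (G ⧸ p.range)).card := by
    rwa [Finset.card_univ, ← Nat.card_eq_fintype_card, ← Subgroup.index_eq_card]
  obtain ⟨k, hk⟩ := hodd'
  rw [hk, pow_succ, pow_card_even _ (even_two_mul k), one_mul, vL_of_mem p ε hker] at key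
  show (∏ x, _) ≠ _
  rw [show (1 : Multiplicative (ZMod 2)) = ε 1 from (map_one ε).symm]
  intro h0
  refine hne ?_
  have e : beta ε a b Finset.univ = ε 1 := by
    rw [← h0]
    refine Finset.prod_congr rfl fun x _ => ?_
    rw [vL_of_mem p ε (comAt_mem_ker hab x)]
    exact congrArg ε (Subtype.ext (left_commutator hab x).symm)
  exact congrArg Subtype.val (ε.injective (key.symm.trans e))

end Cfsg.Agent.Schur.TransferPair
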