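import Cfsg.Prelude.Def_KGroupFacts
import Mathlib

/-!
The transfer of a central extension of a point stabiliser to the whole group.

For a transitive action of `G` on a finite `X` with a transversal `t`, the pairs `(F, g)` of a
function on `X` into the extension `L` of the stabiliser and an element of `G` such that `F x` lies
over the cocycle value `(t x)⁻¹ * g * t (g⁻¹ • x)` form a group; dividing out the families of kernel
elements with product one gives a central extension of `G` whose kernel is that of `L`.  When the
lifts of some commuting pair have commutator different from one it is a stem extension.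
-/

set_option autoImplicit false

namespace Cfsg.Agent.Schur.Transfer

open Subgroup SemidirectProduct
open scoped commutatorElement

variable {G : Type} [Group G] {X : Type} [MulAction G X] {L : Type} [Group L]

/-- The action on families indexed by the points. -/
def shiftAut (X L : Type) [MulAction G X] [Group L] : G →* MulAut (X → L) where
  toFun g :=
    { toFun := fun F x => F (g⁻¹ • x)
      invFun := fun F x => F (g • x)
      left_inv := fun F => funext fun x => by simp
      right_inv := fun F => funext fun x => by simp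
      map_mul' := fun _ _ => rfl }
  map_one' := MulEquiv.ext fun F => funext fun x => congrArg F (by simp)
  map_mul' g h := MulEquiv.ext fun F => funext fun x => by
    show F ((g * h)⁻¹ • x) = F (h⁻¹ • g⁻¹ • x)
    rw [mul_inv_rev, mul_smul]

/-- The value of the cocycle of the transversal. -/
def cocyc (t : X → G) (g : G) (x : X) : G := (t x)⁻¹ * g * t (g⁻¹ • x)

theorem cocyc_mul (t : X → G) (g h : G) (x : X) :
    cocyc t (g * h) x = cocyc t g x * cocyc t h (g⁻¹ • x) := by
  simp only [cocyc, mul_inv_rev, mul_smul]
  group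

theorem cocyc_mem (t : X → G) {x0 : X} (ht : ∀ x, t x • x0 = x) (g : G) (x : X) :
    cocyc t g x ∈ MulAction.stabilizer G x0 := by
  rw [MulAction.mem_stabilizer_iff, cocyc, mul_smul, mul_smul, ht, smul_inv_smul, inv_smul_eq_iff,
    ht]

variable (p : L →* G) (t : X → G)

/-- The families over the cocycle. -/
def group : Subgroup ((X → L) ⋊[shiftAut X L] G) where
  carrier := {e | ∀ x, p (e.left x) = cocyc t e.right x}
  one_mem' := fun x => by simp [cocyc]
  mul_mem' := by
    intro a b ha hb x
    show p (a.left x * b.left (a.right⁻¹ • x)) = cocyc t (a.right * b.right) x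
    rw [map_mul, ha x, hb (a.right⁻¹ • x), cocyc_mul]
  inv_mem' := by
    intro a ha x
    show p ((a.left⁻¹) (a.right⁻¹⁻¹ • x)) = cocyc t a.right⁻¹ x
    rw [inv_inv, Pi.inv_apply, map_inv, ha (a.right • x)]
    simp only [cocyc, inv_smul_smul, mul_inv_rev, inv_inv]
    group

/-- The projection. -/
def proj : group p t →* G := rightHom.comp (group p t).subtype

variable {p t}

theorem mem_ker_apply {e : group p t} (he : proj p t e = 1) (x : X) : e.1.left x ∈ p.ker := by
  have hr : e.1.right = 1 := he
  rw [MonoidHom.mem_ker, e.2 x, hr]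
  simp [cocyc]

theorem proj_surjective {x0 : X} (ht : ∀ x, t x • x0 = x)
    (hp : ∀ h ∈ MulAction.stabilizer G x0, ∃ l, p l = h) : Function.Surjective (proj p t) := by
  intro g
  choose F hF using fun x => hp _ (cocyc_mem t ht g x)
  exact ⟨⟨⟨F, g⟩, hF⟩, rfl⟩

variable [Fintype X] {A : Type} [CommGroup A] (val : p.ker →* A)

/-- The product of a family of kernel elements. -/
noncomputable def total : (proj p t).ker →* A where
  toFun e := ∏ x, val ⟨e.1.1.left x, mem_ker_apply e.2 x⟩
  map_one' := by
    refine Finset.prod_eq_one fun x _ => ?_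
    exact map_one val
  map_mul' a b := by
    rw [← Finset.prod_mul_distrib]
    refine Finset.prod_congr rfl fun x _ => ?_
    rw [← map_mul]
    refine congrArg val (Subtype.ext ?_)
    show a.1.1.left x * b.1.1.left (a.1.1.right⁻¹ • x) = _
    rw [show a.1.1.right = 1 from a.2, inv_one, one_smul]
    rfl

theorem total_conj (hz : p.ker ≤ center L) (g : group p t) (a : (proj p t).ker) :
    total val ⟨g * a.1 * g⁻¹, (inferInstance : (proj p t).ker.Normal).conj_mem _ a.2 g⟩ =
      total val a := by
  refine Fintype.prod_equiv (MulAction.toPerm g.1.right⁻¹) _ _ fun x => congrArg val (Subtype.ext ?_)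
  have hr : a.1.1.right = 1 := a.2
  show g.1.left x * a.1.1.left (g.1.right⁻¹ • x) *
    ((g.1.left⁻¹) (g.1.right⁻¹⁻¹ • (g.1.right * a.1.1.right)⁻¹ • x)) = a.1.1.left (g.1.right⁻¹ • x)
  rw [hr, mul_one, inv_inv, smul_inv_smul, Pi.inv_apply,
    mem_center_iff.1 (hz (mem_ker_apply a.2 _)) (g.1.left x), mul_inv_cancel_right]

/-- The families of kernel elements with product one. -/
noncomputable def null : Subgroup (group p t) := (total val).ker.map (proj p t).ker.subtype

theorem null_normal (hz : p.ker ≤ center L) : (null (t := t) val).Normal := by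
  refine ⟨?_⟩
  rintro _ ⟨a, ha, rfl⟩ g
  exact ⟨⟨_, _⟩, (total_conj val hz g a).trans ha, rfl⟩

/-- A stem extension from the transfer. -/
theorem exists_stem [Finite G] [Finite L] [Fintype A] [Nonempty X] {x0 : X}
    (ht : ∀ x, t x • x0 = x) (hp : ∀ h ∈ MulAction.stabilizer G x0, ∃ l, p l = h)
    (hz : p.ker ≤ center L) (hval : Function.Bijective val) (hA : (Nat.card A).Prime)
    (a b : group p t) (hab : Commute (proj p t a) (proj p t b))
    (hne : total val ⟨⁅a, b⁆, by
      rw [MonoidHom.mem_ker, map_commutatorElement]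
      exact commutatorElement_eq_one_iff_commute.2 hab⟩ ≠ 1) :
    ∃ (E : Type) (_ : Group E) (_ : Finite E) (σ : E →* G),
      Cfsg.IsStemExtension σ ∧ Nat.card σ.ker = Nat.card A := by
  classical
  have hN : (null (t := t) val).Normal := null_normal val hz
  have : Finite ((X → L) ⋊[shiftAut X L] G) :=
    Finite.of_equiv _ (SemidirectProduct.equivProd (φ := shiftAut X L)).symm
  have hle : null (t := t) val ≤ (proj p t).ker := map_subtype_le _
  let σ : group p t ⧸ null (t := t) val →* G := QuotientGroup.lift _ (proj p t) hle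
  have hker : σ.ker = (proj p t).ker.map (QuotientGroup.mk' _) := QuotientGroup.ker_lift _ _ hle
  have hsur : Function.Surjective (total (t := t) val) := by
    intro c
    obtain ⟨z, rfl⟩ := hval.2 c
    obtain ⟨y⟩ := (inferInstance : Nonempty X)
    have hmem : ((⟨Function.update 1 y z.1, 1⟩ : (X → L) ⋊[shiftAut X L] G)) ∈ group p t := by
      intro x
      by_cases h : x = y
      · subst h; simp [cocyc, show p z.1 = 1 from z.2]
      · simp [cocyc, Function.update_of_ne h]
    refine ⟨⟨⟨_, hmem⟩, rfl⟩, (Finset.prod_eq_single y (fun x _ hx => ?_) (by simp)).trans ?_⟩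
    · exact (congrArg val (Subtype.ext (Function.update_of_ne hx _ _))).trans (map_one val)
    · exact congrArg val (Subtype.ext (Function.update_self y (z.1 : L) (1 : X → L)))
  let f : (proj p t).ker →* σ.ker :=
    ((QuotientGroup.mk' _).comp (proj p t).ker.subtype).codRestrict σ.ker fun e => e.2
  have hf : Function.Surjective f := by
    rintro ⟨q, hq⟩
    rw [hker] at hq
    obtain ⟨e, he, rfl⟩ := hq
    exact ⟨⟨e, he⟩, rfl⟩
  have hfker : f.ker = (total (t := t) val).ker := by
    ext e
    rw [MonoidHom.mem_ker, ← Subtype.val_inj]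
    show ((e.1 : group p t) : group p t ⧸ null val) = 1 ↔ _
    rw [QuotientGroup.eq_one_iff]
    exact ⟨fun ⟨e', he', h⟩ => Subtype.ext h ▸ he', fun h => ⟨e, h, rfl⟩⟩
  have hcard : Nat.card σ.ker = Nat.card A :=
    (Nat.card_congr ((QuotientGroup.quotientKerEquivOfSurjective f hf).symm.trans
      ((QuotientGroup.quotientMulEquivOfEq hfker).trans
        (QuotientGroup.quotientKerEquivOfSurjective _ hsur))).toEquiv)
  refine ⟨_, inferInstance, inferInstance, σ, ⟨?_, ?_, ?_⟩, hcard⟩
  · intro g
    obtain ⟨e, he⟩ := proj_surjective ht hp g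
    exact ⟨(e : group p t ⧸ null val), he⟩
  · rw [hker]
    rintro _ ⟨e, he, rfl⟩
    rw [mem_center_iff]
    intro q
    obtain ⟨g, rfl⟩ := QuotientGroup.mk'_surjective (null (t := t) val) q
    rw [← map_mul, ← map_mul, QuotientGroup.mk'_apply, QuotientGroup.mk'_apply, QuotientGroup.eq]
    refine ⟨⟨(g * e)⁻¹ * (e * g), ?_⟩, ?_, rfl⟩
    · have : proj p t e = 1 := he
      simp [this]
    · have h1 := total_conj val hz g⁻¹ ⟨e, he⟩
      show total val _ = 1
      rw [show (⟨(g * e)⁻¹ * (e * g), _⟩ : (proj p t).ker) = (⟨e, he⟩ : (proj p t).ker)⁻¹ *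
          ⟨g⁻¹ * e * g⁻¹⁻¹, (inferInstance : (proj p t).ker.Normal).conj_mem _ he g⁻¹⟩ from
        Subtype.ext (by
          show (g * e)⁻¹ * (e * g) = e⁻¹ * (g⁻¹ * e * g⁻¹⁻¹)
          group), map_mul, map_inv, h1, inv_mul_cancel]
  · have hmem : (⁅a, b⁆ : group p t) ∈ (proj p t).ker := by
      rw [MonoidHom.mem_ker, map_commutatorElement]
      exact commutatorElement_eq_one_iff_commute.2 hab
    have hpr : Fact (Nat.card σ.ker).Prime := ⟨hcard ▸ hA⟩
    rcases (σ.ker ⊓ _root_.commutator (group p t ⧸ null (t := t) val)).subgroupOf σ.ker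
      |>.eq_bot_or_eq_top_of_prime_card with h | h
    · exfalso
      have hm : f ⟨_, hmem⟩ ∈ (σ.ker ⊓ _root_.commutator (group p t ⧸ null (t := t) val)).subgroupOf σ.ker :=
        ⟨(f ⟨_, hmem⟩).2, by
          show QuotientGroup.mk' _ ⁅a, b⁆ ∈ _
          rw [map_commutatorElement]
          exact commutator_mem_commutator (mem_top _) (mem_top _)⟩
      rw [h, mem_bot, ← MonoidHom.mem_ker, hfker] at hm
      exact hne hm
    · exact fun q hq => ((Subgroup.subgroupOf_eq_top.1 h) hq).2

end Cfsg.Agent.Schur.Transfer
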