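import Cfsg.Agent.Lib.Schur.SmallSylow
import Cfsg.Agent.Lib.Schur.ThreeLocal
import Mathlib

/-!
A central extension over a class two group with generators of order `p` inverted by an involution.

* `exists_form`: generators whose commutators are powers of a central `k` give all elements as
  ordered products times a power of `k`.
* `commutator_inf_ker_eq_bot_of_inverted_gens`: the lifts inverted by a lift of the involution
  generate a subgroup avoiding the kernel, provided enough given pairs lift to commuting pairs, and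
  it contains the derived group of a subgroup over an extension by one commuting element.
-/

set_option autoImplicit false

namespace Cfsg.Agent.Schur.InvertedGens

open Subgroup
open scoped commutatorElement

section Form

variable {Γ : Type*} [Group Γ] {n : ℕ}

/-- The ordered product of powers. -/
def word (a : Fin n → Γ) (u : Fin n → ℕ) : Γ := ((List.finRange n).map fun i => a i ^ u i).prod

theorem map_word {H : Type*} [Group H] (f : Γ →* H) (a : Fin n → Γ) (u : Fin n → ℕ) :
    f (word a u) = word (fun i => f (a i)) u := by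
  rw [word, word, map_list_prod, List.map_map]
  exact congrArg _ (List.map_congr_left fun i _ => map_pow f _ _)

variable (a : Fin n → Γ) (k : Γ)

/-- `a l` moves to the left past `a j ^ q`. -/
theorem pow_mul_gen {e : ℕ} {x y : Γ} (h : x * y = y * x * k ^ e) (hkx : Commute k x) :
    ∀ q : ℕ, x ^ q * y = y * x ^ q * k ^ (q * e)
  | 0 => by simp
  | q + 1 => by
    rw [pow_succ, mul_assoc, h, ← mul_assoc, ← mul_assoc, pow_mul_gen h hkx q,
      mul_assoc (y * x ^ q) (k ^ (q * e)) x, (hkx.pow_left _).eq, ← mul_assoc, mul_assoc,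
      ← pow_add, add_mul, one_mul]
    simp only [mul_assoc]

variable {e : Fin n → Fin n → ℕ} (h : ∀ i j, a i * a j = a j * a i * k ^ e i j)
  (hk : ∀ i, Commute k (a i))
include h hk

theorem list_mul_gen (u : Fin n → ℕ) (j : Fin n) : ∀ l : List (Fin n),
    ∃ m, (l.map fun i => a i ^ u i).prod * a j = a j * (l.map fun i => a i ^ u i).prod * k ^ m
  | [] => ⟨0, by simp⟩
  | i :: l => by
    obtain ⟨m, hm⟩ := list_mul_gen u j l
    have hl : Commute k (l.map fun i => a i ^ u i).prod := Commute.list_prod_right _ _ fun x hx => by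
      obtain ⟨i, -, rfl⟩ := List.mem_map.1 hx
      exact (hk i).pow_right _
    refine ⟨u i * e i j + m, ?_⟩
    simp only [List.map_cons, List.prod_cons]
    rw [mul_assoc, hm, ← mul_assoc, ← mul_assoc, pow_mul_gen k (h i j) (hk i),
      mul_assoc (a j * a i ^ u i), (hl.pow_left _).eq, pow_add]
    simp only [mul_assoc]

theorem word_mul_gen (u : Fin n → ℕ) (j : Fin n) :
    ∃ m, word a u * a j = word a (u + Pi.single j 1) * k ^ m := by
  have key : ∀ l : List (Fin n), l.Nodup →
      (j ∈ l → ∃ m, (l.map fun i => a i ^ u i).prod * a j =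
        (l.map fun i => a i ^ (u + Pi.single j 1 : Fin n → ℕ) i).prod * k ^ m) := by
    intro l
    induction l with
    | nil => intro _ h; exact absurd h List.not_mem_nil
    | cons i l ih =>
      intro hnd hj
      rw [List.nodup_cons] at hnd
      simp only [List.map_cons, List.prod_cons]
      rcases List.mem_cons.1 hj with rfl | hj
      · obtain ⟨m, hm⟩ := list_mul_gen a k h hk u j l
        refine ⟨m, ?_⟩
        have hmap : (l.map fun i => a i ^ (u + Pi.single j 1 : Fin n → ℕ) i) =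
            l.map fun i => a i ^ u i := List.map_congr_left fun x hx => by
          have : x ≠ j := fun e => hnd.1 (e ▸ hx)
          simp [Pi.single_eq_of_ne this]
        rw [hmap]
        rw [mul_assoc, hm, Pi.add_apply, Pi.single_eq_same, pow_succ]
        simp only [mul_assoc]
      · obtain ⟨m, hm⟩ := ih hnd.2 hj
        refine ⟨m, ?_⟩
        have : i ≠ j := fun e => hnd.1 (e ▸ hj)
        rw [mul_assoc, hm, Pi.add_apply, Pi.single_eq_of_ne this, add_zero, ← mul_assoc]
  exact key _ (List.nodup_finRange n) (List.mem_finRange j)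

/-- Normal forms. -/
theorem exists_form [Finite Γ] {p : ℕ} [NeZero p] (ha : ∀ i, a i ^ p = 1) (hkp : k ^ p = 1)
    {x : Γ} (hx : x ∈ closure (Set.range a)) :
    ∃ (u : Fin n → Fin p) (m : Fin p), x = word a (fun i => (u i).val) * k ^ m.val := by
  suffices hs : ∀ y : Γ, (∃ u m, y = word a u * k ^ m) → ∃ u m, y * x = word a u * k ^ m by
    obtain ⟨u, m, hu⟩ := hs 1 ⟨0, 0, by simp [word]⟩
    refine ⟨fun i => Fin.ofNat p (u i), Fin.ofNat p m, ?_⟩
    rw [one_mul] at hu
    rw [hu, word, word, Fin.val_ofNat, ← pow_eq_pow_mod m hkp]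
    refine congrArg (fun z => z * k ^ m) (congrArg _ (List.map_congr_left fun i _ => ?_))
    exact pow_eq_pow_mod _ (ha i)
  rw [← Subgroup.mem_toSubmonoid, Subgroup.closure_toSubmonoid_of_finite] at hx
  induction hx using Submonoid.closure_induction with
  | mem g hg =>
    obtain ⟨j, rfl⟩ := hg
    rintro y ⟨u, m, rfl⟩
    obtain ⟨m', hm'⟩ := word_mul_gen a k h hk u j
    exact ⟨_, m' + m, by rw [mul_assoc, ((hk j).pow_left m).eq, ← mul_assoc, hm', mul_assoc, ← pow_add]⟩
  | one => intro y hy; rwa [mul_one]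
  | mul g g' _ _ ih ih' => intro y hy; rw [← mul_assoc]; exact ih' _ (ih y hy)

end Form

section Pairing

variable {Γ : Type*} [Group Γ] {n : ℕ}

/-- Bilinearity: enough commuting pairs of products force all commutators of generators to be powers
of one of them. -/
theorem commutator_eq_pow_of_relations {p : ℕ} [hp : Fact p.Prime] (hp2 : p ≠ 2) (a : Fin n → Γ)
    (hap : ∀ i, a i ^ p = 1) (hc : ∀ i j l, Commute ⁅a i, a j⁆ (a l)) {ι : Type} [Fintype ι]
    (u v : ι → Fin n → ℕ) (hrel : ∀ r, ⁅word a (u r), word a (v r)⁆ = 1) (i₀ j₀ : Fin n)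
    (e : Fin n → Fin n → ℕ) (coef : Fin n → Fin n → ι → ℕ)
    (hcert : ∀ i j, ∃ S : Fin n → Fin n → ZMod p, (∀ x y, S x y = S y x) ∧ ∀ x y,
      (if x = i ∧ y = j then (1 : ZMod p) else 0) = (if x = i₀ ∧ y = j₀ then (e i j : ZMod p) else 0) +
        (∑ r, (coef i j r : ZMod p) * ((u r x : ZMod p) * (v r y : ZMod p))) + S x y)
    (i j : Fin n) : ⁅a i, a j⁆ = ⁅a i₀, a j₀⁆ ^ e i j := by
  classical
  let H : Subgroup Γ := closure (Set.range a)
  let N : Subgroup Γ := closure (Set.range fun q : Fin n × Fin n => ⁅a q.1, a q.2⁆)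
  have hN : N ≤ centralizer (Set.range a) := (closure_le _).2 (by
    rintro _ ⟨q, rfl⟩
    exact mem_centralizer_iff.2 (by rintro _ ⟨l, rfl⟩; exact (hc q.1 q.2 l).symm.eq))
  have hHN : ⁅H, H⁆ ≤ N := by
    refine SmallSylow.commutator_closure_le N (fun x hx => ?_)
      fun x hx y hy => by
        obtain ⟨i, rfl⟩ := hx; obtain ⟨j, rfl⟩ := hy
        exact subset_closure ⟨(i, j), rfl⟩
    refine mem_normalizer_iff.2 fun z => ?_
    have hz : ∀ w ∈ N, x * w * x⁻¹ = w := fun w hw => by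
      rw [mem_centralizer_iff.1 (hN hw) x hx, mul_inv_cancel_right]
    refine ⟨fun h => (hz z h).symm ▸ h, fun h => ?_⟩
    have h2 : z = x⁻¹ * (x * z * x⁻¹) * x := by group
    rw [h2]
    have h3 := mem_centralizer_iff.1 (hN h) x hx
    rwa [mul_assoc, ← h3, inv_mul_cancel_left]
  have hcen : ∀ x y : H, ⁅x, y⁆ ∈ center H := fun x y => mem_center_iff.2 fun w => Subtype.ext (by
    have h1 : ⁅(x : Γ), (y : Γ)⁆ ∈ N := hHN (commutator_mem_commutator x.2 y.2)
    have h2 : (w : Γ) ∈ centralizer {⁅(x : Γ), (y : Γ)⁆} := by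
      refine ((closure_le _).2 ?_) w.2
      rintro _ ⟨l, rfl⟩
      exact mem_centralizer_singleton_iff.2 (mem_centralizer_iff.1 (hN h1) _ ⟨l, rfl⟩)
    show (w : Γ) * ⁅(x : Γ), (y : Γ)⁆ = ⁅(x : Γ), (y : Γ)⁆ * w
    exact mem_centralizer_singleton_iff.1 h2)
  let : CommGroup (center H) :=
    { (inferInstance : Group (center H)) with
      mul_comm := fun x y => Subtype.ext (mem_center_iff.1 y.2 (x : H)) }
  let B : H → H →* center H := fun y => MonoidHom.mk' (fun x => ⟨⁅x, y⁆, hcen x y⟩) fun x x' =>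
    Subtype.ext (by
      have h := mem_center_iff.1 (hcen x' y) x
      show ⁅x * x', y⁆ = ⁅x, y⁆ * ⁅x', y⁆
      rw [show ⁅x * x', y⁆ = x * ⁅x', y⁆ * x⁻¹ * ⁅x, y⁆ by simp only [commutatorElement_def]; group,
        h, mul_inv_cancel_right, mem_center_iff.1 (hcen x' y)])
  let a' : Fin n → H := fun l => ⟨a l, subset_closure ⟨l, rfl⟩⟩
  have hw : ∀ w : Fin n → ℕ, ((word a' w : H) : Γ) = word a w := fun w => map_word H.subtype a' w
  have hB : ∀ x y : H, B y x = (B x y)⁻¹ := fun x y => Subtype.ext (commutatorElement_inv y x).symm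
  have hprod : ∀ (f : H →* center H) (w : Fin n → ℕ), f (word a' w) = ∏ l, f (a' l) ^ w l := by
    intro f w
    rw [map_word, word, Fin.prod_univ_def]
  have hbil : ∀ w w' : Fin n → ℕ,
      B (word a' w') (word a' w) = ∏ x, ∏ y, B (a' y) (a' x) ^ (w x * w' y) := by
    intro w w'
    rw [hprod]
    refine Finset.prod_congr rfl fun x _ => ?_
    rw [hB (a' x), hprod, ← Finset.prod_inv_distrib, ← Finset.prod_pow]
    exact Finset.prod_congr rfl fun y _ => by
      rw [hB (a' x) (a' y), inv_pow, inv_pow, ← pow_mul, mul_comm (w' y)]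
  -- the form on matrices
  let K : Fin n → Fin n → Additive (center H) := fun x y => Additive.ofMul (B (a' y) (a' x))
  have hK : ∀ x y, p • K x y = 0 := fun x y => by
    show Additive.ofMul (B (a' y) (a' x) ^ p) = 0
    rw [← map_pow, show a' x ^ p = 1 from Subtype.ext (by simpa using hap x), map_one]
    rfl
  let ψ : Fin n → Fin n → ZMod p →+ Additive (center H) := fun x y =>
    ZMod.lift p ⟨zmultiplesHom _ (K x y), by simpa using hK x y⟩
  have hψ : ∀ x y (m : ℕ), ψ x y (m : ZMod p) = m • K x y := fun x y m => by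
    have h := ZMod.lift_coe p ⟨zmultiplesHom _ (K x y), by simpa using hK x y⟩ (m : ℤ)
    rw [Int.cast_natCast] at h
    show ZMod.lift p _ (m : ZMod p) = _
    rw [h]
    simp
  let φ : (Fin n → Fin n → ZMod p) → Additive (center H) := fun m => ∑ x, ∑ y, ψ x y (m x y)
  have hskew : ∀ x y (c : ZMod p), ψ y x c = - ψ x y c := fun x y c => by
    rw [← ZMod.natCast_zmod_val c, hψ, hψ, ← smul_neg]
    exact congrArg _ (congrArg Additive.ofMul (hB (a' y) (a' x)))
  have hsym : ∀ S : Fin n → Fin n → ZMod p, (∀ x y, S x y = S y x) → φ S = 0 := by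
    intro S hS
    have h2 : φ S = - φ S := by
      show ∑ x, ∑ y, ψ x y (S x y) = _
      rw [Finset.sum_comm]
      simp only [φ, ← Finset.sum_neg_distrib]
      exact Finset.sum_congr rfl fun y _ => Finset.sum_congr rfl fun x _ => by
        rw [hS x y, hskew y x]
    have hpS : p • φ S = 0 := by
      simp only [φ, Finset.smul_sum, ← map_nsmul, nsmul_eq_mul, CharP.cast_eq_zero, zero_mul,
        map_zero, Finset.sum_const_zero]
    obtain ⟨q, hq⟩ := hp.out.odd_of_ne_two hp2
    have h2' : 2 • φ S = 0 := by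
      rw [two_nsmul]; nth_rewrite 2 [h2]; rw [add_neg_cancel]
    rw [hq, add_nsmul, mul_nsmul, h2', nsmul_zero, zero_add, one_nsmul] at hpS
    exact hpS
  have hrel' : ∀ r, φ (fun x y => (u r x : ZMod p) * (v r y : ZMod p)) = 0 := by
    intro r
    have h1 : B (word a' (v r)) (word a' (u r)) = 1 := Subtype.ext (Subtype.ext (by
      show ⁅((word a' (u r) : H) : Γ), ((word a' (v r) : H) : Γ)⁆ = 1
      rw [hw, hw]; exact hrel r))
    rw [hbil] at h1
    have h1' := congrArg Additive.ofMul h1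
    simp only [ofMul_prod, ofMul_pow, ofMul_one] at h1'
    simp only [φ, ← Nat.cast_mul, hψ]
    exact h1'
  obtain ⟨S, hS, hcert'⟩ := hcert i j
  have hsplit : φ (fun x y => if x = i ∧ y = j then (1 : ZMod p) else 0) =
      φ (fun x y => if x = i₀ ∧ y = j₀ then (e i j : ZMod p) else 0) := by
    have : φ (fun x y => if x = i ∧ y = j then (1 : ZMod p) else 0) =
        φ (fun x y => if x = i₀ ∧ y = j₀ then (e i j : ZMod p) else 0) +
        (∑ r, coef i j r • φ (fun x y => (u r x : ZMod p) * (v r y : ZMod p))) + φ S := by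
      simp only [φ, hcert', map_add, map_sum, Finset.sum_add_distrib, Finset.smul_sum, ← map_nsmul,
        nsmul_eq_mul]
      congr 2
      exact (Finset.sum_congr rfl fun x _ => Finset.sum_comm).trans Finset.sum_comm
    rw [this, hsym S hS]
    simp [hrel']
  have hpick : ∀ (x y : Fin n) (c : ZMod p), φ (fun x' y' => if x' = x ∧ y' = y then c else 0) = ψ x y c := by
    intro x y c
    show (∑ x', ∑ y', ψ x' y' (if x' = x ∧ y' = y then c else 0)) = ψ x y c
    rw [Finset.sum_eq_single x (fun x' _ h => Finset.sum_eq_zero fun y' _ => by simp [h]) (by simp),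
      Finset.sum_eq_single y (fun y' _ h => by simp [h]) (by simp)]
    simp
  rw [hpick, hpick, ← Nat.cast_one, hψ, hψ, one_nsmul] at hsplit
  exact congrArg (fun z : center H => ((z : H) : Γ)) (Additive.ofMul.injective hsplit :
    B (a' j) (a' i) = B (a' j₀) (a' i₀) ^ e i j)

end Pairing

section Local

variable {Γ G : Type*} [Group Γ] [Group G]

theorem eq_one_of_sq {p : ℕ} (hp : p.Prime) (hp2 : p ≠ 2) {x : Γ} (h2 : x * x = 1) (hx : x ^ p = 1) :
    x = 1 := by
  obtain ⟨q, rfl⟩ := hp.odd_of_ne_two hp2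
  rwa [pow_succ, pow_mul, pow_two, h2, one_pow, one_mul] at hx

/-- An element inverted by the involution has a lift inverted by the lift, of order dividing `p`. -/
theorem exists_inverted_lift (σ : Γ →* G) (hz : σ.ker ≤ center Γ) {p : ℕ} (hp : p.Prime) (hp2 : p ≠ 2)
    (hexp : ∀ z ∈ σ.ker, z ^ p = 1) {T x : Γ} (hinv : σ T * σ x * (σ T)⁻¹ = (σ x)⁻¹)
    (hx : σ x ^ p = 1) : ∃ x', σ x' = σ x ∧ T * x' * T⁻¹ = x'⁻¹ ∧ x' ^ p = 1 := by
  obtain ⟨q, hq⟩ := hp.odd_of_ne_two hp2
  obtain ⟨z, hzdef⟩ : ∃ z, z = T * x * T⁻¹ * x := ⟨_, rfl⟩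
  have hzk : σ z = 1 := by rw [hzdef, map_mul, map_mul, map_mul, map_inv, hinv, inv_mul_cancel]
  have hw := mem_center_iff.1 (hz (pow_mem (show z ∈ σ.ker from hzk) q))
  refine ⟨x * z ^ q, by rw [map_mul, map_pow, hzk, one_pow, mul_one], ?_, ?_⟩
  · refine eq_inv_of_mul_eq_one_left ?_
    calc T * (x * z ^ q) * T⁻¹ * (x * z ^ q) = T * x * (z ^ q * T⁻¹) * x * z ^ q := by group
      _ = T * x * (T⁻¹ * z ^ q) * x * z ^ q := by rw [hw T⁻¹]
      _ = T * x * T⁻¹ * (z ^ q * x) * z ^ q := by group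
      _ = z * (z ^ q * z ^ q) := by rw [← hw x, hzdef]; group
      _ = z ^ p := by rw [hq, ← pow_add, ← pow_succ']; congr 1; omega
      _ = 1 := hexp z hzk
  · have hk : (x * z ^ q) ^ p ∈ σ.ker := by
      rw [MonoidHom.mem_ker, map_pow, map_mul, map_pow, hzk, one_pow, mul_one, hx]
    have hinv' : T * (x * z ^ q) * T⁻¹ = (x * z ^ q)⁻¹ := by
      refine eq_inv_of_mul_eq_one_left ?_
      calc T * (x * z ^ q) * T⁻¹ * (x * z ^ q) = T * x * (z ^ q * T⁻¹) * x * z ^ q := by group
        _ = T * x * (T⁻¹ * z ^ q) * x * z ^ q := by rw [hw T⁻¹]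
        _ = T * x * T⁻¹ * (z ^ q * x) * z ^ q := by group
        _ = z * (z ^ q * z ^ q) := by rw [← hw x, hzdef]; group
        _ = z ^ p := by rw [hq, ← pow_add, ← pow_succ']; congr 1; omega
        _ = 1 := hexp z hzk
    refine eq_one_of_sq hp hp2 ?_ (hexp _ hk)
    have h := congrArg (· ^ p) hinv'
    simp only [conj_pow, mem_center_iff.1 (hz hk) T, mul_inv_cancel_right, inv_pow] at h
    nth_rewrite 1 [h]
    exact inv_mul_cancel _

/-- Inverted generators: the derived group of the part over the given group avoids the kernel. -/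
theorem commutator_inf_ker_eq_bot_of_inverted_gens [Finite Γ] {n p : ℕ} [hp : Fact p.Prime] (hp2 : p ≠ 2)
    (σ : Γ →* G) (hσ : Function.Surjective σ) (hz : σ.ker ≤ center Γ) (hexp : ∀ z ∈ σ.ker, z ^ p = 1)
    (x : Fin n → G) (t d : G) (ht2 : t * t = 1) (hinv : ∀ i, t * x i * t⁻¹ = (x i)⁻¹)
    (hxp : ∀ i, x i ^ p = 1) (i₀ j₀ : Fin n) (e : Fin n → Fin n → ℕ)
    (he : ∀ i j, ⁅x i, x j⁆ = ⁅x i₀, x j₀⁆ ^ e i j) (hkc : ∀ i, Commute ⁅x i₀, x j₀⁆ (x i))
    (hinj : ∀ (u : Fin n → Fin p) (m : Fin p),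
      word x (fun i => (u i).val) * ⁅x i₀, x j₀⁆ ^ m.val = 1 → (∀ i, (u i).val = 0) ∧ m.val = 0)
    {ι : Type} [Fintype ι] (u v : ι → Fin n → ℕ) (mu mv : ι → ℕ)
    (hpair : ∀ r (A B : Γ), σ A = word x (u r) * ⁅x i₀, x j₀⁆ ^ mu r →
      σ B = word x (v r) * ⁅x i₀, x j₀⁆ ^ mv r → Commute A B)
    (coef : Fin n → Fin n → ι → ℕ)
    (hcert : ∀ i j, ∃ S : Fin n → Fin n → ZMod p, (∀ x y, S x y = S y x) ∧ ∀ x y,
      (if x = i ∧ y = j then (1 : ZMod p) else 0) = (if x = i₀ ∧ y = j₀ then (e i j : ZMod p) else 0) +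
        (∑ r, (coef i j r : ZMod p) * ((u r x : ZMod p) * (v r y : ZMod p))) + S x y)
    (hd : Commute d t) (hdx : ∀ i, d * x i * d⁻¹ ∈ closure (Set.range x))
    (P : Subgroup Γ) (hP : P.map σ ≤ closure (Set.range x ∪ {d})) : ⁅P, P⁆ ⊓ σ.ker = ⊥ := by
  obtain ⟨T, rfl⟩ := hσ t
  obtain ⟨D, rfl⟩ := hσ d
  choose a₁ ha₁ using fun i => hσ (x i)
  choose a ha hTa hap using fun i => exists_inverted_lift σ hz hp.out hp2 hexp (T := T) (x := a₁ i)
    (by rw [ha₁]; exact hinv i) (by rw [ha₁]; exact hxp i)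
  obtain rfl : x = fun i => σ (a i) := funext fun i => ((ha i).trans (ha₁ i)).symm
  -- commutators of the lifts are fixed by the lifts
  have hc : ∀ i j l, Commute ⁅a i, a j⁆ (a l) := by
    intro i j l
    set k := ⁅a i, a j⁆ with hkdef
    have hσk : σ k = ⁅σ (a i₀), σ (a j₀)⁆ ^ e i j := (map_commutatorElement σ _ _).trans (he i j)
    have hw : σ ⁅k, a l⁆ = 1 := by
      rw [map_commutatorElement, hσk, commutatorElement_eq_one_iff_commute]
      exact (hkc l).pow_left _
    have hwc := mem_center_iff.1 (hz hw)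
    have hkinv : σ (T * k * T⁻¹) = σ k := by
      rw [show T * k * T⁻¹ = ⁅T * a i * T⁻¹, T * a j * T⁻¹⁆ by
        simp only [hkdef, commutatorElement_def]; group, hTa, hTa, map_commutatorElement, map_inv, map_inv]
      have hc1 : ∀ q, Commute (σ k) (σ (a q)) := fun q => hσk ▸ (hkc q).pow_left _
      calc ⁅(σ (a i))⁻¹, (σ (a j))⁻¹⁆ = (σ (a j) * σ (a i))⁻¹ * ⁅σ (a i), σ (a j)⁆ * (σ (a j) * σ (a i)) := by
            simp only [commutatorElement_def]; group
        _ = σ k := by
          rw [← map_commutatorElement, mul_assoc, ((hc1 j).mul_right (hc1 i)).eq, inv_mul_cancel_left]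
    have h1 : ⁅k, (a l)⁻¹⁆ = ⁅k, a l⁆ := by
      rw [← commutatorElement_eq_of_map_eq σ hz (a := T * k * T⁻¹) (b := T * a l * T⁻¹) hkinv
        (by rw [hTa])]
      rw [show ⁅T * k * T⁻¹, T * a l * T⁻¹⁆ = T * ⁅k, a l⁆ * T⁻¹ by
        simp only [commutatorElement_def]; group, hwc T, mul_inv_cancel_right]
    have h2 : ⁅k, (a l)⁻¹⁆ = ⁅k, a l⁆⁻¹ := by
      rw [commutatorElement_inv, show ⁅k, (a l)⁻¹⁆ = (a l)⁻¹ * ⁅a l, k⁆ * a l by
        simp only [commutatorElement_def]; group, ← commutatorElement_inv k,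
        mem_center_iff.1 (inv_mem (hz hw)) (a l)⁻¹, inv_mul_cancel_right]
    refine commutatorElement_eq_one_iff_commute.1 (eq_one_of_sq hp.out hp2 ?_ (hexp _ hw))
    nth_rewrite 1 [← h1]
    rw [h2, inv_mul_cancel]
  -- all are powers of one
  have hrel : ∀ r, ⁅word a (u r), word a (v r)⁆ = 1 := fun r => by
    have hw : ∀ w : Fin n → ℕ, σ (word a w) = word (fun i => σ (a i)) w := fun w => map_word σ a w
    have hcm : ∀ (w : Fin n → ℕ) (q : ℕ), Commute (⁅a i₀, a j₀⁆ ^ q) (word a w) := fun w q =>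
      Commute.list_prod_right _ _ fun y hy => by
        obtain ⟨i, -, rfl⟩ := List.mem_map.1 hy
        exact (hc i₀ j₀ i).pow_pow q _
    have h := hpair r (word a (u r) * ⁅a i₀, a j₀⁆ ^ mu r) (word a (v r) * ⁅a i₀, a j₀⁆ ^ mv r)
      (by rw [map_mul, map_pow, map_commutatorElement, hw])
      (by rw [map_mul, map_pow, map_commutatorElement, hw])
    refine commutatorElement_eq_one_iff_commute.2 ?_
    set cu := ⁅a i₀, a j₀⁆ ^ mu r
    set cv := ⁅a i₀, a j₀⁆ ^ mv r
    have hu : Commute (word a (u r)) (word a (v r) * cv) := by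
      have h1 : Commute cu (word a (v r) * cv) :=
        (hcm _ _).mul_right (((Commute.refl _).pow_pow _ _))
      simpa using h.mul_left h1.inv_left
    have h2 : Commute (word a (u r)) (word a (v r) * cv * cv⁻¹) :=
      hu.mul_right (hcm (u r) (mv r)).symm.inv_right
    rwa [mul_inv_cancel_right] at h2
  have hk : ∀ i j, ⁅a i, a j⁆ = ⁅a i₀, a j₀⁆ ^ e i j :=
    commutator_eq_pow_of_relations hp2 a hap hc u v hrel i₀ j₀ e coef hcert
  have hkp : ⁅a i₀, a j₀⁆ ^ p = 1 :=
    pow_commutator_eq_one σ hz (hc i₀ j₀ i₀).symm (by rw [← map_pow, hap, map_one])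
  have hswap : ∀ i j, a i * a j = a j * a i * ⁅a i₀, a j₀⁆ ^ e i j := fun i j => by
    rw [← hk i j, mul_assoc, ← (hc i j i).eq, ← mul_assoc, ← (hc i j j).eq,
      commutatorElement_def]
    group
  -- the subgroup they generate avoids the kernel
  let Q : Subgroup Γ := closure (Set.range a)
  have hQ : ∀ y ∈ Q, σ y = 1 → y = 1 := by
    intro y hy hσy
    obtain ⟨w, m, rfl⟩ := exists_form a _ hswap (fun i => hc i₀ j₀ i) hap hkp hy
    rw [map_mul, map_pow, map_commutatorElement, map_word] at hσy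
    obtain ⟨h1, h2⟩ := hinj w m hσy
    rw [show (fun i => (w i).val) = fun _ => 0 from funext h1, h2, pow_zero, mul_one]
    exact List.prod_eq_one fun z hz' => by
      obtain ⟨i, -, rfl⟩ := List.mem_map.1 hz'
      exact pow_zero _
  have hTQ : ∀ y ∈ Q, T * y * T⁻¹ ∈ Q := by
    intro y hy
    have : Q ≤ Q.comap (MulAut.conj T).toMonoidHom := (closure_le _).2 (by
      rintro _ ⟨i, rfl⟩
      show T * a i * T⁻¹ ∈ Q
      rw [hTa]
      exact inv_mem (subset_closure ⟨i, rfl⟩))
    exact this hy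
  have hTD : Commute T D := by
    have hk1 : σ ⁅T, D⁆ = 1 := by
      rw [map_commutatorElement]; exact commutatorElement_eq_one_iff_commute.2 hd.symm
    refine commutatorElement_eq_one_iff_commute.1 (eq_one_of_sq hp.out hp2 ?_ (hexp _ hk1))
    have hTT := mem_center_iff.1 (hz (show T * T ∈ σ.ker by rw [MonoidHom.mem_ker, map_mul, ht2]))
    have hk' := mem_center_iff.1 (hz hk1) T⁻¹
    calc ⁅T, D⁆ * ⁅T, D⁆ = T * (T⁻¹ * ⁅T, D⁆) * ⁅T, D⁆ := by group
      _ = T * (⁅T, D⁆ * T⁻¹) * ⁅T, D⁆ := by rw [← hk']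
      _ = T * (⁅T, D⁆ * T⁻¹ * ⁅T, D⁆) := by group
      _ = T * (⁅T, D⁆ * (T⁻¹ * ⁅T, D⁆)) := by group
      _ = T * (T * D * T⁻¹ * D⁻¹ * (D * T⁻¹ * D⁻¹)) := by simp only [commutatorElement_def]; group
      _ = (T * T * D) * (T * T)⁻¹ * D⁻¹ := by group
      _ = 1 := by rw [← hTT D]; group
  have hDQ : ∀ i, D * a i * D⁻¹ ∈ Q := by
    intro i
    have h := hdx i
    rw [← map_inv, ← map_mul, ← map_mul, show Set.range (fun i => σ (a i)) = σ '' Set.range a from
      Set.range_comp σ a, ← MonoidHom.map_closure] at h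
    obtain ⟨y, hy, hyD⟩ := h
    obtain ⟨z, hzdef⟩ : ∃ z, z = y⁻¹ * (D * a i * D⁻¹) := ⟨_, rfl⟩
    have hzk : σ z = 1 := by rw [hzdef, map_mul, map_inv, hyD, inv_mul_cancel]
    have hzc := mem_center_iff.1 (hz hzk)
    have hconj : T * (D * a i * D⁻¹) * T⁻¹ = (D * a i * D⁻¹)⁻¹ := by
      calc T * (D * a i * D⁻¹) * T⁻¹ = (T * D) * a i * (T * D)⁻¹ := by group
        _ = (D * T) * a i * (D * T)⁻¹ := by rw [hTD.eq]
        _ = D * (T * a i * T⁻¹) * D⁻¹ := by group
        _ = _ := by rw [hTa]; group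
    have hyD' : D * a i * D⁻¹ = y * z := by rw [hzdef, mul_inv_cancel_left]
    have hy' : T * y * T⁻¹ = y⁻¹ := by
      refine eq_inv_of_mul_eq_one_left (hQ _ (mul_mem (hTQ y hy) hy) ?_)
      rw [map_mul, map_mul, map_mul, hyD, ← map_mul, ← map_mul, ← map_mul, hconj, inv_mul_cancel,
        map_one]
    rw [hyD'] at hconj ⊢
    have h2 : y⁻¹ * z = y⁻¹ * z⁻¹ := by
      calc y⁻¹ * z = T * y * T⁻¹ * z := by rw [hy']
        _ = T * y * (z * T⁻¹) := by rw [← hzc T⁻¹]; group
        _ = T * (y * z) * T⁻¹ := by group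
        _ = z⁻¹ * y⁻¹ := by rw [hconj, mul_inv_rev]
        _ = y⁻¹ * z⁻¹ := (mem_center_iff.1 (inv_mem (hz hzk)) _).symm
    have hz1 : z = 1 := eq_one_of_sq hp.out hp2 (by nth_rewrite 1 [mul_left_cancel h2]; group)
      (hexp z hzk)
    rw [hz1, mul_one]
    exact hy
  -- the derived group
  have hmap : P.map σ ≤ closure (σ '' (Set.range a ∪ {D})) := by
    rw [Set.image_union, Set.image_singleton, ← Set.range_comp]
    exact hP
  have hnorm : Set.range a ∪ {D} ∪ (σ.ker : Set Γ) ⊆ normalizer (Q : Set Γ) := by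
    rintro g ((⟨i, rfl⟩ | hg) | hg)
    · exact Subgroup.le_normalizer (subset_closure ⟨i, rfl⟩)
    · rw [Set.mem_singleton_iff] at hg
      subst hg
      have hle : Q.map (MulAut.conj g).toMonoidHom ≤ Q := by
        rw [map_le_iff_le_comap, closure_le]
        rintro _ ⟨i, rfl⟩
        exact hDQ i
      have heq : Q.map (MulAut.conj g).toMonoidHom = Q :=
        eq_of_le_of_card_ge hle (card_map_of_injective (MulEquiv.injective _)).ge
      refine mem_normalizer_iff.2 fun y => ⟨fun hy => hle ⟨y, hy, rfl⟩, fun hy => ?_⟩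
      have hy' : g * y * g⁻¹ ∈ Q := hy
      rw [← heq] at hy'
      obtain ⟨y', hy'', e⟩ := hy'
      have e' : g * y' * g⁻¹ = g * y * g⁻¹ := e
      rwa [← mul_left_cancel (mul_right_cancel e')]
    · refine mem_normalizer_iff.2 fun y => ?_
      rw [← mem_center_iff.1 (hz hg) y, mul_inv_cancel_right]
  have hle : ⁅P, P⁆ ≤ Q := by
    refine (Subgroup.commutator_mono (SmallSylow.le_closure_of_map_le σ P _ hmap)
      (SmallSylow.le_closure_of_map_le σ P _ hmap)).trans (SmallSylow.commutator_closure_le _ hnorm ?_)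
    intro g hg g' hg'
    have hk : ∀ w w' : Γ, w ∈ σ.ker → ⁅w, w'⁆ = 1 := fun w w' hw =>
      commutatorElement_eq_one_iff_mul_comm.2 ((mem_center_iff.1 (hz hw) w').symm)
    have hN : ∀ i, ⁅D, a i⁆ ∈ Q := fun i => by
      rw [commutatorElement_def]
      exact mul_mem (hDQ i) (inv_mem (subset_closure ⟨i, rfl⟩))
    rcases hg with (⟨i, rfl⟩ | hg) | hg
    · rcases hg' with (⟨j, rfl⟩ | hg') | hg'
      · rw [commutatorElement_def]
        exact mul_mem (mul_mem (mul_mem (subset_closure ⟨i, rfl⟩) (subset_closure ⟨j, rfl⟩))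
          (inv_mem (subset_closure ⟨i, rfl⟩))) (inv_mem (subset_closure ⟨j, rfl⟩))
      · rw [Set.mem_singleton_iff.1 hg', ← commutatorElement_inv]; exact inv_mem (hN i)
      · rw [← commutatorElement_inv, hk _ _ hg', inv_one]; exact one_mem _
    · rw [Set.mem_singleton_iff.1 hg]
      rcases hg' with (⟨j, rfl⟩ | hg') | hg'
      · exact hN j
      · rw [Set.mem_singleton_iff.1 hg', commutatorElement_self]; exact one_mem _
      · rw [← commutatorElement_inv, hk _ _ hg', inv_one]; exact one_mem _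
    · rw [hk _ _ hg]; exact one_mem _
  rw [eq_bot_iff]
  rintro y ⟨hy, hyk⟩
  exact mem_bot.2 (hQ y (hle hy) hyk)

end Local

end Cfsg.Agent.Schur.InvertedGens
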