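import Mathlib
import Cfsg.Agent.Lib.Schur.LiftComm

/-!
Lifting a group with root subgroups through a central extension.

* `IsLift`: a subgroup of the extension mapped one-to-one onto a given subgroup;
* `exists_lift`: a lift from a fixed-point-free torus element, relative to a lift of the derived part;
* `ordered`: in a chain of subgroups with the interval commutator condition, the elements of an
  interval are ordered products;
* `interval_lift`: the lifts of the members of such a chain generate a lift of the whole.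
-/

set_option autoImplicit false

namespace Cfsg.Agent.Schur.RootLift

open Subgroup
open scoped commutatorElement Pointwise

variable {E M : Type*} [Group E] [Group M]

/-- `S` is mapped one-to-one onto `X`. -/
structure IsLift (π : E →* M) (X : Subgroup M) (S : Subgroup E) : Prop where
  map_eq : S.map π = X
  disjoint : S ⊓ π.ker = ⊥

namespace IsLift

variable {π : E →* M} {X : Subgroup M} {S : Subgroup E} (h : IsLift π X S)
include h

theorem map_mem {a : E} (ha : a ∈ S) : π a ∈ X := h.map_eq ▸ mem_map_of_mem π ha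

theorem eq_one {a : E} (ha : a ∈ S) (h1 : π a = 1) : a = 1 :=
  mem_bot.1 (h.disjoint ▸ ⟨ha, h1⟩)

theorem inj {a b : E} (ha : a ∈ S) (hb : b ∈ S) (e : π a = π b) : a = b :=
  mul_inv_eq_one.1 (h.eq_one (S.mul_mem ha (S.inv_mem hb))
    (by rw [map_mul, map_inv, e, mul_inv_cancel]))

theorem exists_mem {x : M} (hx : x ∈ X) : ∃ a ∈ S, π a = x := by
  rw [← h.map_eq] at hx; exact hx

end IsLift

theorem isLift_bot {π : E →* M} : IsLift π (⊥ : Subgroup M) ⊥ :=
  ⟨Subgroup.map_bot π, bot_inf_eq _⟩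

section Compl

variable (π : E →* M) (hz : π.ker ≤ center E)

/-- The preimages of commutators with a fixed-point-free element give a lift. -/
theorem exists_lift {X C : Subgroup M} {T : Subgroup E} {h : E} [Finite X]
    (hz : π.ker ≤ center E) (hX : X ≤ π.range) (hCX : C ≤ X) (hT : IsLift π C T)
    (hcomm : ∀ a b, π a ∈ X → π b ∈ X → ⁅a, b⁆ ∈ T)
    (hhX : ∀ x ∈ X, π h * x * (π h)⁻¹ ∈ X)
    (hhT : ∀ t ∈ T, h * t * h⁻¹ ∈ T)
    (hfpf : ∀ x ∈ X, ⁅π h, x⁆ ∈ C → x ∈ C) :
    ∃ S : Subgroup E, IsLift π X S ∧ T ≤ S ∧ (∀ g : E, (∀ x ∈ X, π g * x * (π g)⁻¹ ∈ X) →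
      (∀ t ∈ T, g * t * g⁻¹ ∈ T) → π g * π h = π h * π g → ∀ s ∈ S, g * s * g⁻¹ ∈ S) := by
  have hTX : ∀ t ∈ T, π t ∈ X := fun t ht => hCX (hT.map_mem ht)
  have hnorm : ∀ a t, π a ∈ X → t ∈ T → a * t * a⁻¹ ∈ T := fun a t ha ht => by
    have := T.mul_mem (hcomm a t ha (hTX t ht)) ht
    simpa [commutatorElement_def] using this
  have hπh : ∀ a, π a ∈ X → π ⁅h, a⁆ ∈ X := fun a ha => by
    rw [map_commutatorElement, commutatorElement_def]
    exact X.mul_mem (hhX _ ha) (X.inv_mem ha)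
  -- the product rule
  have hprod : ∀ a b, π a ∈ X → π b ∈ X → ∃ t ∈ T, ⁅h, a⁆ * ⁅h, b⁆ = t * ⁅h, a * b⁆ := by
    intro a b ha hb
    refine ⟨⁅h, a⁆ * ⁅a, ⁅h, b⁆⁆⁻¹ * ⁅h, a⁆⁻¹, ?_, ?_⟩
    · exact hnorm _ _ (hπh a ha) (T.inv_mem (hcomm a _ ha (hπh b hb)))
    · simp only [commutatorElement_def]; group
  have hinv : ∀ a, π a ∈ X → ∃ t ∈ T, ⁅h, a⁆⁻¹ = t * ⁅h, a⁻¹⁆ := by
    intro a ha
    obtain ⟨t, ht, e⟩ := hprod a⁻¹ a (by rw [map_inv]; exact X.inv_mem ha) ha
    rw [inv_mul_cancel, commutatorElement_one_right, mul_one] at e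
    exact ⟨t⁻¹, T.inv_mem ht, by rw [← e]; group⟩
  let S : Subgroup E :=
    { carrier := {z | ∃ t ∈ T, ∃ a, π a ∈ X ∧ z = t * ⁅h, a⁆}
      one_mem' := ⟨1, T.one_mem, 1, by rw [map_one]; exact X.one_mem,
        by rw [commutatorElement_one_right, mul_one]⟩
      mul_mem' := by
        rintro _ _ ⟨t, ht, a, ha, rfl⟩ ⟨t', ht', b, hb, rfl⟩
        obtain ⟨u, hu, e⟩ := hprod a b ha hb
        refine ⟨t * (⁅h, a⁆ * t' * ⁅h, a⁆⁻¹) * u,
          T.mul_mem (T.mul_mem ht (hnorm _ _ (hπh a ha) ht')) hu, a * b,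
          by rw [map_mul]; exact X.mul_mem ha hb, ?_⟩
        calc t * ⁅h, a⁆ * (t' * ⁅h, b⁆)
            = t * (⁅h, a⁆ * t' * ⁅h, a⁆⁻¹) * (⁅h, a⁆ * ⁅h, b⁆) := by group
          _ = _ := by rw [e]; group
      inv_mem' := by
        rintro _ ⟨t, ht, a, ha, rfl⟩
        obtain ⟨u, hu, e⟩ := hinv a ha
        have ha' : π a⁻¹ ∈ X := by rw [map_inv]; exact X.inv_mem ha
        refine ⟨u * (⁅h, a⁻¹⁆ * t⁻¹ * ⁅h, a⁻¹⁆⁻¹),
          T.mul_mem hu (hnorm _ _ (hπh _ ha') (T.inv_mem ht)), a⁻¹, ha', ?_⟩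
        rw [mul_inv_rev, e]; group }
  have hTS : T ≤ S := fun t ht => ⟨t, ht, 1, by rw [map_one]; exact X.one_mem,
    by rw [commutatorElement_one_right, mul_one]⟩
  refine ⟨S, ⟨?_, ?_⟩, hTS, ?_⟩
  · refine le_antisymm ?_ ?_
    · rintro _ ⟨z, ⟨t, ht, a, ha, rfl⟩, rfl⟩
      rw [map_mul]
      exact X.mul_mem (hTX t ht) (hπh a ha)
    · -- the map induced on the cosets of `C` is injective, hence surjective
      intro x hx
      let C' : Subgroup X := C.subgroupOf X
      have hCn : ∀ y ∈ X, ∀ c ∈ C, y * c * y⁻¹ ∈ C := by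
        intro y hy c hc
        obtain ⟨a, rfl⟩ := hX hy
        obtain ⟨t, ht, rfl⟩ := hT.exists_mem hc
        have := hT.map_mem (hnorm a t hy ht)
        simpa using this
      haveI : C'.Normal := ⟨fun c hc y => hCn y y.2 c hc⟩
      let f₀ : X → X ⧸ C' := fun y =>
        QuotientGroup.mk ⟨⁅π h, (y : M)⁆, by
          rw [commutatorElement_def]; exact X.mul_mem (hhX _ y.2) (X.inv_mem y.2)⟩
      let f : X →* X ⧸ C' := MonoidHom.mk' f₀ fun y y' => by
        refine (QuotientGroup.eq (s := C')).2 ?_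
        obtain ⟨a, ha⟩ := hX y.2
        obtain ⟨b, hb⟩ := hX y'.2
        have ha' : π a ∈ X := ha ▸ y.2
        have hb' : π b ∈ X := hb ▸ y'.2
        obtain ⟨t, ht, e⟩ := hprod a b ha' hb'
        show _ ∈ C
        have he := congrArg π e
        simp only [map_mul, map_commutatorElement, ha, hb] at he
        have hc : π t ∈ C := hT.map_mem ht
        show (⁅π h, (y : M) * y'⁆)⁻¹ * (⁅π h, (y : M)⁆ * ⁅π h, (y' : M)⁆) ∈ C
        rw [he]
        have hm : ⁅π h, (y : M) * y'⁆ ∈ X := by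
          rw [commutatorElement_def]
          exact X.mul_mem (hhX _ (X.mul_mem y.2 y'.2)) (X.inv_mem (X.mul_mem y.2 y'.2))
        have := hCn _ (X.inv_mem hm) _ hc
        simpa [mul_assoc] using this
      have hker : f.ker = C' := by
        ext y
        rw [MonoidHom.mem_ker]
        constructor
        · intro e
          have : ⁅π h, (y : M)⁆ ∈ C := (QuotientGroup.eq_one_iff (N := C') _).1 e
          exact hfpf y y.2 this
        · intro hy
          refine (QuotientGroup.eq_one_iff (N := C') _).2 ?_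
          show ⁅π h, (y : M)⁆ ∈ C
          obtain ⟨t, ht, e⟩ := hT.exists_mem (show (y : M) ∈ C from hy)
          rw [← e, ← map_commutatorElement]
          refine hT.map_mem ?_
          rw [commutatorElement_def]
          exact T.mul_mem (hhT t ht) (T.inv_mem ht)
      have hsurj : Function.Surjective f := by
        have hcard : Nat.card f.range = Nat.card (X ⧸ C') := by
          rw [← Subgroup.index_ker, hker]
          rfl
        exact MonoidHom.range_eq_top.1 (Subgroup.eq_top_of_card_eq _ hcard)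
      obtain ⟨y, hy⟩ := hsurj (QuotientGroup.mk ⟨x, hx⟩)
      obtain ⟨a, ha⟩ := hX y.2
      have hc : (⁅π h, (y : M)⁆)⁻¹ * x ∈ C := (QuotientGroup.eq (s := C')).1 hy
      obtain ⟨t, ht, e⟩ := hT.exists_mem hc
      refine ⟨⁅h, a⁆ * t, S.mul_mem ⟨1, T.one_mem, a, ha ▸ y.2, (one_mul _).symm⟩ (hTS ht), ?_⟩
      rw [map_mul, map_commutatorElement, ha, e]
      group
  · rw [eq_bot_iff]
    rintro _ ⟨⟨t, ht, a, ha, rfl⟩, hk⟩
    have hk' : π (t * ⁅h, a⁆) = 1 := hk
    rw [map_mul, map_commutatorElement, mul_eq_one_iff_eq_inv] at hk'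
    have hac : π a ∈ C := by
      refine hfpf _ ha ?_
      rw [← inv_inv ⁅π h, π a⁆, ← hk']
      exact C.inv_mem (hT.map_mem ht)
    obtain ⟨t₀, ht₀, e⟩ := hT.exists_mem hac
    have e2 : ⁅h, a⁆ = ⁅h, t₀⁆ := commutatorElement_congr hz rfl e.symm
    have hmem : t * ⁅h, a⁆ ∈ T := by
      rw [e2, commutatorElement_def]
      exact T.mul_mem ht (T.mul_mem (hhT t₀ ht₀) (T.inv_mem ht₀))
    exact mem_bot.2 (hT.eq_one hmem hk)
  · rintro g hgX hgT hgh _ ⟨t, ht, a, ha, rfl⟩
    refine ⟨g * t * g⁻¹, hgT t ht, g * a * g⁻¹, by rw [map_mul, map_mul, map_inv]; exact hgX _ ha, ?_⟩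
    have e : ⁅g * h * g⁻¹, g * a * g⁻¹⁆ = ⁅h, g * a * g⁻¹⁆ :=
      commutatorElement_congr hz (by rw [map_mul, map_mul, map_inv, hgh, mul_inv_cancel_right]) rfl
    rw [← e]
    simp only [commutatorElement_def]; group

end Compl

section Chain

variable (X : ℕ → Subgroup M)

/-- The subgroup generated by an interval of the chain. -/
def V (a b : ℕ) : Subgroup M := ⨆ (c : ℕ) (_ : a ≤ c ∧ c < b), X c

theorem le_V {a b c : ℕ} (h1 : a ≤ c) (h2 : c < b) : X c ≤ V X a b :=
  le_iSup₂ (f := fun c (_ : a ≤ c ∧ c < b) => X c) c ⟨h1, h2⟩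

theorem V_mono {a b a' b' : ℕ} (h1 : a' ≤ a) (h2 : b ≤ b') : V X a b ≤ V X a' b' :=
  iSup₂_le fun _ hc => le_V X (h1.trans hc.1) (hc.2.trans_le h2)

theorem V_empty {a b : ℕ} (h : b ≤ a) : V X a b = ⊥ :=
  eq_bot_iff.2 (iSup₂_le fun c hc => absurd hc.2 (by omega))

theorem V_split {a b : ℕ} (h : a < b) : V X a b = X a ⊔ V X (a + 1) b := by
  refine le_antisymm (iSup₂_le fun c hc => ?_) (sup_le (le_V X le_rfl h) (V_mono X (by omega) le_rfl))
  rcases eq_or_lt_of_le hc.1 with rfl | h'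
  · exact le_sup_left
  · exact le_sup_of_le_right (le_V X h' hc.2)

/-- The first member normalises the rest of an interval. -/
theorem le_normalizer {a b : ℕ}
    (hcomm : ∀ c, a < c → c < b → ∀ x ∈ X a, ∀ y ∈ X c, ⁅x, y⁆ ∈ V X (a + 1) c) :
    X a ≤ Subgroup.normalizer (V X (a + 1) b : Set M) := by
  have key : ∀ x ∈ X a, ∀ v ∈ V X (a + 1) b, x * v * x⁻¹ ∈ V X (a + 1) b := fun x hx v hv =>
    (show V X (a + 1) b ≤ (V X (a + 1) b).comap (MulAut.conj x).toMonoidHom from
      iSup₂_le fun c hc y hy => by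
        have h1 := V_mono X le_rfl hc.2.le (hcomm c hc.1 hc.2 x hx y hy)
        have := (V X (a + 1) b).mul_mem h1 (le_V X hc.1 hc.2 hy)
        simpa [commutatorElement_def] using this) hv
  intro x hx
  refine Subgroup.mem_normalizer_iff.2 fun v => ⟨key x hx v, fun hv => ?_⟩
  have := key x⁻¹ ((X a).inv_mem hx) _ hv
  simpa [mul_assoc] using this

/-- The last member normalises the rest of an interval. -/
theorem conj_last {a b : ℕ}
    (hcomm : ∀ c, a ≤ c → c < b → ∀ x ∈ X c, ∀ y ∈ X b, ⁅x, y⁆ ∈ V X (c + 1) b) :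
    ∀ y ∈ X b, ∀ v ∈ V X a b, y * v * y⁻¹ ∈ V X a b := fun y hy v hv =>
  (show V X a b ≤ (V X a b).comap (MulAut.conj y).toMonoidHom from
    iSup₂_le fun c hc x hx => by
      have h1 := V_mono X (show a ≤ c + 1 by omega) le_rfl (hcomm c hc.1 hc.2 x hx y hy)
      have := (V X a b).mul_mem ((V X a b).inv_mem h1) (le_V X hc.1 hc.2 hx)
      simpa [commutatorElement_def, mul_assoc] using this) hv

/-- The elements of an interval are ordered products. -/
theorem ordered {a b : ℕ} (hab : a < b)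
    (hcomm : ∀ c, a < c → c < b → ∀ x ∈ X a, ∀ y ∈ X c, ⁅x, y⁆ ∈ V X (a + 1) c) {v : M}
    (hv : v ∈ V X a b) : ∃ x ∈ X a, ∃ w ∈ V X (a + 1) b, v = x * w := by
  rw [V_split X hab, ← SetLike.mem_coe,
    Subgroup.coe_mul_of_left_le_normalizer_right _ _ (le_normalizer X hcomm), Set.mem_mul] at hv
  obtain ⟨x, hx, w, hw, e⟩ := hv
  exact ⟨x, hx, w, hw, e.symm⟩

end Chain

section Interval

variable {π : E →* M}

/-- The lifts of a chain generate a lift: the commutators of the lifts lie in the lifted intervals. -/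
theorem interval_lift (hz : π.ker ≤ center E) (X : ℕ → Subgroup M) (S : ℕ → Subgroup E) (Hh : Set E)
    {n : ℕ} (hS : ∀ a < n, IsLift π (X a) (S a))
    (hHh : ∀ h ∈ Hh, ∀ a < n, ∀ s ∈ S a, h * s * h⁻¹ ∈ S a)
    (hcomm : ∀ a b, a < b → b < n → ∀ x ∈ X a, ∀ y ∈ X b, ⁅x, y⁆ ∈ V X (a + 1) b)
    (hdir : ∀ a b, a < b → b ≤ n → X a ⊓ V X (a + 1) b = ⊥)
    (hkill : ∀ a b, a < b → b < n → ∃ h ∈ Hh, (∀ x ∈ X a, π h * x * (π h)⁻¹ = x) ∧
      ∀ y ∈ X b, ∃ y' ∈ X b, ∃ c ∈ ⁅X b, X b⁆, y = c * ⁅π h, y'⁆) :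
    IsLift π (V X 0 n) (V S 0 n) := by
  have hmap : ∀ a b, b ≤ n → (V S a b).map π = V X a b := by
    intro a b hb
    simp only [V, Subgroup.map_iSup]
    exact iSup_congr fun c => iSup_congr fun hc => (hS c (by omega)).map_eq
  suffices h : ∀ d a b, b ≤ n → b - a ≤ d → V S a b ⊓ π.ker = ⊥ ∧
      ∀ c, a < c → c < b → ∀ x ∈ S a, ∀ y ∈ S c, ⁅x, y⁆ ∈ V S (a + 1) c from
    ⟨hmap 0 n le_rfl, (h n 0 n le_rfl (by omega)).1⟩
  intro d
  induction d with
  | zero =>
    intro a b _ hd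
    exact ⟨by rw [V_empty S (by omega), bot_inf_eq], fun c h1 h2 => absurd h2 (by omega)⟩
  | succ d ih =>
    intro a b hb hd
    by_cases hab : b ≤ a
    · exact ⟨by rw [V_empty S hab, bot_inf_eq], fun c h1 h2 => absurd h2 (by omega)⟩
    have hrel : ∀ c, a < c → c < b → ∀ x ∈ S a, ∀ y ∈ S c, ⁅x, y⁆ ∈ V S (a + 1) c := by
      intro c hac hcb
      by_cases hshort : c + 1 - a ≤ d
      · exact (ih a (c + 1) (by omega) hshort).2 c hac (by omega)
      have hW : IsLift π (V X (a + 1) c) (V S (a + 1) c) :=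
        ⟨hmap _ _ (by omega), (ih (a + 1) c (by omega) (by omega)).1⟩
      set W := V S (a + 1) c with hWdef
      have hnA : ∀ x ∈ S a, ∀ w ∈ W, x * w * x⁻¹ ∈ W := fun x hx w hw =>
        (Subgroup.mem_normalizer_iff.1 (le_normalizer S (b := c)
          (fun e h1 h2 => (ih a (e + 1) (by omega) (by omega)).2 e h1 (by omega)) hx) w).1 hw
      have hnC : ∀ y ∈ S c, ∀ w ∈ W, y * w * y⁻¹ ∈ W := conj_last S (a := a + 1) (b := c)
        (fun e h1 h2 => (ih e (c + 1) (by omega) (by omega)).2 c h2 (by omega))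
      -- the error
      have hex : ∀ x ∈ S a, ∀ y ∈ S c, ∃ k ∈ π.ker, ∃ w ∈ W, ⁅x, y⁆ = k * w := by
        intro x hx y hy
        obtain ⟨w, hw, e⟩ := hW.exists_mem (hcomm a c hac (by omega) _ ((hS a (by omega)).map_mem hx)
          _ ((hS c (by omega)).map_mem hy))
        exact ⟨⁅x, y⁆ * w⁻¹, by rw [MonoidHom.mem_ker, map_mul, map_commutatorElement, map_inv, e,
          mul_inv_cancel], w, hw, by group⟩
      choose! k hk w hw hkw using hex
      have uniq : ∀ x ∈ S a, ∀ y ∈ S c, ∀ k' ∈ π.ker, ∀ w' ∈ W, ⁅x, y⁆ = k' * w' → k x y = k' := by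
        intro x hx y hy k' hk' w' hw' e
        have h1 := (hkw x hx y hy).symm.trans e
        have h2 : w x y = w' := hW.inj (hw x hx y hy) hw' (by
          have := congrArg π h1
          rwa [map_mul, map_mul, MonoidHom.mem_ker.1 (hk x hx y hy), MonoidHom.mem_ker.1 hk',
            one_mul, one_mul] at this)
        rw [h2] at h1
        exact mul_right_cancel h1
      have cen : ∀ {z}, z ∈ π.ker → ∀ g, g * z = z * g := fun h g => mem_center_iff.1 (hz h) g
      have addr : ∀ x ∈ S a, ∀ y ∈ S c, ∀ y' ∈ S c, k x (y * y') = k x y * k x y' := by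
        intro x hx y hy y' hy'
        refine uniq x hx _ ((S c).mul_mem hy hy') _ (mul_mem (hk x hx y hy) (hk x hx y' hy'))
          (w x y * (y * w x y' * y⁻¹)) (mul_mem (hw x hx y hy) (hnC y hy _ (hw x hx y' hy'))) ?_
        calc ⁅x, y * y'⁆ = ⁅x, y⁆ * y * ⁅x, y'⁆ * y⁻¹ := by simp only [commutatorElement_def]; group
          _ = k x y * w x y * y * (k x y' * w x y') * y⁻¹ := by rw [hkw x hx y hy, hkw x hx y' hy']
          _ = k x y * ((w x y * y) * k x y') * (w x y' * y⁻¹) := by group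
          _ = k x y * (k x y' * (w x y * y)) * (w x y' * y⁻¹) := by rw [cen (hk x hx y' hy')]
          _ = _ := by group
      have hinv : ∀ h ∈ Hh, ∀ x ∈ S a, ∀ y ∈ S c,
          k (h * x * h⁻¹) (h * y * h⁻¹) = k x y := by
        intro h hh x hx y hy
        refine uniq _ (hHh h hh a (by omega) x hx) _ (hHh h hh c (by omega) y hy) _ (hk x hx y hy)
          (h * w x y * h⁻¹) ?_ ?_
        · exact (show W ≤ W.comap (MulAut.conj h).toMonoidHom from iSup₂_le fun e he s hs =>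
            le_V S he.1 he.2 (hHh h hh e (by omega) s hs)) (hw x hx y hy)
        · calc ⁅h * x * h⁻¹, h * y * h⁻¹⁆ = h * ⁅x, y⁆ * h⁻¹ := by
                simp only [commutatorElement_def]; group
            _ = (h * k x y) * (w x y * h⁻¹) := by rw [hkw x hx y hy]; group
            _ = _ := by rw [cen (hk x hx y hy)]; group
      have zero : ∀ x ∈ S a, ∀ y ∈ S c, k x y = 1 := by
        intro x hx
        let φ : S c →* E := MonoidHom.mk' (fun y => k x y) fun y y' => addr x hx _ y.2 _ y'.2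
        have hφc : ∀ y : S c, (y : E) ∈ ⁅S c, S c⁆ → φ y = 1 := by
          intro y hy
          have hker : ⁅S c, S c⁆ ≤ φ.ker.map (S c).subtype := by
            rw [Subgroup.commutator_le]
            intro u hu v hv
            refine ⟨⁅(⟨u, hu⟩ : S c), ⟨v, hv⟩⁆, ?_, rfl⟩
            show φ _ = 1
            rw [map_commutatorElement, commutatorElement_eq_one_iff_commute]
            exact cen (hk x hx _ hv) _
          obtain ⟨y', hy', e⟩ := hker hy
          rw [show y = y' from Subtype.ext e.symm]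
          exact hy'
        obtain ⟨h, hh, hfix, hsur⟩ := hkill a c hac (by omega)
        intro y hy
        obtain ⟨y₁, hy₁, c₁, hc₁, e⟩ := hsur _ ((hS c (by omega)).map_mem hy)
        obtain ⟨s₁, hs₁, e₁⟩ := (hS c (by omega)).exists_mem hy₁
        rw [← (hS c (by omega)).map_eq, ← Subgroup.map_commutator] at hc₁
        obtain ⟨c₂, hc₂, e₂⟩ := hc₁
        have hc₂' : c₂ ∈ S c := Subgroup.commutator_le_self _ hc₂
        have hhs₁ := hHh h hh c (by omega) s₁ hs₁
        have ey : (⟨y, hy⟩ : S c) = ⟨c₂, hc₂'⟩ * (⟨h * s₁ * h⁻¹, hhs₁⟩ * ⟨s₁, hs₁⟩⁻¹) := by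
          refine Subtype.ext ((hS c (by omega)).inj hy
            ((S c).mul_mem hc₂' ((S c).mul_mem hhs₁ ((S c).inv_mem hs₁))) ?_)
          push_cast
          rw [e, map_mul, map_mul, map_mul, map_mul, map_inv, map_inv, e₁, e₂, commutatorElement_def]
        show φ ⟨y, hy⟩ = 1
        rw [ey, map_mul, map_mul, map_inv, hφc _ hc₂, one_mul, mul_inv_eq_one]
        show k x (h * s₁ * h⁻¹) = k x s₁
        have hx' : h * x * h⁻¹ = x := by
          refine (hS a (by omega)).inj (hHh h hh a (by omega) x hx) hx ?_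
          rw [map_mul, map_mul, map_inv]
          exact hfix _ ((hS a (by omega)).map_mem hx)
        conv_rhs => rw [← hinv h hh x hx s₁ hs₁, hx']
      intro x hx y hy
      rw [hkw x hx y hy, zero x hx y hy, one_mul]
      exact hw x hx y hy
    refine ⟨?_, hrel⟩
    rw [eq_bot_iff]
    rintro z ⟨hz1, hz2⟩
    obtain ⟨x, hx, t, ht, rfl⟩ := ordered S (by omega) hrel hz1
    have hz2' : π (x * t) = 1 := hz2
    rw [map_mul, mul_eq_one_iff_eq_inv] at hz2'
    have hT : V S (a + 1) b ⊓ π.ker = ⊥ := (ih (a + 1) b hb (by omega)).1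
    have hmemV : π t ∈ V X (a + 1) b := hmap (a + 1) b hb ▸ mem_map_of_mem π ht
    have h1 : π x ∈ X a ⊓ V X (a + 1) b :=
      ⟨(hS a (by omega)).map_mem hx, hz2' ▸ (V X (a + 1) b).inv_mem hmemV⟩
    rw [hdir a b (by omega) hb, mem_bot] at h1
    have hx1 := (hS a (by omega)).eq_one hx h1
    subst hx1
    refine mem_bot.2 ?_
    rw [one_mul] at hz2 ⊢
    exact mem_bot.1 (hT ▸ ⟨ht, hz2⟩)

end Interval

end Cfsg.Agent.Schur.RootLift
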