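import Cfsg.Agent.Lib.Schur.Stem
import Cfsg.Agent.Lib.Schur.SmallSylow
import Mathlib.Data.ZMod.Basic
import Mathlib.Data.Matrix.Mul
import Mathlib.GroupTheory.NoncommPiCoprod
import Mathlib.Algebra.Group.TypeTags.Basic

/-!
Central extensions over an elementary abelian subgroup `N` (given by coordinates `π`) with matrices
of normalising elements.

* `Param.commute_lifts`: if matrices of normalisers satisfy polynomials whose reversals generate
  everything, the preimage of `N` is abelian.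
* `Param.Fpf`: if moreover some element `u` moves every vector, `B = ⁅u, preimage⁆` is a lift of `N`
  meeting the kernel trivially, invariant under whatever commutes with `u` modulo `N`.
* `ker_le_of_local`: the kernel of a stem extension lies in `D` if it does so locally at every prime.
-/

set_option autoImplicit false

namespace Cfsg.Agent.Schur

open Subgroup
open scoped commutatorElement IsMulCommutative

universe u v

/-- The kernel of a stem extension is inside `D` when for each prime some subgroup of index prime to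
it has derived group meeting the kernel inside `D`. -/
theorem ker_le_of_local {Γ : Type u} {G : Type v} [Group Γ] [Group G] [Finite Γ] (σ : Γ →* G)
    (hσ : Cfsg.IsStemExtension σ) (D : Subgroup Γ)
    (h : ∀ p : ℕ, p.Prime → p ∣ Nat.card σ.ker →
      ∃ H : Subgroup Γ, ¬ p ∣ H.index ∧ ⁅H, H⁆ ⊓ σ.ker ≤ D) :
    σ.ker ≤ D := by
  intro x hx
  classical
  have hex : ∃ k : ℕ, 0 < k ∧ x ^ k ∈ D :=
    ⟨orderOf x, orderOf_pos x, by rw [pow_orderOf_eq_one]; exact one_mem D⟩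
  obtain ⟨m, ⟨hm, hmem⟩, hmin⟩ : ∃ m, (0 < m ∧ x ^ m ∈ D) ∧
      ∀ j < m, ¬ (0 < j ∧ x ^ j ∈ D) :=
    ⟨Nat.find hex, Nat.find_spec hex, fun j hj => Nat.find_min hex hj⟩
  have hdvd : ∀ k : ℕ, x ^ k ∈ D → m ∣ k := by
    intro k hk
    have h1 : x ^ (k % m) ∈ D := by
      have e : x ^ (k % m) = x ^ k * ((x ^ m) ^ (k / m))⁻¹ := by
        rw [eq_mul_inv_iff_mul_eq, ← pow_mul, ← pow_add, Nat.mod_add_div]
      rw [e]
      exact mul_mem hk (inv_mem (pow_mem hmem _))
    by_contra hne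
    have h2 : 0 < k % m := Nat.pos_of_ne_zero fun e => hne (Nat.dvd_of_mod_eq_zero e)
    exact hmin _ (Nat.mod_lt _ hm) ⟨h2, h1⟩
  by_cases h1 : m = 1
  · rwa [h1, pow_one] at hmem
  obtain ⟨p, hp, hpm⟩ := Nat.exists_prime_and_dvd h1
  have hpk : p ∣ Nat.card σ.ker := by
    have h2 : orderOf (⟨x, hx⟩ : σ.ker) ∣ Nat.card σ.ker := orderOf_dvd_natCard _
    rw [Subgroup.orderOf_mk] at h2
    exact hpm.trans ((hdvd _ (by rw [pow_orderOf_eq_one]; exact one_mem D)).trans h2)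
  obtain ⟨H, hH, hHD⟩ := h p hp hpk
  have h3 : x ^ H.index ∈ D :=
    hHD ⟨pow_index_mem_commutator H (hσ.2.1 hx) (hσ.2.2 hx), pow_mem hx _⟩
  exact absurd (hpm.trans (hdvd _ h3)) hH

variable {G : Type v} [Group G]

/-- Coordinates on an elementary abelian subgroup. -/
structure Param (G : Type v) [Group G] (p r : ℕ) where
  /-- The element with given coordinates. -/
  π : (Fin r → ZMod p) → G
  map_add : ∀ x y, π (x + y) = π x * π y
  inj : ∀ x, π x = 1 → x = 0

namespace Param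

variable {p r : ℕ} (N : Param G p r)

theorem pi_zero : N.π 0 = 1 := by
  have h := N.map_add 0 0
  rw [add_zero] at h
  exact left_eq_mul.1 h

theorem pi_nsmul (n : ℕ) (x : Fin r → ZMod p) : N.π (n • x) = N.π x ^ n := by
  induction n with
  | zero => rw [zero_nsmul, pow_zero, N.pi_zero]
  | succ n ih => rw [succ_nsmul, N.map_add, ih, pow_succ]

theorem pi_neg (x : Fin r → ZMod p) : N.π (-x) = (N.π x)⁻¹ :=
  eq_inv_of_mul_eq_one_left (by rw [← N.map_add, neg_add_cancel, N.pi_zero])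

theorem pi_comm (x y : Fin r → ZMod p) : N.π x * N.π y = N.π y * N.π x := by
  rw [← N.map_add, ← N.map_add, add_comm]

theorem injective : Function.Injective N.π := fun x y h => by
  have : N.π (x + -y) = 1 := by rw [N.map_add, N.pi_neg, h, mul_inv_cancel]
  exact eq_of_sub_eq_zero (by rw [sub_eq_add_neg]; exact N.inj _ this)

/-- The subgroup. -/
def grp : Subgroup G where
  carrier := Set.range N.π
  one_mem' := ⟨0, N.pi_zero⟩
  mul_mem' := by rintro _ _ ⟨x, rfl⟩ ⟨y, rfl⟩; exact ⟨x + y, N.map_add x y⟩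
  inv_mem' := by rintro _ ⟨x, rfl⟩; exact ⟨-x, N.pi_neg x⟩

theorem mem_grp {g : G} : g ∈ N.grp ↔ ∃ x, N.π x = g := Iff.rfl

theorem card_grp : Nat.card N.grp = p ^ r := by
  rw [show Nat.card N.grp = Nat.card (Set.range N.π) from rfl,
    Nat.card_range_of_injective N.injective, Nat.card_fun, Nat.card_fin, Nat.card_zmod]

/-- `g` acts by the matrix `M`. -/
def Acts (g : G) (M : Matrix (Fin r) (Fin r) (ZMod p)) : Prop :=
  ∀ x, g * N.π x = N.π (M.mulVec x) * g

variable [NeZero p]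

theorem eq_sum_single (x : Fin r → ZMod p) :
    x = ∑ i, (x i).val • (Pi.single i 1 : Fin r → ZMod p) := by
  funext j
  rw [Finset.sum_apply, Finset.sum_eq_single j]
  · rw [Pi.smul_apply, Pi.single_eq_same, nsmul_eq_mul, mul_one, ZMod.natCast_zmod_val]
  · intro i _ hi
    rw [Pi.smul_apply, Pi.single_eq_of_ne (Ne.symm hi), smul_zero]
  · simp

theorem acts_of_basis {g : G} {M : Matrix (Fin r) (Fin r) (ZMod p)}
    (h : ∀ i, g * N.π (Pi.single i 1) = N.π (M.col i) * g) : N.Acts g M := by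
  let S : AddSubmonoid (Fin r → ZMod p) :=
    { carrier := {x | g * N.π x = N.π (M.mulVec x) * g}
      zero_mem' := by simp [N.pi_zero]
      add_mem' := fun {x y} hx hy => by
        simp only [Set.mem_setOf_eq] at hx hy ⊢
        rw [N.map_add, ← mul_assoc, hx, mul_assoc, hy, ← mul_assoc, Matrix.mulVec_add, N.map_add] }
  intro x
  have : ∑ i, (x i).val • (Pi.single i 1 : Fin r → ZMod p) ∈ S := by
    refine sum_mem fun i _ => nsmul_mem ?_ _
    show g * N.π _ = _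
    rw [Matrix.mulVec_single_one]
    exact h i
  rwa [← eq_sum_single x] at this

theorem Acts.mul {g h : G} {M M' : Matrix (Fin r) (Fin r) (ZMod p)} (hg : N.Acts g M)
    (hh : N.Acts h M') : N.Acts (g * h) (M * M') := fun x => by
  rw [mul_assoc, hh x, ← mul_assoc, hg, mul_assoc, Matrix.mulVec_mulVec]

theorem Acts.mem_normalizer {g : G} {M : Matrix (Fin r) (Fin r) (ZMod p)} [Finite G]
    (hg : N.Acts g M) : g ∈ normalizer (N.grp : Set G) := by
  have hmap : ∀ n ∈ N.grp, g * n * g⁻¹ ∈ N.grp := by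
    rintro _ ⟨x, rfl⟩
    exact ⟨M.mulVec x, by rw [hg x, mul_inv_cancel_right]⟩
  rw [mem_normalizer_iff]
  refine fun n => ⟨hmap n, fun hn => ?_⟩
  let f : N.grp → N.grp := fun m => ⟨g * m * g⁻¹, hmap _ m.2⟩
  have hf : Function.Injective f := fun m m' e => Subtype.ext
    (mul_left_cancel (mul_right_cancel (congrArg Subtype.val e :
      g * (m : G) * g⁻¹ = g * (m' : G) * g⁻¹)))
  obtain ⟨m, hm⟩ := Finite.surjective_of_injective hf ⟨_, hn⟩
  have e : g * (m : G) * g⁻¹ = g * n * g⁻¹ := congrArg Subtype.val hm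
  rw [← mul_left_cancel (mul_right_cancel e)]
  exact m.2

end Param

/-- A matrix from a table. -/
def tblMat (p r : ℕ) (l : List (List ℕ)) : Matrix (Fin r) (Fin r) (ZMod p) :=
  Matrix.of fun i j => ((((l.getD i.val []).getD j.val 0 : ℕ)) : ZMod p)

/-- A certificate: powers `P i = M ^ i`, coefficients `f` annihilating `M`, the reversed combination
`S`, and a right multiplier `X`. -/
structure PolyCert (p r : ℕ) where
  /-- The matrix. -/
  M : Matrix (Fin r) (Fin r) (ZMod p)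
  /-- Its degree. -/
  d : ℕ
  /-- The powers. -/
  P : ℕ → Matrix (Fin r) (Fin r) (ZMod p)
  /-- The coefficients. -/
  f : ℕ → ℕ
  /-- The reversed combination. -/
  S : Matrix (Fin r) (Fin r) (ZMod p)
  /-- The multiplier. -/
  X : Matrix (Fin r) (Fin r) (ZMod p)

/-- Validity, entrywise. -/
def PolyCert.OK {p r : ℕ} (C : PolyCert p r) : Prop :=
  C.P 0 = 1 ∧ (∀ i : Fin C.d, C.P (i.val + 1) = C.M * C.P i.val) ∧
    (∀ a b, ∑ i : Fin (C.d + 1), (C.f i.val : ZMod p) * C.P i.val a b = 0) ∧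
    ∀ a b, C.S a b = ∑ i : Fin (C.d + 1), (C.f i.val : ZMod p) * C.P (C.d - i.val) a b

variable {Γ : Type u} [Group Γ]

/-- Commutators of lifts, additively, with values in the centre. -/
noncomputable def Param.liftOf {p r : ℕ} (N : Param G p r) {σ : Γ →* G}
    (hσ : Function.Surjective σ) (x : Fin r → ZMod p) : Γ :=
  Function.surjInv hσ (N.π x)

namespace Param

variable {p r : ℕ} (N : Param G p r) {σ : Γ →* G}

theorem map_liftOf (hσ : Function.Surjective σ) (x : Fin r → ZMod p) :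
    σ (N.liftOf hσ x) = N.π x := Function.surjInv_eq hσ _

theorem comm_central (hz : σ.ker ≤ center Γ) {X Y : Γ} (hX : σ X ∈ N.grp) (hY : σ Y ∈ N.grp) :
    ⁅X, Y⁆ ∈ center Γ := by
  refine hz ?_
  obtain ⟨x, hx⟩ := hX
  obtain ⟨y, hy⟩ := hY
  rw [MonoidHom.mem_ker, map_commutatorElement, ← hx, ← hy, commutatorElement_eq_one_iff_mul_comm,
    N.pi_comm]

theorem comm_congr (hz : σ.ker ≤ center Γ) {X Y X' Y' : Γ} (hX : σ X = σ X') (hY : σ Y = σ Y') :
    ⁅X, Y⁆ = ⁅X', Y'⁆ := by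
  obtain ⟨z, hzz, rfl⟩ : ∃ z ∈ center Γ, X = X' * z :=
    ⟨X'⁻¹ * X, hz (by simp [MonoidHom.mem_ker, hX]), by group⟩
  obtain ⟨w, hww, rfl⟩ : ∃ w ∈ center Γ, Y = Y' * w :=
    ⟨Y'⁻¹ * Y, hz (by simp [MonoidHom.mem_ker, hY]), by group⟩
  simp only [commutatorElement_def, mul_inv_rev]
  have cz := mem_center_iff.1 hzz
  have cw := mem_center_iff.1 hww
  calc X' * z * (Y' * w) * (z⁻¹ * X'⁻¹) * (w⁻¹ * Y'⁻¹)
      = X' * ((z * (Y' * w)) * z⁻¹) * X'⁻¹ * w⁻¹ * Y'⁻¹ := by group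
    _ = X' * Y' * (w * X'⁻¹) * w⁻¹ * Y'⁻¹ := by rw [← cz, mul_inv_cancel_right]; group
    _ = X' * Y' * X'⁻¹ * Y'⁻¹ := by
      rw [← cw, ← mul_assoc (X' * Y'), mul_inv_cancel_right]

variable [Finite G] [NeZero p]

/-- The pairing. -/
noncomputable def pairing (hσ : Function.Surjective σ) (hz : σ.ker ≤ center Γ) :
    (Fin r → ZMod p) →+ (Fin r → ZMod p) →+ Additive (center Γ) := by
  refine AddMonoidHom.mk' (fun x => AddMonoidHom.mk' (fun y => Additive.ofMul
    (⟨⁅N.liftOf hσ x, N.liftOf hσ y⁆, N.comm_central hz ⟨x, (N.map_liftOf hσ x).symm⟩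
      ⟨y, (N.map_liftOf hσ y).symm⟩⟩ : center Γ)) ?_) ?_
  · intro y y'
    refine congrArg Additive.ofMul (Subtype.ext ?_)
    show _ = ⁅N.liftOf hσ x, N.liftOf hσ y⁆ * ⁅N.liftOf hσ x, N.liftOf hσ y'⁆
    have hc := mem_center_iff.1 (N.comm_central hz (σ := σ) ⟨x, (N.map_liftOf hσ x).symm⟩
      ⟨y', (N.map_liftOf hσ y').symm⟩) (N.liftOf hσ y)
    refine (comm_congr hz rfl (X' := N.liftOf hσ x) (Y' := N.liftOf hσ y * N.liftOf hσ y') (by
      rw [map_mul, N.map_liftOf, N.map_liftOf, N.map_liftOf, N.map_add])).trans ?_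
    calc ⁅N.liftOf hσ x, N.liftOf hσ y * N.liftOf hσ y'⁆
        = ⁅N.liftOf hσ x, N.liftOf hσ y⁆ *
          (N.liftOf hσ y * ⁅N.liftOf hσ x, N.liftOf hσ y'⁆ * (N.liftOf hσ y)⁻¹) := by
          simp only [commutatorElement_def]; group
      _ = _ := by rw [hc, mul_inv_cancel_right]
  · intro x x'
    refine AddMonoidHom.ext fun y => ?_
    refine congrArg Additive.ofMul (Subtype.ext ?_)
    show _ = ⁅N.liftOf hσ x, N.liftOf hσ y⁆ * ⁅N.liftOf hσ x', N.liftOf hσ y⁆
    have hc := mem_center_iff.1 (N.comm_central hz (σ := σ) ⟨x', (N.map_liftOf hσ x').symm⟩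
      ⟨y, (N.map_liftOf hσ y).symm⟩) (N.liftOf hσ x)
    have hc' := mem_center_iff.1 (N.comm_central hz (σ := σ) ⟨x', (N.map_liftOf hσ x').symm⟩
      ⟨y, (N.map_liftOf hσ y).symm⟩) ⁅N.liftOf hσ x, N.liftOf hσ y⁆
    refine (comm_congr hz (X' := N.liftOf hσ x * N.liftOf hσ x') (Y' := N.liftOf hσ y) (by
      rw [map_mul, N.map_liftOf, N.map_liftOf, N.map_liftOf, N.map_add]) rfl).trans ?_
    calc ⁅N.liftOf hσ x * N.liftOf hσ x', N.liftOf hσ y⁆
        = (N.liftOf hσ x * ⁅N.liftOf hσ x', N.liftOf hσ y⁆ * (N.liftOf hσ x)⁻¹) *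
          ⁅N.liftOf hσ x, N.liftOf hσ y⁆ := by simp only [commutatorElement_def]; group
      _ = _ := by rw [hc, mul_inv_cancel_right, hc']

theorem pairing_val (hσ : Function.Surjective σ) (hz : σ.ker ≤ center Γ)
    (x y : Fin r → ZMod p) {X Y : Γ} (hX : σ X = N.π x) (hY : σ Y = N.π y) :
    (((N.pairing hσ hz x y).toMul : center Γ) : Γ) = ⁅X, Y⁆ :=
  comm_congr hz (by rw [N.map_liftOf, hX]) (by rw [N.map_liftOf, hY])

theorem pairing_inv (hσ : Function.Surjective σ) (hz : σ.ker ≤ center Γ) {g : G}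
    {M : Matrix (Fin r) (Fin r) (ZMod p)} (hg : N.Acts g M) (x y : Fin r → ZMod p) :
    N.pairing hσ hz (M.mulVec x) (M.mulVec y) = N.pairing hσ hz x y := by
  obtain ⟨g', rfl⟩ := hσ g
  obtain ⟨X, hX⟩ := hσ (N.π x)
  obtain ⟨Y, hY⟩ := hσ (N.π y)
  refine Additive.toMul.injective (Subtype.ext ?_)
  rw [N.pairing_val hσ hz _ _ (X := g' * X * g'⁻¹) (Y := g' * Y * g'⁻¹)
    (by rw [map_mul, map_mul, map_inv, hX, hg, mul_inv_cancel_right])
    (by rw [map_mul, map_mul, map_inv, hY, hg, mul_inv_cancel_right]),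
    N.pairing_val hσ hz x y hX hY]
  have hc := mem_center_iff.1 (N.comm_central hz (σ := σ) ⟨x, hX.symm⟩ ⟨y, hY.symm⟩) g'
  calc ⁅g' * X * g'⁻¹, g' * Y * g'⁻¹⁆ = g' * ⁅X, Y⁆ * g'⁻¹ := by
        simp only [commutatorElement_def]; group
    _ = ⁅X, Y⁆ := by rw [hc, mul_inv_cancel_right]

theorem pairing_rev (hσ : Function.Surjective σ) (hz : σ.ker ≤ center Γ) (C : PolyCert p r)
    (hC : C.OK) {g : G} (hg : N.Acts g C.M) (x y : Fin r → ZMod p) :
    N.pairing hσ hz x (C.S.mulVec y) = 0 := by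
  obtain ⟨h0, hstep, hf, hS⟩ := hC
  set c := N.pairing hσ hz
  have hP : ∀ i, i ≤ C.d → ∀ k, k + i ≤ C.d → ∀ x y, c ((C.P i).mulVec x) ((C.P (k + i)).mulVec y)
      = c x ((C.P k).mulVec y) := by
    intro i
    induction i with
    | zero => intro _ k _ x y; rw [h0, Matrix.one_mulVec, add_zero]
    | succ i ih =>
      intro hi k hk x y
      have e1 : C.P (k + (i + 1)) = C.M * C.P (k + i) := hstep ⟨k + i, by omega⟩
      have e2 : C.P (i + 1) = C.M * C.P i := hstep ⟨i, by omega⟩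
      rw [e1, e2, ← Matrix.mulVec_mulVec, ← Matrix.mulVec_mulVec, N.pairing_inv hσ hz hg,
        ih (by omega) k (by omega)]
  have hval : ∀ (v : ℕ → Matrix (Fin r) (Fin r) (ZMod p)) (x : Fin r → ZMod p),
      ∑ i : Fin (C.d + 1), C.f i.val • (v i.val).mulVec x =
        Matrix.mulVec (Matrix.of fun a b => ∑ i : Fin (C.d + 1), (C.f i.val : ZMod p) * v i.val a b) x := by
    intro v x
    funext a
    rw [Finset.sum_apply]
    show (∑ i : Fin (C.d + 1), C.f i.val • ∑ b, v i.val a b * x b) =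
      ∑ b, (∑ i : Fin (C.d + 1), (C.f i.val : ZMod p) * v i.val a b) * x b
    simp only [nsmul_eq_mul, Finset.mul_sum, Finset.sum_mul, mul_assoc]
    exact Finset.sum_comm
  have hSv : C.S.mulVec y = ∑ i : Fin (C.d + 1), C.f i.val • (C.P (C.d - i.val)).mulVec y := by
    rw [hval (fun i => C.P (C.d - i))]
    congr 1
    ext a b
    exact hS a b
  have h0x : ∑ i : Fin (C.d + 1), C.f i.val • (C.P i.val).mulVec x = 0 := by
    rw [hval C.P]
    have : (Matrix.of fun a b => ∑ i : Fin (C.d + 1), (C.f i.val : ZMod p) * C.P i.val a b) = 0 := by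
      ext a b
      exact hf a b
    rw [this, Matrix.zero_mulVec]
  have key : c (∑ i : Fin (C.d + 1), C.f i.val • (C.P i.val).mulVec x) ((C.P C.d).mulVec y) =
      c x (C.S.mulVec y) := by
    rw [hSv, map_sum, map_sum, AddMonoidHom.finsetSum_apply]
    refine Finset.sum_congr rfl fun i _ => ?_
    rw [map_nsmul, map_nsmul, AddMonoidHom.smul_apply]
    congr 1
    have := hP i.val (by omega) (C.d - i.val) (by omega) x y
    rwa [Nat.sub_add_cancel (by omega)] at this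
  rw [← key, h0x, map_zero, AddMonoidHom.zero_apply]

/-- The preimage of the subgroup is abelian. -/
theorem commute_lifts (hσ : Function.Surjective σ) (hz : σ.ker ≤ center Γ)
    (l : List (PolyCert p r)) (hl : ∀ C ∈ l, C.OK ∧ ∃ g, N.Acts g C.M)
    (hone : ∀ a b, (l.map fun C => (C.S * C.X) a b).sum = (1 : Matrix (Fin r) (Fin r) (ZMod p)) a b)
    {X Y : Γ} (hX : σ X ∈ N.grp) (hY : σ Y ∈ N.grp) : X * Y = Y * X := by
  obtain ⟨x, hx⟩ := hX
  obtain ⟨y, hy⟩ := hY
  have hmat : (l.map fun C => C.S * C.X).sum = 1 := by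
    ext a b
    rw [← hone a b]
    clear hone hl
    induction l with
    | nil => rfl
    | cons C l ih => simp only [List.map_cons, List.sum_cons, Matrix.add_apply, ih]
  have key : ∀ l' : List (PolyCert p r), (∀ C ∈ l', C.OK ∧ ∃ g, N.Acts g C.M) →
      N.pairing hσ hz x (((l'.map fun C : PolyCert p r => C.S * C.X).sum).mulVec y) = 0 := by
    intro l'
    induction l' with
    | nil => intro _; simp
    | cons C l' ih =>
      intro h
      obtain ⟨hok, g, hg⟩ := h C List.mem_cons_self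
      rw [List.map_cons, List.sum_cons, Matrix.add_mulVec, _root_.map_add, ← Matrix.mulVec_mulVec,
        N.pairing_rev hσ hz C hok hg, zero_add]
      exact ih (fun C' h' => h C' (List.mem_cons_of_mem _ h'))
  have := key l hl
  rw [hmat, Matrix.one_mulVec] at this
  have h1 := N.pairing_val hσ hz x y hx.symm hy.symm
  rw [this] at h1
  exact commutatorElement_eq_one_iff_mul_comm.1 h1.symm

/-- An element moving every vector, in an extension with abelian preimage. -/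
structure Fpf (N : Param G p r) (σ : Γ →* G) where
  surj : Function.Surjective σ
  central : σ.ker ≤ center Γ
  comm : ∀ X Y : Γ, σ X ∈ N.grp → σ Y ∈ N.grp → X * Y = Y * X
  /-- The lift of the element. -/
  U : Γ
  /-- Its matrix. -/
  M : Matrix (Fin r) (Fin r) (ZMod p)
  acts : N.Acts (σ U) M
  /-- An inverse of `M - 1`. -/
  R : Matrix (Fin r) (Fin r) (ZMod p)
  inv_left : R * (M - 1) = 1
  inv_right : (M - 1) * R = 1

namespace Fpf

variable {N} (F : N.Fpf σ)
omit [Finite G] [NeZero p]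

theorem sigma_comm_mem {X : Γ} {x : Fin r → ZMod p} (hX : σ X = N.π x) :
    σ ⁅F.U, X⁆ = N.π ((F.M - 1).mulVec x) := by
  rw [map_commutatorElement, hX, commutatorElement_def, F.acts x, mul_inv_cancel_right,
    ← N.pi_neg, ← N.map_add, Matrix.sub_mulVec, Matrix.one_mulVec, sub_eq_add_neg]

theorem comm_mul {X Y : Γ} (hX : σ X ∈ N.grp) (hY : σ Y ∈ N.grp) :
    ⁅F.U, X * Y⁆ = ⁅F.U, X⁆ * ⁅F.U, Y⁆ := by
  obtain ⟨y, hy⟩ := hY
  have hm : σ ⁅F.U, Y⁆ ∈ N.grp := ⟨_, (F.sigma_comm_mem hy.symm).symm⟩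
  calc ⁅F.U, X * Y⁆ = ⁅F.U, X⁆ * (X * ⁅F.U, Y⁆ * X⁻¹) := by
        simp only [commutatorElement_def]; group
    _ = ⁅F.U, X⁆ * ⁅F.U, Y⁆ := by rw [F.comm X _ hX hm, mul_inv_cancel_right]

theorem comm_congr {X Y : Γ} (h : σ X = σ Y) : ⁅F.U, X⁆ = ⁅F.U, Y⁆ :=
  Param.comm_congr F.central rfl h

/-- The section. -/
noncomputable def sec (v : Fin r → ZMod p) : Γ := ⁅F.U, N.liftOf F.surj (F.R.mulVec v)⁆

theorem comm_eq_sec {X : Γ} {x : Fin r → ZMod p} (hX : σ X = N.π x) :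
    ⁅F.U, X⁆ = F.sec ((F.M - 1).mulVec x) := by
  refine F.comm_congr ?_
  rw [N.map_liftOf, hX, Matrix.mulVec_mulVec, F.inv_left, Matrix.one_mulVec]

theorem map_sec (v : Fin r → ZMod p) : σ (F.sec v) = N.π v := by
  rw [sec, F.sigma_comm_mem (N.map_liftOf F.surj _), Matrix.mulVec_mulVec, F.inv_right,
    Matrix.one_mulVec]

theorem sec_add (v w : Fin r → ZMod p) : F.sec (v + w) = F.sec v * F.sec w := by
  rw [sec, sec, sec, ← F.comm_mul ⟨_, (N.map_liftOf F.surj _).symm⟩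
    ⟨_, (N.map_liftOf F.surj _).symm⟩]
  refine F.comm_congr ?_
  rw [map_mul, N.map_liftOf, N.map_liftOf, N.map_liftOf, Matrix.mulVec_add, N.map_add]

theorem sec_zero : F.sec 0 = 1 := by
  have h := F.sec_add 0 0
  rw [add_zero] at h
  exact left_eq_mul.1 h

/-- The lifted subgroup. -/
def B : Subgroup Γ where
  carrier := Set.range F.sec
  one_mem' := ⟨0, F.sec_zero⟩
  mul_mem' := by rintro _ _ ⟨x, rfl⟩ ⟨y, rfl⟩; exact ⟨x + y, F.sec_add x y⟩
  inv_mem' := by
    rintro _ ⟨x, rfl⟩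
    exact ⟨-x, eq_inv_of_mul_eq_one_left (by rw [← F.sec_add, neg_add_cancel, F.sec_zero])⟩

theorem sigma_mem {b : Γ} (hb : b ∈ F.B) : σ b ∈ N.grp := by
  obtain ⟨v, rfl⟩ := hb
  exact ⟨v, (F.map_sec v).symm⟩

theorem eq_one_of_mem {b : Γ} (hb : b ∈ F.B) (h : σ b = 1) : b = 1 := by
  obtain ⟨v, rfl⟩ := hb
  rw [F.map_sec] at h
  rw [N.inj _ h, F.sec_zero]

theorem B_inf_ker : F.B ⊓ σ.ker = ⊥ :=
  eq_bot_iff.2 fun _ hb => mem_bot.2 (F.eq_one_of_mem hb.1 hb.2)

theorem decompose {X : Γ} (hX : σ X ∈ N.grp) : ∃ b ∈ F.B, ∃ z ∈ σ.ker, X = b * z := by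
  obtain ⟨v, hv⟩ := hX
  exact ⟨F.sec v, ⟨v, rfl⟩, (F.sec v)⁻¹ * X,
    by simp [MonoidHom.mem_ker, F.map_sec, hv], by group⟩

/-- `U` normalises the lift. -/
theorem conj_U {b : Γ} (hb : b ∈ F.B) : F.U * b * F.U⁻¹ ∈ F.B := by
  obtain ⟨v, hv⟩ := F.sigma_mem hb
  have : F.U * b * F.U⁻¹ = ⁅F.U, b⁆ * b := by rw [commutatorElement_def]; group
  rw [this, F.comm_eq_sec hv.symm]
  exact mul_mem ⟨_, rfl⟩ hb

theorem conj_U_pow (k : ℕ) {b : Γ} (hb : b ∈ F.B) : F.U ^ k * b * (F.U ^ k)⁻¹ ∈ F.B := by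
  induction k with
  | zero => simpa using hb
  | succ k ih =>
    have : F.U ^ (k + 1) * b * (F.U ^ (k + 1))⁻¹ = F.U * (F.U ^ k * b * (F.U ^ k)⁻¹) * F.U⁻¹ := by
      rw [pow_succ']; group
    rw [this]
    exact F.conj_U ih

theorem comm_U_pow (k : ℕ) {X : Γ} (hX : σ X ∈ N.grp) : ⁅F.U ^ k, X⁆ ∈ F.B := by
  induction k with
  | zero => simp
  | succ k ih =>
    obtain ⟨x, hx⟩ := hX
    have : ⁅F.U ^ (k + 1), X⁆ = F.U * ⁅F.U ^ k, X⁆ * F.U⁻¹ * ⁅F.U, X⁆ := by
      simp only [commutatorElement_def, pow_succ']; group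
    rw [this]
    exact mul_mem (F.conj_U ih) (F.comm_eq_sec hx.symm ▸ ⟨_, rfl⟩)

variable [Finite Γ] [Finite G]

/-- What normalises `⟨σ U⟩` modulo the subgroup normalises the lift. -/
theorem mem_normalizer_of {g : Γ} (hgN : σ g ∈ normalizer (N.grp : Set G)) (k : ℕ)
    {n : G} (hn : n ∈ N.grp) (hgu : σ g * σ F.U = σ F.U ^ k * n * σ g) :
    g ∈ normalizer (F.B : Set Γ) := by
  obtain ⟨Y, hY⟩ := F.surj n
  have hYN : σ Y ∈ N.grp := hY.symm ▸ hn
  have hmap : ∀ b ∈ F.B, g * b * g⁻¹ ∈ F.B := by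
    rintro _ ⟨v, rfl⟩
    have hX : σ (g * N.liftOf F.surj (F.R.mulVec v) * g⁻¹) ∈ N.grp := by
      rw [map_mul, map_mul, map_inv]
      exact (mem_normalizer_iff.1 hgN _).1 ⟨_, (N.map_liftOf F.surj _).symm⟩
    set X := g * N.liftOf F.surj (F.R.mulVec v) * g⁻¹
    have e1 : g * F.sec v * g⁻¹ = ⁅g * F.U * g⁻¹, X⁆ := by
      simp only [sec, X, commutatorElement_def]; group
    have e2 : ⁅g * F.U * g⁻¹, X⁆ = ⁅F.U ^ k * Y, X⁆ := Param.comm_congr F.central
      (by rw [map_mul, map_mul, map_inv, hgu, mul_inv_cancel_right, map_mul, map_pow, hY]) rfl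
    have e3 : ⁅F.U ^ k * Y, X⁆ = ⁅F.U ^ k, X⁆ := by
      rw [commutatorElement_def, commutatorElement_def]
      calc F.U ^ k * Y * X * (F.U ^ k * Y)⁻¹ * X⁻¹
          = F.U ^ k * ((Y * X) * Y⁻¹) * (F.U ^ k)⁻¹ * X⁻¹ := by group
        _ = F.U ^ k * X * (F.U ^ k)⁻¹ * X⁻¹ := by
          rw [F.comm Y X hYN hX, mul_inv_cancel_right]
    rw [e1, e2, e3]
    exact F.comm_U_pow k hX
  rw [mem_normalizer_iff]
  refine fun b => ⟨hmap b, fun hb => ?_⟩
  let f : F.B → F.B := fun m => ⟨g * m * g⁻¹, hmap _ m.2⟩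
  have hf : Function.Injective f := fun m m' e => Subtype.ext
    (mul_left_cancel (mul_right_cancel (congrArg Subtype.val e :
      g * (m : Γ) * g⁻¹ = g * (m' : Γ) * g⁻¹)))
  obtain ⟨m, hm⟩ := Finite.surjective_of_injective hf ⟨_, hb⟩
  have e : g * (m : Γ) * g⁻¹ = g * b * g⁻¹ := congrArg Subtype.val hm
  rw [← mul_left_cancel (mul_right_cancel e)]
  exact m.2

theorem mem_normalizer_of_mem {X : Γ} (hX : σ X ∈ N.grp) : X ∈ normalizer (F.B : Set Γ) := by
  rw [mem_normalizer_iff]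
  intro b
  constructor <;> intro hb
  · rwa [F.comm X b hX (F.sigma_mem hb), mul_inv_cancel_right]
  · have h1 : σ b ∈ N.grp := by
      have := F.sigma_mem hb
      rw [map_mul, map_mul, map_inv] at this
      have h2 := mul_mem (mul_mem (inv_mem hX) this) hX
      rwa [show (σ X)⁻¹ * (σ X * σ b * (σ X)⁻¹) * σ X = σ b by group] at h2
    rwa [F.comm X b hX h1, mul_inv_cancel_right] at hb

/-- Cyclic over the subgroup: the derived group lies in the lift. -/
theorem commutator_le_of_cyclic (P : Subgroup Γ) {c : Γ} (hc : c ∈ normalizer (F.B : Set Γ))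
    (hP : P.map σ ≤ N.grp ⊔ zpowers (σ c)) : ⁅P, P⁆ ⊓ σ.ker = ⊥ := by
  have hle : P ≤ closure (((F.B : Set Γ) ∪ {c}) ∪ σ.ker) := by
    refine SmallSylow.le_closure_of_map_le σ P _ (hP.trans (sup_le ?_ ?_))
    · rintro _ ⟨v, rfl⟩
      rw [← F.map_sec v]
      exact subset_closure ⟨_, Or.inl ⟨v, rfl⟩, rfl⟩
    · rw [zpowers_le]
      exact subset_closure ⟨c, Or.inr rfl, rfl⟩
  refine eq_bot_iff.2 ((inf_le_inf_right _ ?_).trans F.B_inf_ker.le)
  refine (Subgroup.commutator_mono hle hle).trans (SmallSylow.commutator_closure_le _ ?_ ?_)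
  · rintro x ((hx | rfl) | hx)
    · exact F.mem_normalizer_of_mem (F.sigma_mem hx)
    · exact hc
    · exact F.mem_normalizer_of_mem (by rw [show σ x = 1 from hx]; exact one_mem _)
  · have hzc : ∀ x y : Γ, x ∈ σ.ker → ⁅x, y⁆ = 1 := fun x y hx =>
      commutatorElement_eq_one_iff_mul_comm.2 (mem_center_iff.1 (F.central hx) y).symm
    have hswap : ∀ x y : Γ, ⁅x, y⁆ ∈ F.B → ⁅y, x⁆ ∈ F.B := fun x y h => by
      rw [← commutatorElement_inv]; exact inv_mem h
    have hBc : ∀ b ∈ F.B, ⁅c, b⁆ ∈ F.B := fun b hb =>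
      mul_mem ((mem_normalizer_iff.1 hc b).1 hb) (inv_mem hb)
    rintro x hx y hy
    rcases hx with (hx | rfl) | hx
    · rcases hy with (hy | rfl) | hy
      · rw [commutatorElement_eq_one_iff_mul_comm.2 (F.comm x y (F.sigma_mem hx) (F.sigma_mem hy))]
        exact one_mem _
      · exact hswap _ _ (hBc x hx)
      · exact hswap _ _ (by rw [hzc y x hy]; exact one_mem _)
    · rcases hy with (hy | rfl) | hy
      · exact hBc y hy
      · simp
      · exact hswap _ _ (by rw [hzc y x hy]; exact one_mem _)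
    · rw [hzc x y hx]; exact one_mem _

end Fpf

end Param

end Cfsg.Agent.Schur
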