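import Cfsg.Agent.Lib.Schur.Basic
import Cfsg.Agent.Lib.Schur.Exponent

/-!
A highly transitive group inherits a trivial Schur multiplier from its point stabiliser.

If the stabiliser `H` of `o` is perfect with trivial multiplier and the two-point stabilisers are
perfect, then `H` lifts into every central extension, conjugation by a lift `T` of `t` is compatible
with the lifts, and `λH ∪ λH T λH` is closed under `T` as soon as `T λh T` lies in it for two
suitable `h`.  An inverting element (exponent 2, `t` of order 3), or a braid relation between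
involutions (odd exponent), supplies these.
-/

set_option autoImplicit false

namespace Cfsg.Agent.Schur

open Subgroup
open scoped commutatorElement

universe u v w

variable {G : Type u} [Group G] [Finite G] {Ω : Type v} [MulAction G Ω]

/-- Transitivity used below: `H` on the other points, and a two-point stabiliser on the rest. -/
def StabTransitive (G : Type u) [Group G] {Ω : Type v} [MulAction G Ω] (o : Ω) : Prop :=
  (∀ x y : Ω, x ≠ o → y ≠ o → ∃ h ∈ MulAction.stabilizer G o, h • x = y) ∧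
    ∀ x y z : Ω, x ≠ o → y ≠ o → y ≠ x → z ≠ o → z ≠ x →
      ∃ h ∈ MulAction.stabilizer G o, h • x = x ∧ h • y = z

theorem exists_section (o : Ω)
    (hH : Cfsg.HasCyclicSchurMultiplier (MulAction.stabilizer G o) 1)
    (hHperf : _root_.commutator (MulAction.stabilizer G o) = ⊤)
    {Γ : Type w} [Group Γ] (σ : Γ →* G) (hσ : Function.Surjective σ) (hz : σ.ker ≤ center Γ) :
    ∃ lift : MulAction.stabilizer G o →* Γ, ∀ h, σ (lift h) = (h : G) := by
  set H := MulAction.stabilizer G o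
  let X : Subgroup Γ := H.comap σ
  let f : X →* H := (σ.comp X.subtype).codRestrict H fun x => x.2
  have hf : Function.Surjective f := fun h => by
    obtain ⟨x, hx⟩ := hσ (h : G)
    exact ⟨⟨x, show σ x ∈ H by rw [hx]; exact h.2⟩, Subtype.ext hx⟩
  have hfz : f.ker ≤ center X := fun x hx => mem_center_iff.2 fun y =>
    Subtype.ext (mem_center_iff.1 (hz (show σ (x : Γ) = 1 from congrArg Subtype.val hx)) (y : Γ))
  have hbot := ker_inf_commutator_eq_bot hH f hf hfz
  let f₁ : _root_.commutator X →* H := f.comp (_root_.commutator X).subtype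
  have hmap : (_root_.commutator X).map f = ⊤ := by
    rw [_root_.commutator_def, Subgroup.map_commutator, Subgroup.map_top_of_surjective f hf,
      ← _root_.commutator_def, hHperf]
  have hbij : Function.Bijective f₁ := by
    refine ⟨(injective_iff_map_eq_one f₁).2 fun x hx => ?_, fun h => ?_⟩
    · exact Subtype.ext (Subgroup.mem_bot.1 (hbot ▸ ⟨hx, x.2⟩))
    · obtain ⟨x, hx, e⟩ : h ∈ (_root_.commutator X).map f := hmap ▸ mem_top h
      exact ⟨⟨x, hx⟩, e⟩
  let e := MulEquiv.ofBijective f₁ hbij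
  refine ⟨(X.subtype.comp (_root_.commutator X).subtype).comp e.symm.toMonoidHom, fun h => ?_⟩
  exact congrArg Subtype.val (e.apply_symm_apply h)

/-- The set `λH ∪ λH T λH`. -/
def cellSet {H : Subgroup G} {Γ : Type w} [Group Γ] (lift : H →* Γ) (T : Γ) : Set Γ :=
  {x | (∃ a, x = lift a) ∨ ∃ a b, x = lift a * T * lift b}

theorem mul_lift_mem_cellSet {H : Subgroup G} {Γ : Type w} [Group Γ] {lift : H →* Γ} {T x : Γ}
    (hx : x ∈ cellSet lift T) (b : H) : x * lift b ∈ cellSet lift T := by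
  rcases hx with ⟨a, rfl⟩ | ⟨a, a', rfl⟩
  · exact .inl ⟨a * b, (map_mul lift a b).symm⟩
  · exact .inr ⟨a, a' * b, by rw [map_mul, mul_assoc]⟩

theorem lift_mul_mem_cellSet {H : Subgroup G} {Γ : Type w} [Group Γ] {lift : H →* Γ} {T x : Γ}
    (hx : x ∈ cellSet lift T) (a : H) : lift a * x ∈ cellSet lift T := by
  rcases hx with ⟨b, rfl⟩ | ⟨b, b', rfl⟩
  · exact .inl ⟨a * b, (map_mul lift a b).symm⟩
  · exact .inr ⟨a * b, b', by rw [map_mul]; group⟩

theorem conj_mem_stabilizer {o : Ω} {t l : G}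
    (h : l ∈ MulAction.stabilizer G o ∧ l • (t • o) = t • o) :
    t⁻¹ * l * t ∈ MulAction.stabilizer G o := by
  rw [MulAction.mem_stabilizer_iff, mul_smul, mul_smul, h.2, inv_smul_smul]

/-- The discrepancy between conjugation by `T` and the lifts is a homomorphism into the centre. -/
theorem exists_delta (o : Ω) {Γ : Type w} [Group Γ] (σ : Γ →* G) (hz : σ.ker ≤ center Γ)
    (lift : MulAction.stabilizer G o →* Γ) (hlift : ∀ h, σ (lift h) = (h : G)) (T : Γ) :
    ∃ δ : ↥(MulAction.stabilizer G o ⊓ MulAction.stabilizer G (σ T • o)) →* center Γ,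
      ∀ l, (δ l : Γ) = lift ⟨(σ T)⁻¹ * (l : G) * σ T, conj_mem_stabilizer ⟨l.2.1, l.2.2⟩⟩ *
        (T⁻¹ * lift ⟨l, l.2.1⟩ * T)⁻¹ := by
  set t := σ T with hT
  have conjMem : ∀ l : ↥((MulAction.stabilizer G o) ⊓ MulAction.stabilizer G (t • o)),
      t⁻¹ * (l : G) * t ∈ (MulAction.stabilizer G o) := fun l => by
    have : (l : G) • (t • o) = t • o := l.2.2
    rw [MulAction.mem_stabilizer_iff, mul_smul, mul_smul, this, inv_smul_smul]
  let δ : ↥((MulAction.stabilizer G o) ⊓ MulAction.stabilizer G (t • o)) → Γ := fun l =>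
    lift ⟨t⁻¹ * (l : G) * t, conjMem l⟩ * (T⁻¹ * lift ⟨l, l.2.1⟩ * T)⁻¹
  have hδz : ∀ l, δ l ∈ center Γ := fun l => hz (by
    rw [MonoidHom.mem_ker]
    simp only [δ, map_mul, map_inv, hlift, ← hT]
    group)
  let δ' : ↥((MulAction.stabilizer G o) ⊓ MulAction.stabilizer G (t • o)) →* center Γ := MonoidHom.mk'
    (fun l => ⟨δ l, hδz l⟩) fun l l' => by
      refine Subtype.ext ?_
      show δ (l * l') = δ l * δ l'
      have e1 : (⟨t⁻¹ * ((l * l' : ↥((MulAction.stabilizer G o) ⊓ MulAction.stabilizer G (t • o))) : G) * t, conjMem _⟩ : (MulAction.stabilizer G o)) =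
          ⟨t⁻¹ * (l : G) * t, conjMem l⟩ * ⟨t⁻¹ * (l' : G) * t, conjMem l'⟩ :=
        Subtype.ext (by simp only [Subgroup.coe_mul]; group)
      have e2 : (⟨((l * l' : ↥((MulAction.stabilizer G o) ⊓ MulAction.stabilizer G (t • o))) : G), (l * l').2.1⟩ : (MulAction.stabilizer G o)) =
          ⟨l, l.2.1⟩ * ⟨l', l'.2.1⟩ := rfl
      simp only [δ, e1, e2, map_mul]
      set A := lift ⟨t⁻¹ * (l : G) * t, conjMem l⟩
      set A' := lift ⟨t⁻¹ * (l' : G) * t, conjMem l'⟩
      set B := lift ⟨(l : G), l.2.1⟩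
      set B' := lift ⟨(l' : G), l'.2.1⟩
      have hc : ∀ y, y * (A' * (T⁻¹ * B' * T)⁻¹) = A' * (T⁻¹ * B' * T)⁻¹ * y :=
        mem_center_iff.1 (hδz l')
      calc A * A' * (T⁻¹ * (B * B') * T)⁻¹
          = A * ((A' * (T⁻¹ * B' * T)⁻¹) * (T⁻¹ * B * T)⁻¹) := by group
        _ = A * ((T⁻¹ * B * T)⁻¹ * (A' * (T⁻¹ * B' * T)⁻¹)) := by rw [hc]
        _ = A * (T⁻¹ * B * T)⁻¹ * (A' * (T⁻¹ * B' * T)⁻¹) := by group
  exact ⟨δ', fun _ => rfl⟩

/-- Conjugation by `T` is compatible with the lifts as soon as the discrepancy vanishes. -/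
theorem move_of_delta (o : Ω) {Γ : Type w} [Group Γ] {σ : Γ →* G}
    {lift : MulAction.stabilizer G o →* Γ} {T : Γ}
    {δ : ↥(MulAction.stabilizer G o ⊓ MulAction.stabilizer G (σ T • o)) →* center Γ}
    (hδ : ∀ l, (δ l : Γ) = lift ⟨(σ T)⁻¹ * (l : G) * σ T, conj_mem_stabilizer ⟨l.2.1, l.2.2⟩⟩ *
        (T⁻¹ * lift ⟨l, l.2.1⟩ * T)⁻¹) (h1 : ∀ l, δ l = 1)
    (l : MulAction.stabilizer G o) (hl : (l : G) • (σ T • o) = σ T • o) :
    lift l * T = T * lift ⟨(σ T)⁻¹ * (l : G) * σ T, conj_mem_stabilizer ⟨l.2, hl⟩⟩ := by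
  have h := hδ ⟨l, l.2, hl⟩
  rw [h1, OneMemClass.coe_one, eq_comm, mul_inv_eq_one] at h
  rw [h]; group

/-- The core: two rules for `T` give a complement of the kernel. -/
theorem inf_commutator_eq_bot_of_rules (o : Ω) (htr : StabTransitive G o)
    {Γ : Type w} [Group Γ] [Finite Γ] (σ : Γ →* G) (hz : σ.ker ≤ center Γ)
    (lift : MulAction.stabilizer G o →* Γ) (hlift : ∀ h, σ (lift h) = (h : G))
    (T : Γ) (ht : σ T • o ≠ o) (hA gB : MulAction.stabilizer G o)
    (h1 : (hA : G) • (σ T • o) = (σ T)⁻¹ • o) (h2 : (gB : G) • (σ T • o) ≠ (σ T)⁻¹ • o)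
    (hmove : ∀ (l : MulAction.stabilizer G o) (hl : (l : G) • (σ T • o) = σ T • o),
      lift l * T = T * lift ⟨(σ T)⁻¹ * (l : G) * σ T, conj_mem_stabilizer ⟨l.2, hl⟩⟩)
    (r1 : T * lift hA * T ∈ cellSet lift T) (r2 : T * lift gB * T ∈ cellSet lift T) :
    σ.ker ⊓ _root_.commutator Γ = ⊥ := by
  set t := σ T with hT
  have hto : t⁻¹ • o ≠ o := fun h => ht (by rw [eq_comm, ← inv_smul_eq_iff]; exact h)
  have conjMem : ∀ l : ↥((MulAction.stabilizer G o) ⊓ MulAction.stabilizer G (t • o)),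
      t⁻¹ * (l : G) * t ∈ (MulAction.stabilizer G o) := fun l => by
    have : (l : G) • (t • o) = t • o := l.2.2
    rw [MulAction.mem_stabilizer_iff, mul_smul, mul_smul, this, inv_smul_smul]
  replace hmove : ∀ (l : MulAction.stabilizer G o) (hl : (l : G) • (t • o) = t • o),
      lift l * T = T * lift ⟨t⁻¹ * (l : G) * t, conjMem ⟨l, l.2, hl⟩⟩ := hmove
  have step : ∀ a : (MulAction.stabilizer G o), T * lift a * T ∈ cellSet lift T := by
    intro a
    by_cases hc : (a : G) • (t • o) = t⁻¹ • o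
    · have hfix : ((hA⁻¹ * a : (MulAction.stabilizer G o)) : G) • (t • o) = t • o := by
        rw [Subgroup.coe_mul, mul_smul, hc, Subgroup.coe_inv, inv_smul_eq_iff, h1]
      rw [show a = hA * (hA⁻¹ * a) by group, map_mul,
        show T * (lift hA * lift (hA⁻¹ * a)) * T = T * lift hA * (lift (hA⁻¹ * a) * T) by group,
        hmove _ hfix, ← mul_assoc]
      exact mul_lift_mem_cellSet r1 _
    · have hg : (gB : G) • (t • o) ≠ o := fun h => ht (by
        have := congrArg (fun x => (gB : G)⁻¹ • x) h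
        simpa [MulAction.mem_stabilizer_iff.1 (inv_mem gB.2)] using this)
      have ha : (a : G) • (t • o) ≠ o := fun h => ht (by
        have := congrArg (fun x => (a : G)⁻¹ • x) h
        simpa [MulAction.mem_stabilizer_iff.1 (inv_mem a.2)] using this)
      obtain ⟨m, hm, hmx, hmy⟩ := htr.2 (t⁻¹ • o) _ _ hto hg h2 ha hc
      -- `m = t⁻¹ l t` with `l` fixing `o` and `t • o`
      let l : (MulAction.stabilizer G o) := ⟨t * m * t⁻¹, by
        rw [MulAction.mem_stabilizer_iff, mul_smul, mul_smul, hmx, smul_inv_smul]⟩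
      have hl : (l : G) • (t • o) = t • o := by
        show (t * m * t⁻¹) • (t • o) = _
        rw [mul_smul, inv_smul_smul, mul_smul, MulAction.mem_stabilizer_iff.1 hm]
      have hfix : (((⟨m, hm⟩ * gB : (MulAction.stabilizer G o))⁻¹ * a : (MulAction.stabilizer G o)) : G) • (t • o) = t • o := by
        rw [Subgroup.coe_mul, mul_smul, Subgroup.coe_inv, Subgroup.coe_mul, inv_smul_eq_iff,
          mul_smul]
        exact hmy.symm
      have hTm : T * lift ⟨m, hm⟩ = lift l * T := by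
        rw [hmove l hl]
        congr 2
        exact Subtype.ext (show m = t⁻¹ * (t * m * t⁻¹) * t by group)
      rw [show a = ⟨m, hm⟩ * gB * ((⟨m, hm⟩ * gB : (MulAction.stabilizer G o))⁻¹ * a) by group, map_mul, map_mul,
        show T * (lift ⟨m, hm⟩ * lift gB * lift ((⟨m, hm⟩ * gB : (MulAction.stabilizer G o))⁻¹ * a)) * T =
          T * lift ⟨m, hm⟩ * lift gB * (lift ((⟨m, hm⟩ * gB : (MulAction.stabilizer G o))⁻¹ * a) * T) by group,
        hTm, hmove _ hfix,
        show ∀ L L' M : Γ, L * T * L' * (T * M) = L * (T * L' * T * M) from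
          fun L L' M => by group]
      exact lift_mul_mem_cellSet (mul_lift_mem_cellSet r2 _) _
  have closed : ∀ x ∈ Set.range lift ∪ {T}, ∀ y ∈ cellSet lift T, x * y ∈ cellSet lift T := by
    rintro x (⟨a, rfl⟩ | hx) y hy
    · exact lift_mul_mem_cellSet hy a
    · obtain rfl : x = T := hx
      rcases hy with ⟨a, rfl⟩ | ⟨a, b, rfl⟩
      · exact .inr ⟨1, a, by rw [map_one, one_mul]⟩
      · rw [show x * (lift a * x * lift b) = x * lift a * x * lift b by group]
        exact mul_lift_mem_cellSet (step a) b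
  let W : Submonoid Γ :=
    { carrier := {x | ∀ y ∈ cellSet lift T, x * y ∈ cellSet lift T}
      one_mem' := fun y hy => by simpa using hy
      mul_mem' := fun {x x'} hx hx' y hy => by rw [mul_assoc]; exact hx _ (hx' y hy) }
  set K := Subgroup.closure (Set.range lift ∪ {T}) with hK
  have hKset : ∀ x ∈ K, x ∈ cellSet lift T := by
    intro x hx
    rw [hK, ← Subgroup.mem_toSubmonoid, Subgroup.closure_toSubmonoid_of_finite] at hx
    simpa using (Submonoid.closure_le.2 (fun y hy => closed y hy) : _ ≤ W) hx 1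
      (.inl ⟨1, (map_one lift).symm⟩)
  have hKz : K ⊓ σ.ker = ⊥ := by
    rw [eq_bot_iff]
    rintro x ⟨hx, hx1⟩
    have hx1' : σ x = 1 := hx1
    rcases hKset x hx with ⟨a, rfl⟩ | ⟨a, b, rfl⟩
    · rw [hlift] at hx1'
      rw [show a = 1 from Subtype.ext hx1', map_one]
      exact Subgroup.mem_bot.2 rfl
    · exfalso
      rw [map_mul, map_mul, hlift, hlift, ← hT] at hx1'
      have : t = (a : G)⁻¹ * (b : G)⁻¹ := by
        rw [mul_eq_one_iff_eq_inv] at hx1'
        rw [← hx1']; group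
      exact ht (this ▸ mul_mem (inv_mem a.2) (inv_mem b.2))
  have hKmap : (⊤ : Subgroup Γ).map σ ≤ K.map σ := by
    rintro g -
    by_cases hg : g • o = o
    · exact ⟨lift ⟨g, hg⟩, Subgroup.subset_closure (.inl ⟨_, rfl⟩), hlift _⟩
    · obtain ⟨a, ha, hax⟩ := htr.1 (t • o) (g • o) ht hg
      have hb : (a * t)⁻¹ * g ∈ (MulAction.stabilizer G o) := by
        rw [MulAction.mem_stabilizer_iff, mul_smul, inv_smul_eq_iff, mul_smul, hax]
      refine ⟨lift ⟨a, ha⟩ * T * lift ⟨_, hb⟩, mul_mem (mul_mem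
        (Subgroup.subset_closure (.inl ⟨_, rfl⟩)) (Subgroup.subset_closure (.inr rfl)))
        (Subgroup.subset_closure (.inl ⟨_, rfl⟩)), ?_⟩
      rw [map_mul, map_mul, hlift, hlift, ← hT]
      group
  rw [inf_comm, _root_.commutator_def]
  exact commutator_inf_ker_eq_bot_of_complement σ hz ⊤ K hKz hKmap

/-- A stem extension with kernel of exponent `p` is injective, given compatible lifts. -/
theorem ker_eq_bot_of_compatible (o : Ω) (htr : StabTransitive G o)
    {t h : G} (ht : t • o ≠ o) (ht3 : t ^ 3 = 1) (hh : h ∈ MulAction.stabilizer G o)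
    (hht : h * t * h⁻¹ = t⁻¹)
    {t' g : G} (ht' : t' • o ≠ o) (ht2 : t' * t' = 1) (hg : g ∈ MulAction.stabilizer G o)
    (hg2 : g * g = 1) (htg : (t' * g) ^ 3 = 1) (hgm : g • (t' • o) ≠ t' • o)
    {p : ℕ} (hp : p.Prime) {Γ : Type w} [Group Γ] [Finite Γ] (σ : Γ →* G)
    (hσ : Function.Surjective σ) (hzc : σ.ker ≤ center Γ) (hcm : σ.ker ≤ _root_.commutator Γ)
    (hexp : ∀ z ∈ σ.ker, z ^ p = 1)
    (lift : MulAction.stabilizer G o →* Γ) (hlift : ∀ h, σ (lift h) = (h : G))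
    (h2move : p = 2 → ∀ T, σ T = t → ∀ (l : MulAction.stabilizer G o)
      (hl : (l : G) • (σ T • o) = σ T • o),
      lift l * T = T * lift ⟨(σ T)⁻¹ * (l : G) * σ T, conj_mem_stabilizer ⟨l.2, hl⟩⟩)
    (hoddmove : Odd p → ∀ T, σ T = t' → ∀ (l : MulAction.stabilizer G o)
      (hl : (l : G) • (σ T • o) = σ T • o),
      lift l * T = T * lift ⟨(σ T)⁻¹ * (l : G) * σ T, conj_mem_stabilizer ⟨l.2, hl⟩⟩) :
    σ.ker = ⊥ := by
  have hsur := hσ
  suffices σ.ker ⊓ _root_.commutator Γ = ⊥ by rwa [inf_eq_left.2 hcm] at this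
  have cen : ∀ {z : Γ}, σ z = 1 → ∀ y, y * z = z * y := fun h y => mem_center_iff.1 (hzc h) y
  rcases hp.eq_two_or_odd' with rfl | hodd
  · obtain ⟨T₀, hT₀⟩ := hsur t
    obtain ⟨z₀, hz₀⟩ : ∃ z, z = T₀ ^ 3 := ⟨_, rfl⟩
    have hz₀k : σ z₀ = 1 := by rw [hz₀, map_pow, hT₀, ht3]
    obtain ⟨T, hσT, hT3⟩ : ∃ T, σ T = t ∧ T ^ 3 = 1 := by
      refine ⟨T₀ * z₀, by rw [map_mul, hz₀k, mul_one, hT₀], ?_⟩
      rw [(show Commute T₀ z₀ from cen hz₀k T₀).mul_pow, ← hz₀, ← pow_succ',
        show z₀ ^ (3 + 1) = (z₀ ^ 2) ^ 2 by rw [← pow_mul], hexp z₀ hz₀k, one_pow]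
    set C := lift ⟨h, hh⟩ with hC
    obtain ⟨ε, hεk, hε⟩ : ∃ ε, σ ε = 1 ∧ C * T * C⁻¹ = T⁻¹ * ε :=
      ⟨T * (C * T * C⁻¹), by rw [map_mul, map_mul, map_mul, map_inv, hC, hlift, hσT, hht,
        mul_inv_cancel], by group⟩
    have hε1 : ε = 1 := by
      have h3 : (C * T * C⁻¹) ^ 3 = 1 := by rw [conj_pow, hT3]; group
      rw [hε, (show Commute T⁻¹ ε from cen hεk T⁻¹).mul_pow, inv_pow, hT3, inv_one, one_mul,
        pow_succ, hexp ε hεk, one_mul] at h3
      exact h3
    rw [hε1, mul_one] at hε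
    have hto : t⁻¹ • o ≠ o := fun e => ht (by rw [eq_comm, ← inv_smul_eq_iff]; exact e)
    have hne : t • o ≠ t⁻¹ • o := fun e => by
      have h4 : (t * t) • o = o := by rw [mul_smul, e, smul_inv_smul]
      rw [show t * t = t⁻¹ by rw [eq_inv_iff_mul_eq_one, ← pow_two, ← pow_succ]; exact ht3] at h4
      exact hto h4
    refine inf_commutator_eq_bot_of_rules o htr σ hzc lift hlift T (by rwa [hσT])
      ⟨h, hh⟩ 1 ?_ ?_ (h2move rfl T hσT) ?_ ?_
    · rw [hσT, ← hht]
      show h • t • o = (h * t * h⁻¹) • o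
      rw [mul_smul, mul_smul, MulAction.mem_stabilizer_iff.1 (inv_mem hh)]
    · rw [hσT, OneMemClass.coe_one, one_smul]; exact hne
    · refine .inl ⟨⟨h, hh⟩, ?_⟩
      rw [← hC]
      calc T * C * T = T * (C * T * C⁻¹) * C := by group
        _ = C := by rw [hε]; group
    · refine .inr ⟨⟨h, hh⟩, ⟨h, hh⟩⁻¹, ?_⟩
      rw [map_one, mul_one, map_inv, ← hC, hε, eq_inv_iff_mul_eq_one, ← pow_two, ← pow_succ]
      exact hT3
  · obtain ⟨T₀, hT₀⟩ := hsur t'
    obtain ⟨k, hk⟩ := hodd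
    set z₀ := T₀ * T₀ with hz₀
    have hz₀k : σ z₀ = 1 := by rw [hz₀, map_mul, hT₀, ht2]
    have hwk : σ (z₀ ^ k) = 1 := by rw [map_pow, hz₀k, one_pow]
    obtain ⟨T, hσT, hTT⟩ : ∃ T, σ T = t' ∧ T * T = 1 := by
      refine ⟨T₀ * z₀ ^ k, by rw [map_mul, hwk, mul_one, hT₀], ?_⟩
      calc T₀ * z₀ ^ k * (T₀ * z₀ ^ k) = T₀ * (z₀ ^ k * T₀) * z₀ ^ k := by group
        _ = z₀ * (z₀ ^ k * z₀ ^ k) := by rw [← cen hwk T₀, hz₀]; group
        _ = z₀ ^ p := by rw [hk, ← pow_add, ← pow_succ']; congr 1; omega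
        _ = 1 := hexp _ hz₀k
    set C := lift ⟨g, hg⟩ with hC
    have hCC : C * C = 1 := by
      rw [hC, ← map_mul, show (⟨g, hg⟩ : MulAction.stabilizer G o) * ⟨g, hg⟩ = 1 from
        Subtype.ext hg2, map_one]
    obtain ⟨ε, hεk, hε⟩ : ∃ ε, σ ε = 1 ∧ T * C * T = C * T * C * ε :=
      ⟨(C * T * C)⁻¹ * (T * C * T), by
        simp only [map_mul, map_inv, hC, hlift, hσT]
        have h6 : t' * g * t' = g * t' * g := by
          have hti : t'⁻¹ = t' := inv_eq_of_mul_eq_one_left ht2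
          have hgi : g⁻¹ = g := inv_eq_of_mul_eq_one_left hg2
          have : t' * g * t' * (g * t' * g) = 1 := by
            rw [← htg, pow_succ, pow_two]; group
          rw [mul_eq_one_iff_eq_inv] at this
          rw [this, mul_inv_rev, mul_inv_rev, hti, hgi]; group
        rw [h6, inv_mul_cancel], by group⟩
    have hε1 : ε = 1 := by
      have e1 : (T * C * T) * (T * C * T) = 1 := by
        calc (T * C * T) * (T * C * T) = T * C * (T * T) * C * T := by group
          _ = T * (C * C) * T := by rw [hTT]; group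
          _ = 1 := by rw [hCC, mul_one, hTT]
      have e2 : (C * T * C) * (C * T * C) = 1 := by
        calc (C * T * C) * (C * T * C) = C * T * (C * C) * T * C := by group
          _ = C * (T * T) * C := by rw [hCC]; group
          _ = 1 := by rw [hTT, mul_one, hCC]
      rw [hε, show C * T * C * ε * (C * T * C * ε) = C * T * C * (ε * (C * T * C)) * ε by group,
        ← cen hεk, ← mul_assoc, e2, one_mul, ← pow_two] at e1
      have h5 : ε ^ p = ε := by rw [hk, pow_succ, pow_mul, e1, one_pow, one_mul]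
      rw [← h5]; exact hexp ε hεk
    rw [hε1, mul_one] at hε
    have hti : t'⁻¹ = t' := inv_eq_of_mul_eq_one_left ht2
    refine inf_commutator_eq_bot_of_rules o htr σ hzc lift hlift T (by rwa [hσT])
      1 ⟨g, hg⟩ ?_ ?_ (hoddmove ⟨k, hk⟩ T hσT) ?_ ?_
    · rw [hσT, hti, OneMemClass.coe_one, one_smul]
    · rw [hσT, hti]; exact hgm
    · exact .inl ⟨1, by rw [map_one, mul_one, hTT]⟩
    · exact .inr ⟨⟨g, hg⟩, ⟨g, hg⟩, by rw [← hC, hε]⟩

/-- The theorem: `t` of order 3 inverted by `h ∈ H` handles exponent 2, involutions `t'` and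
`g ∈ H` with `(t' * g) ^ 3 = 1` handle odd exponents. -/
theorem hasCyclicSchurMultiplier_one_of_stabiliser (o : Ω) (htr : StabTransitive G o)
    (hH : Cfsg.HasCyclicSchurMultiplier (MulAction.stabilizer G o) 1)
    (hHperf : _root_.commutator (MulAction.stabilizer G o) = ⊤)
    (hLperf : ∀ x : Ω, x ≠ o →
      _root_.commutator ↥(MulAction.stabilizer G o ⊓ MulAction.stabilizer G x) = ⊤)
    {t h : G} (ht : t • o ≠ o) (ht3 : t ^ 3 = 1) (hh : h ∈ MulAction.stabilizer G o)
    (hht : h * t * h⁻¹ = t⁻¹)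
    {t' g : G} (ht' : t' • o ≠ o) (ht2 : t' * t' = 1) (hg : g ∈ MulAction.stabilizer G o)
    (hg2 : g * g = 1) (htg : (t' * g) ^ 3 = 1) (hgm : g • (t' • o) ≠ t' • o) :
    Cfsg.HasCyclicSchurMultiplier G 1 := by
  refine hasCyclicSchurMultiplier_one_of_exponent fun p hp Γ _ _ σ hσ hexp => ?_
  obtain ⟨hsur, hzc, hcm⟩ := hσ
  obtain ⟨lift, hlift⟩ := exists_section o hH hHperf σ hsur hzc
  have key : ∀ T, σ T • o ≠ o → ∀ (l : MulAction.stabilizer G o)
      (hl : (l : G) • (σ T • o) = σ T • o),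
      lift l * T = T * lift ⟨(σ T)⁻¹ * (l : G) * σ T, conj_mem_stabilizer ⟨l.2, hl⟩⟩ := by
    intro T hT
    obtain ⟨δ, hδ⟩ := exists_delta o σ hzc lift hlift T
    refine move_of_delta o hδ fun l => ?_
    have hle : _root_.commutator ↥(MulAction.stabilizer G o ⊓ MulAction.stabilizer G (σ T • o)) ≤
        δ.ker := by
      rw [_root_.commutator_def, Subgroup.commutator_le]
      intro a _ b _
      rw [MonoidHom.mem_ker, map_commutatorElement, commutatorElement_eq_one_iff_mul_comm]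
      exact Subtype.ext (mem_center_iff.1 (δ b).2 (δ a : Γ))
    exact hle (hLperf _ hT ▸ mem_top l)
  exact ker_eq_bot_of_compatible o htr ht ht3 hh hht ht' ht2 hg hg2 htg hgm hp σ hsur hzc hcm hexp
    lift hlift (fun _ T hT => key T (by rwa [hT])) (fun _ T hT => key T (by rwa [hT]))

end Cfsg.Agent.Schur
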