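import Cfsg.Agent.Lib.Schur.Exponent

/-!
Central extensions with kernel of exponent 2 over a subgroup `E ⋊ ⟨a, b⟩`, where `E` is elementary
abelian, `⟨a, b⟩` dihedral of order 8, an element `s` acts on `E` without fixed points with `⟨s⟩`
normalised by `a, b`, and the involutions concerned are conjugate: such an extension splits.
-/

set_option autoImplicit false

namespace Cfsg.Agent.Schur

open Subgroup
open scoped commutatorElement

universe u v

variable {Γ : Type u} {G : Type v} [Group Γ] [Group G]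

/-- The hypotheses on the image. -/
structure FpfDihedral (E : Subgroup G) (e a b s : G) : Prop where
  conj_e : ∀ x ∈ E, x ≠ 1 → IsConj e x
  sq : ∀ x ∈ E, x * x = 1
  big : ∃ x ∈ E, ∃ y ∈ E, ∃ w ∈ E,
    x ≠ 1 ∧ y ≠ 1 ∧ w ≠ 1 ∧ x ≠ y ∧ x ≠ w ∧ y ≠ w ∧ x ≠ y * w
  ee : e * e = 1
  norm_s : ∀ x ∈ E, s * x * s⁻¹ ∈ E
  fpf : ∀ x ∈ E, s * x = x * s → x = 1
  norm_a : ∀ x ∈ E, a * x * a⁻¹ ∈ E
  norm_b : ∀ x ∈ E, b * x * b⁻¹ ∈ E
  act_a : a * s * a⁻¹ = s ∨ a * s * a⁻¹ = s⁻¹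
  act_b : b * s * b⁻¹ = s ∨ b * s * b⁻¹ = s⁻¹
  conj_b : IsConj e b
  conj_ba : IsConj e (b * a)
  conj_aa : IsConj e (a * a)
  indep : ∀ i < 4, ∀ j < 2, a ^ i * b ^ j ∈ E → i = 0 ∧ j = 0

/-- Lifts of conjugate involutions have equal squares, the kernel having exponent 2. -/
theorem sq_eq_of_isConj (σ : Γ →* G) (hσ : Function.Surjective σ) (hz : σ.ker ≤ center Γ)
    (hexp : ∀ z ∈ σ.ker, z ^ 2 = 1) {E₁ X : Γ} (h : IsConj (σ E₁) (σ X))
    (hee : σ E₁ * σ E₁ = 1) : X * X = E₁ * E₁ := by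
  obtain ⟨c, hc⟩ := isConj_iff.1 h
  obtain ⟨C, rfl⟩ := hσ c
  have hk : σ ((C * E₁ * C⁻¹)⁻¹ * X) = 1 := by
    simp only [map_mul, map_inv, hc, inv_mul_cancel]
  obtain ⟨z, hzk, hzX⟩ : ∃ z, σ z = 1 ∧ X = C * E₁ * C⁻¹ * z := ⟨_, hk, by group⟩
  have hzz : z * z = 1 := by rw [← pow_two]; exact hexp z hzk
  have cz := mem_center_iff.1 (hz hzk)
  have ce := mem_center_iff.1 (hz (show σ (E₁ * E₁) = 1 by rw [map_mul, hee]))
  calc X * X = C * E₁ * C⁻¹ * (z * (C * E₁ * C⁻¹)) * z := by rw [hzX]; group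
    _ = C * E₁ * C⁻¹ * ((C * E₁ * C⁻¹) * z) * z := by rw [← cz]
    _ = C * (E₁ * E₁) * C⁻¹ * (z * z) := by group
    _ = E₁ * E₁ := by rw [hzz, ce C, mul_inv_cancel_right, mul_one]

theorem exists_complement_of_fpf [Finite Γ] (σ : Γ →* G) (hσ : Function.Surjective σ)
    (hz : σ.ker ≤ center Γ) (hexp : ∀ z ∈ σ.ker, z ^ 2 = 1) {E : Subgroup G} {e a b s : G}
    (h : FpfDihedral E e a b s) :
    ∃ K : Subgroup Γ, K ⊓ σ.ker = ⊥ ∧ Nat.card (K.map σ) = 8 * Nat.card E := by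
  have hfinG : Finite G := Finite.of_surjective σ hσ
  obtain ⟨E₁, hE₁⟩ := hσ e
  obtain ⟨A, hA⟩ := hσ a
  obtain ⟨B, hB⟩ := hσ b
  obtain ⟨S, hS⟩ := hσ s
  have cen : ∀ {z : Γ}, σ z = 1 → ∀ y, y * z = z * y := fun h y => mem_center_iff.1 (hz h) y
  have hsq : ∀ {X : Γ}, IsConj e (σ X) → X * X = E₁ * E₁ := fun {X} hX =>
    sq_eq_of_isConj σ hσ hz hexp (hE₁.symm ▸ hX) (by rw [hE₁]; exact h.ee)
  have hcE : ∀ x ∈ E, ∀ y ∈ E, x * y = y * x := fun x hx y hy => by
    have hi : ∀ z ∈ E, z⁻¹ = z := fun z hz' => inv_eq_of_mul_eq_one_left (h.sq z hz')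
    calc x * y = (x * y)⁻¹ := (hi _ (mul_mem hx hy)).symm
      _ = y * x := by rw [mul_inv_rev, hi y hy, hi x hx]
  set q := E₁ * E₁ with hq
  have hqk : σ q = 1 := by rw [hq, map_mul, hE₁, h.ee]
  have hqq : q * q = 1 := by rw [← pow_two]; exact hexp q hqk
  have hqi : q⁻¹ = q := inv_eq_of_mul_eq_one_left hqq
  have hlift : ∀ X : Γ, σ X ∈ E → σ X ≠ 1 → X * X = q := fun X hX hX1 =>
    hsq (h.conj_e _ hX hX1)
  have hpair : ∀ X Y : Γ, σ X ∈ E → σ Y ∈ E → σ X ≠ 1 → σ Y ≠ 1 → σ X ≠ σ Y → ⁅X, Y⁆ = q := by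
    intro X Y hX hY hX1 hY1 hne
    have hXY : σ (X * Y) ≠ 1 := fun e' => hne (by
      rw [map_mul, mul_eq_one_iff_eq_inv, inv_eq_of_mul_eq_one_left (h.sq _ hY)] at e'
      exact e')
    have e1 := hlift _ (by rw [map_mul]; exact mul_mem hX hY) hXY
    have e2 := hlift X hX hX1
    have e3 := hlift Y hY hY1
    have cq := cen hqk
    calc ⁅X, Y⁆ = X * Y * X⁻¹ * Y⁻¹ := commutatorElement_def _ _
      _ = X * Y * (X * (X * X)⁻¹) * (Y * (Y * Y)⁻¹) := by group
      _ = X * Y * (X * q) * (Y * q) := by rw [e2, e3, hqi]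
      _ = X * Y * X * (q * Y) * q := by group
      _ = X * Y * X * (Y * q) * q := by rw [← cq Y]
      _ = (X * Y) * (X * Y) * (q * q) := by group
      _ = q := by rw [e1, hqq, mul_one]
  have hq1 : q = 1 := by
    obtain ⟨x, hx, y, hy, w, hw, hx1, hy1, hw1, hxy, hxw, hyw, hxyw⟩ := h.big
    obtain ⟨X, hX'⟩ := hσ x
    obtain ⟨Y, hY'⟩ := hσ y
    obtain ⟨W, hW'⟩ := hσ w
    have hne : y * w ≠ 1 := fun e' => hyw (by
      rw [mul_eq_one_iff_eq_inv, inv_eq_of_mul_eq_one_left (h.sq w hw)] at e'; exact e')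
    have e1 : ⁅X, Y * W⁆ = q := hpair X (Y * W) (by rwa [hX'])
      (by rw [map_mul, hY', hW']; exact mul_mem hy hw) (by rwa [hX'])
      (by rwa [map_mul, hY', hW']) (by rwa [map_mul, hX', hY', hW'])
    have e2 : ⁅X, Y⁆ = q := hpair X Y (by rwa [hX']) (by rwa [hY']) (by rwa [hX']) (by rwa [hY'])
      (by rwa [hX', hY'])
    have e3 : ⁅X, W⁆ = q := hpair X W (by rwa [hX']) (by rwa [hW']) (by rwa [hX']) (by rwa [hW'])
      (by rwa [hX', hW'])
    have e4 : ⁅X, Y * W⁆ = ⁅X, Y⁆ * (Y * ⁅X, W⁆ * Y⁻¹) := by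
      simp only [commutatorElement_def]; group
    rw [e1, e2, e3, cen hqk Y, mul_inv_cancel_right, hqq] at e4
    exact e4
  have hEsq : ∀ X : Γ, σ X ∈ E → X * X = 1 := fun X hX => by
    by_cases hX1 : σ X = 1
    · rw [← pow_two]; exact hexp X hX1
    · rw [hlift X hX hX1, hq1]
  have hEcomm : ∀ X Y : Γ, σ X ∈ E → σ Y ∈ E → X * Y = Y * X := fun X Y hX hY => by
    have hi : ∀ Z : Γ, σ Z ∈ E → Z⁻¹ = Z := fun Z hZ => inv_eq_of_mul_eq_one_left (hEsq Z hZ)
    calc X * Y = (X * Y)⁻¹ := (hi _ (by rw [map_mul]; exact mul_mem hX hY)).symm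
      _ = Y * X := by rw [mul_inv_rev, hi Y hY, hi X hX]
  have hcs : ∀ X : Γ, σ X ∈ E → σ ⁅X, S⁆ ∈ E := fun X hX => by
    rw [map_commutatorElement, hS, commutatorElement_def, mul_assoc (σ X), mul_assoc (σ X)]
    exact mul_mem hX (h.norm_s _ (inv_mem hX))
  have hhom : ∀ X Y : Γ, σ X ∈ E → σ Y ∈ E → ⁅X * Y, S⁆ = ⁅X, S⁆ * ⁅Y, S⁆ := fun X Y hX hY => by
    have h1 : ⁅X * Y, S⁆ = X * ⁅Y, S⁆ * X⁻¹ * ⁅X, S⁆ := by
      simp only [commutatorElement_def]; group
    rw [h1, hEcomm X _ hX (hcs Y hY), mul_inv_cancel_right, hEcomm _ _ (hcs Y hY) (hcs X hX)]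
  let E₀ : Subgroup Γ :=
    { carrier := {Y | ∃ X, σ X ∈ E ∧ ⁅X, S⁆ = Y}
      one_mem' := ⟨1, by rw [map_one]; exact one_mem E, commutatorElement_one_left S⟩
      mul_mem' := by
        rintro _ _ ⟨X, hX, rfl⟩ ⟨Y, hY, rfl⟩
        exact ⟨X * Y, by rw [map_mul]; exact mul_mem hX hY, hhom X Y hX hY⟩
      inv_mem' := by
        rintro _ ⟨X, hX, rfl⟩
        exact ⟨X, hX, (inv_eq_of_mul_eq_one_left (hEsq _ (hcs X hX))).symm⟩ }
  have hE₀E : ∀ Y ∈ E₀, σ Y ∈ E := by rintro _ ⟨X, hX, rfl⟩; exact hcs X hX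
  have hE₀ker : ∀ Y ∈ E₀, σ Y = 1 → Y = 1 := by
    rintro _ ⟨X, hX, rfl⟩ h1
    rw [map_commutatorElement, commutatorElement_eq_one_iff_mul_comm, hS] at h1
    have := cen (h.fpf _ hX h1.symm) S
    exact commutatorElement_eq_one_iff_mul_comm.2 this.symm
  have hE₀surj : ∀ x ∈ E, ∃ Y ∈ E₀, σ Y = x := by
    intro x hx
    let f : E → E := fun y => ⟨⁅(y : G), s⁆, by
      rw [commutatorElement_def, mul_assoc (y : G), mul_assoc (y : G)]
      exact mul_mem y.2 (h.norm_s _ (inv_mem y.2))⟩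
    have hf : Function.Injective f := by
      intro y y' hyy
      have e1 : (y : G) * s * (y : G)⁻¹ = (y' : G) * s * (y' : G)⁻¹ :=
        mul_right_cancel (congrArg Subtype.val hyy : (y : G) * s * (y : G)⁻¹ * s⁻¹ = _)
      have hm := h.fpf _ (mul_mem (inv_mem y'.2) y.2) (by
        calc s * ((y' : G)⁻¹ * y) = (y' : G)⁻¹ * ((y' : G) * s * (y' : G)⁻¹) * y := by group
          _ = (y' : G)⁻¹ * y * s := by rw [← e1]; group)
      exact Subtype.ext (inv_mul_eq_one.1 hm).symm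
    obtain ⟨y, hy⟩ := Finite.surjective_of_injective hf ⟨x, hx⟩
    obtain ⟨Y, hY⟩ := hσ (y : G)
    exact ⟨⁅Y, S⁆, ⟨Y, by rw [hY]; exact y.2, rfl⟩,
      by rw [map_commutatorElement, hY, hS]; exact congrArg Subtype.val hy⟩
  -- elements normalising `E` and `⟨s⟩` preserve `E₀`
  have hinv : ∀ g : Γ, (∀ x ∈ E, σ g * x * (σ g)⁻¹ ∈ E) →
      (σ g * s * (σ g)⁻¹ = s ∨ σ g * s * (σ g)⁻¹ = s⁻¹) → ∀ Y ∈ E₀, g * Y * g⁻¹ ∈ E₀ := by
    rintro g hgE hgs _ ⟨X, hX, rfl⟩
    have hX' : σ (g * X * g⁻¹) ∈ E := by simp only [map_mul, map_inv]; exact hgE _ hX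
    have e1 : g * ⁅X, S⁆ * g⁻¹ = ⁅g * X * g⁻¹, g * S * g⁻¹⁆ := by
      simp only [commutatorElement_def]; group
    have hcentral : ∀ (W U z : Γ), σ z = 1 → ⁅W, U * z⁆ = ⁅W, U⁆ := by
      intro W U z hzk
      calc ⁅W, U * z⁆ = W * U * (z * W⁻¹) * z⁻¹ * U⁻¹ := by
            simp only [commutatorElement_def]; group
        _ = W * U * (W⁻¹ * z) * z⁻¹ * U⁻¹ := by rw [← cen hzk W⁻¹]
        _ = ⁅W, U⁆ := by simp only [commutatorElement_def]; group
    rcases hgs with hgs | hgs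
    · obtain ⟨z, hzk, hzz⟩ : ∃ z, σ z = 1 ∧ g * S * g⁻¹ = S * z :=
        ⟨S⁻¹ * (g * S * g⁻¹), by simp only [map_mul, map_inv, hS, hgs, inv_mul_cancel], by group⟩
      exact ⟨g * X * g⁻¹, hX', by rw [e1, hzz, hcentral _ _ _ hzk]⟩
    · obtain ⟨z, hzk, hzz⟩ : ∃ z, σ z = 1 ∧ g * S * g⁻¹ = S⁻¹ * z :=
        ⟨S * (g * S * g⁻¹), by simp only [map_mul, map_inv, hS, hgs, mul_inv_cancel], by group⟩
      set W := g * X * g⁻¹
      have hW : σ (S⁻¹ * W * S) ∈ E := by
        have hfin := h.norm_s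
        have : ∀ x ∈ E, s⁻¹ * x * s ∈ E := by
          intro x hx
          let f : E → E := fun y => ⟨s * y * s⁻¹, hfin _ y.2⟩
          have hf : Function.Injective f := fun y y' hyy => Subtype.ext
            (mul_left_cancel (mul_right_cancel (congrArg Subtype.val hyy :
              s * (y : G) * s⁻¹ = s * (y' : G) * s⁻¹)))
          obtain ⟨y, hy⟩ := Finite.surjective_of_injective hf ⟨x, hx⟩
          have hy' : s * (y : G) * s⁻¹ = x := congrArg Subtype.val hy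
          rw [← hy']
          convert y.2 using 1
          group
        rw [map_mul, map_mul, map_inv, hS]
        exact this _ hX'
      refine ⟨S⁻¹ * W * S, hW, ?_⟩
      rw [e1, hzz, hcentral _ _ _ hzk,
        ← inv_eq_of_mul_eq_one_left (hEsq _ (hcs _ hW)), commutatorElement_inv]
      simp only [commutatorElement_def]; group
  -- the dihedral part
  have hBB : B * B = 1 := by rw [hsq (hB.symm ▸ h.conj_b), hq1]
  have hBA : (B * A) * (B * A) = 1 := by
    rw [hsq (by rw [map_mul, hB, hA]; exact h.conj_ba), hq1]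
  have hA4 : A ^ 4 = 1 := by
    rw [show A ^ 4 = (A * A) * (A * A) by simp only [pow_succ, pow_zero, one_mul, mul_assoc],
      hsq (by rw [map_mul, hA]; exact h.conj_aa), hq1]
  have hbab : B * A = A⁻¹ * B := by
    calc B * A = (B * A)⁻¹ := (inv_eq_of_mul_eq_one_left hBA).symm
      _ = A⁻¹ * B := by rw [mul_inv_rev, inv_eq_of_mul_eq_one_left hBB]
  have hD : ∀ x ∈ Subgroup.closure ({A, B} : Set Γ), ∃ i < 4, ∃ j < 2, x = A ^ i * B ^ j := by
    intro x hx
    rw [← Subgroup.mem_toSubmonoid, Subgroup.closure_toSubmonoid_of_finite] at hx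
    induction hx using Submonoid.closure_induction_left with
    | one => exact ⟨0, by norm_num, 0, by norm_num, by simp⟩
    | mul_left y hy z _ ih =>
      obtain ⟨i, hi, j, hj, rfl⟩ := ih
      rcases hy with rfl | hy
      · exact ⟨(i + 1) % 4, by omega, j, hj, by
          rw [← mul_assoc, ← pow_succ', ← pow_eq_pow_mod _ hA4]⟩
      · have hy' : y = B := hy
        subst hy'
        refine ⟨(4 - i) % 4, by omega, (j + 1) % 2, by omega, ?_⟩
        have e1 : ∀ m : ℕ, y * A ^ m = (A⁻¹) ^ m * y := fun m => by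
          induction m with
          | zero => simp
          | succ m ihm => rw [pow_succ, ← mul_assoc, ihm, mul_assoc, hbab, pow_succ, mul_assoc]
        rw [← mul_assoc, e1, mul_assoc, ← pow_succ', ← pow_eq_pow_mod _ hA4,
          ← pow_eq_pow_mod _ (show y ^ 2 = 1 by rw [pow_two, hBB])]
        congr 1
        rw [inv_pow, inv_eq_iff_mul_eq_one, ← pow_add, show i + (4 - i) = 4 by omega, hA4]
  set D := Subgroup.closure ({A, B} : Set Γ) with hDdef
  have hnorm : D ≤ normalizer (E₀ : Set Γ) := by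
    rw [hDdef, Subgroup.closure_le]
    have key : ∀ g : Γ, (∀ Y ∈ E₀, g * Y * g⁻¹ ∈ E₀) → g ∈ normalizer (E₀ : Set Γ) := by
      intro g hg
      rw [mem_normalizer_iff]
      refine fun Y => ⟨hg Y, fun hY => ?_⟩
      let f : E₀ → E₀ := fun W => ⟨g * W * g⁻¹, hg _ W.2⟩
      have hf : Function.Injective f := fun W W' hWW => Subtype.ext
        (mul_left_cancel (mul_right_cancel (congrArg Subtype.val hWW :
          g * (W : Γ) * g⁻¹ = g * (W' : Γ) * g⁻¹)))
      obtain ⟨W, hW⟩ := Finite.surjective_of_injective hf ⟨_, hY⟩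
      have hW' : g * (W : Γ) * g⁻¹ = g * Y * g⁻¹ := congrArg Subtype.val hW
      rw [← mul_left_cancel (mul_right_cancel hW')]
      exact W.2
    rintro g (rfl | rfl)
    · exact key _ (hinv _ (by rw [hA]; exact h.norm_a) (by rw [hA]; exact h.act_a))
    · exact key _ (hinv _ (by rw [hB]; exact h.norm_b) (by rw [hB]; exact h.act_b))
  set K := E₀ ⊔ D with hK
  have hKmem : ∀ x ∈ K, ∃ Y ∈ E₀, ∃ i < 4, ∃ j < 2, x = Y * (A ^ i * B ^ j) := by
    intro x hx
    rw [← SetLike.mem_coe, hK, Subgroup.coe_mul_of_right_le_normalizer_left E₀ D hnorm] at hx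
    obtain ⟨Y, hY, d, hd, rfl⟩ := hx
    obtain ⟨i, hi, j, hj, rfl⟩ := hD d hd
    exact ⟨Y, hY, i, hi, j, hj, rfl⟩
  have hAK : ∀ i j : ℕ, A ^ i * B ^ j ∈ K := fun i j => Subgroup.mem_sup_right
    (mul_mem (pow_mem (Subgroup.subset_closure (by simp)) i)
      (pow_mem (Subgroup.subset_closure (by simp)) j))
  refine ⟨K, ?_, ?_⟩
  · rw [eq_bot_iff]
    rintro x ⟨hx, hx1⟩
    obtain ⟨Y, hY, i, hi, j, hj, rfl⟩ := hKmem x hx
    have hx1' : σ Y * (a ^ i * b ^ j) = 1 := by simpa [hA, hB] using hx1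
    obtain ⟨rfl, rfl⟩ := h.indep i hi j hj (by
      rw [← inv_eq_of_mul_eq_one_right hx1']; exact inv_mem (hE₀E _ hY))
    simp only [pow_zero, mul_one] at hx1' ⊢
    exact Subgroup.mem_bot.2 (hE₀ker Y hY hx1')
  · let f : E × Fin 4 × Fin 2 → K.map σ := fun p =>
      ⟨(p.1 : G) * (a ^ p.2.1.val * b ^ p.2.2.val), by
        obtain ⟨Y, hY, hY'⟩ := hE₀surj _ p.1.2
        exact ⟨Y * (A ^ p.2.1.val * B ^ p.2.2.val),
          mul_mem (Subgroup.mem_sup_left hY) (hAK _ _), by simp [hA, hB, hY']⟩⟩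
    have hbab' : b * a = a⁻¹ * b := by simpa [hA, hB] using congrArg σ hbab
    have ha4 : a ^ 4 = 1 := by simpa [hA] using congrArg σ hA4
    have hbb : b * b = 1 := by simpa [hB] using congrArg σ hBB
    have hbij : Function.Bijective f := by
      constructor
      · rintro ⟨x, i, j⟩ ⟨x', i', j'⟩ hxx
        have e1 : (x : G) * (a ^ i.val * b ^ j.val) = (x' : G) * (a ^ i'.val * b ^ j'.val) :=
          congrArg Subtype.val hxx
        -- the quotient of the two dihedral elements lies in `E`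
        have hmem : A ^ i.val * B ^ j.val * (A ^ i'.val * B ^ j'.val)⁻¹ ∈ D :=
          mul_mem (mul_mem (pow_mem (Subgroup.subset_closure (by simp)) _)
            (pow_mem (Subgroup.subset_closure (by simp)) _))
            (inv_mem (mul_mem (pow_mem (Subgroup.subset_closure (by simp)) _)
            (pow_mem (Subgroup.subset_closure (by simp)) _)))
        obtain ⟨k, hk, l, hl, ekl⟩ := hD _ hmem
        have e2 : a ^ i.val * b ^ j.val * (a ^ i'.val * b ^ j'.val)⁻¹ = a ^ k * b ^ l := by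
          simpa [hA, hB] using congrArg σ ekl
        obtain ⟨rfl, rfl⟩ := h.indep k hk l hl (by
          rw [← e2, show a ^ i.val * b ^ j.val * (a ^ i'.val * b ^ j'.val)⁻¹ = (x : G)⁻¹ * x' by
            rw [eq_inv_mul_iff_mul_eq, ← mul_assoc, e1, mul_inv_cancel_right]]
          exact mul_mem (inv_mem x.2) x'.2)
        simp only [pow_zero, mul_one, mul_inv_eq_one] at e2
        rw [e2] at e1
        have hxeq : x = x' := Subtype.ext (mul_right_cancel e1)
        subst hxeq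
        have hsmall : ∀ i i' : Fin 4, ∀ j j' : Fin 2, a ^ i.val * b ^ j.val =
            a ^ i'.val * b ^ j'.val → i = i' ∧ j = j' := by
          intro i i' j j' e3
          set k := (i.val + (4 - i'.val)) % 4 with hk
          have hk4 : k < 4 := Nat.mod_lt _ (by norm_num)
          have e4 : a ^ k * b ^ j.val = b ^ j'.val := by
            rw [hk, ← pow_eq_pow_mod _ ha4, add_comm, pow_add, mul_assoc, e3, ← mul_assoc,
              ← pow_add, Nat.sub_add_cancel (by omega), ha4, one_mul]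
          have hone : ∀ m < 4, a ^ m = 1 → m = 0 := fun m hm h1 =>
            (h.indep m hm 0 (by norm_num) (by rw [h1, pow_zero, mul_one]; exact one_mem E)).1
          have hno : ∀ m < 4, a ^ m * b ≠ 1 := fun m hm h1 => by
            have := (h.indep m hm 1 (by norm_num) (by rw [pow_one, h1]; exact one_mem E)).2
            omega
          fin_cases j <;> fin_cases j' <;>
            simp only [Fin.zero_eta, Fin.mk_one, Fin.val_zero, Fin.val_one, pow_zero, pow_one,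
              mul_one] at e4 ⊢
          · have := hone k hk4 e4
            exact ⟨Fin.ext (by omega), trivial⟩
          · exfalso
            refine hno ((4 - k) % 4) (Nat.mod_lt _ (by norm_num)) ?_
            rw [← e4, ← pow_eq_pow_mod _ ha4, ← pow_add, Nat.sub_add_cancel (by omega), ha4]
          · exact absurd e4 (hno k hk4)
          · have := hone k hk4 (mul_eq_right.1 e4)
            exact ⟨Fin.ext (by omega), trivial⟩
        obtain ⟨hi, hj⟩ := hsmall i i' j j' e2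
        rw [hi, hj]
      · rintro ⟨_, x, hx, rfl⟩
        obtain ⟨Y, hY, i, hi, j, hj, rfl⟩ := hKmem x hx
        exact ⟨⟨⟨σ Y, hE₀E _ hY⟩, ⟨i, hi⟩, ⟨j, hj⟩⟩, Subtype.ext (by simp [f, hA, hB])⟩
    rw [← Nat.card_congr (Equiv.ofBijective f hbij)]
    simp [Nat.card_prod, mul_comm]

/-- The local statement for the prime 2. -/
theorem ker_eq_bot_of_fpf [Finite Γ] (σ : Γ →* G) (hσ : Cfsg.IsStemExtension σ)
    (hexp : ∀ z ∈ σ.ker, z ^ 2 = 1) {E : Subgroup G} {e a b s : G} (h : FpfDihedral E e a b s)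
    (hidx : ∀ m : ℕ, m * (8 * Nat.card E) = Nat.card G → ¬ 2 ∣ m) : σ.ker = ⊥ := by
  obtain ⟨hsur, hz, hc⟩ := hσ
  obtain ⟨K, hKz, hKcard⟩ := exists_complement_of_fpf σ hsur hz hexp h
  refine ker_eq_bot_of_local σ hz hc Nat.prime_two hexp ((K.map σ).comap σ) ?_
    (commutator_inf_ker_eq_bot_of_complement σ hz _ K hKz (Subgroup.map_comap_le _ _))
  rw [Subgroup.index_comap_of_surjective _ hsur]
  exact hidx _ (by rw [← hKcard]; exact Subgroup.index_mul_card _)

end Cfsg.Agent.Schur
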