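import Cfsg.Agent.Lib.Schur.Basic
import Mathlib

/-!
# Restriction and corestriction of Schur multipliers

* `exists_res_cor` : for `U ≤ G` there are maps `mult (pres G) → mult (pres U) → mult (pres G)` composing to
  the `[G : U]`-th power map.
-/

set_option autoImplicit false

namespace Cfsg.Agent.Schur

open Subgroup

universe u v w

/-- Translation of coordinates. -/
def permAut (G : Type u) [Group G] (X : Type v) [MulAction G X] (K : Type w) [Group K] :
    G →* MulAut (X → K) where
  toFun g :=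
    { toFun := fun f x => f (g⁻¹ • x)
      invFun := fun f x => f (g • x)
      left_inv := fun f => funext fun x => by simp
      right_inv := fun f => funext fun x => by simp
      map_mul' := fun _ _ => rfl }
  map_one' := MulEquiv.ext fun f => funext fun x => by simp
  map_mul' a b := MulEquiv.ext fun f => funext fun x => by simp [mul_smul]

theorem permAut_apply (G : Type u) [Group G] (X : Type v) [MulAction G X] (K : Type w) [Group K]
    (g : G) (f : X → K) (x : X) : permAut G X K g f x = f (g⁻¹ • x) := rfl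

/-- The product over the coordinates in an abelian image. -/
def prodHom (G : Type u) [Group G] (X : Type v) [MulAction G X] [Fintype X] {K : Type w} [Group K]
    {A : Type*} [CommGroup A] (χ : K →* A) : (X → K) ⋊[permAut G X K] G →* A where
  toFun a := ∏ y, χ (a.left y)
  map_one' := by simp
  map_mul' a b := by
    rw [← Equiv.prod_comp (MulAction.toPerm a.right⁻¹) (fun y => χ (b.left y)), ← Finset.prod_mul_distrib]
    refine Finset.prod_congr rfl fun y _ => ?_
    show χ ((a.left * permAut G X K a.right b.left) y) = _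
    rw [Pi.mul_apply, map_mul, permAut_apply]
    rfl

variable {G : Type u} [Group G] [Finite G]

/-- Corestriction after restriction is multiplication by the index. -/
theorem exists_res_cor (U : Subgroup G) :
    ∃ (f : ↥(mult (pres G)) →* ↥(mult (pres ↥U))) (g : ↥(mult (pres ↥U)) →* ↥(mult (pres G))),
      ∀ x, g (f x) = x ^ U.index := by
  classical
  have : Fintype (G ⧸ U) := Fintype.ofFinite _
  set π := pres G
  set ρ := pres ↥U
  have hπ := pres_surjective G
  have hρ := pres_surjective ↥U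
  have hout : ∀ y : G ⧸ U, (QuotientGroup.mk y.out : G ⧸ U) = y := Quotient.out_eq
  have hco : ∀ (g : G) (y : G ⧸ U), y.out⁻¹ * g * (g⁻¹ • y).out ∈ U := by
    intro g y
    rw [mul_assoc, ← QuotientGroup.eq, hout]
    calc y = g • (g⁻¹ • y) := by rw [smul_inv_smul]
      _ = g • (QuotientGroup.mk (g⁻¹ • y).out : G ⧸ U) := by rw [hout]
      _ = _ := rfl
  let co : G →* (G ⧸ U → ↥U) ⋊[permAut G (G ⧸ U) ↥U] G :=
    { toFun := fun g => ⟨fun y => ⟨_, hco g y⟩, g⟩
      map_one' := SemidirectProduct.ext (funext fun y => Subtype.ext (by simp)) rfl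
      map_mul' := fun a b => SemidirectProduct.ext (funext fun y => Subtype.ext (by
        show y.out⁻¹ * (a * b) * ((a * b)⁻¹ • y).out = _
        rw [SemidirectProduct.mul_left, Pi.mul_apply, permAut_apply, Subgroup.coe_mul]
        show _ = y.out⁻¹ * a * (a⁻¹ • y).out * ((a⁻¹ • y).out⁻¹ * b * (b⁻¹ • a⁻¹ • y).out)
        rw [mul_inv_rev, mul_smul]
        group)) rfl }
  -- the lifted monomial map
  let L : FreeGroup G →* (G ⧸ U → Ext ρ) ⋊[permAut G (G ⧸ U) (Ext ρ)] G :=
    FreeGroup.lift fun i => ⟨fun y => Function.surjInv (extHom_surjective ρ hρ) ((co (π (FreeGroup.of i))).left y),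
      π (FreeGroup.of i)⟩
  let Mσ : (G ⧸ U → Ext ρ) ⋊[permAut G (G ⧸ U) (Ext ρ)] G →* (G ⧸ U → ↥U) ⋊[permAut G (G ⧸ U) ↥U] G :=
    SemidirectProduct.map ((extHom ρ).compLeft (G ⧸ U)) (MonoidHom.id G) (fun g => rfl)
  have hLM : Mσ.comp L = co.comp π := FreeGroup.ext_hom _ _ fun i => by
    refine SemidirectProduct.ext (funext fun y => ?_) ?_
    · show extHom ρ ((L (FreeGroup.of i)).left y) = _
      simp only [L, FreeGroup.lift_apply_of]
      exact Function.surjInv_eq _ _
    · show (L (FreeGroup.of i)).right = _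
      simp only [L, FreeGroup.lift_apply_of]
      rfl
  have hright : ∀ w, (L w).right = π w := fun w =>
    congrArg SemidirectProduct.right (DFunLike.congr_fun hLM w)
  have hleft : ∀ w y, extHom ρ ((L w).left y) = (co (π w)).left y := fun w y =>
    congrFun (congrArg SemidirectProduct.left (DFunLike.congr_fun hLM w)) y
  have hmul : ∀ w w' y, (L (w * w')).left y = (L w).left y * (L w').left ((π w)⁻¹ • y) := fun w w' y => by
    rw [map_mul, SemidirectProduct.mul_left, Pi.mul_apply, permAut_apply, hright]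
  have hker : ∀ r ∈ π.ker, ∀ y, (L r).left y ∈ rel ρ := fun r hr y => by
    show extHom ρ ((L r).left y) = 1
    rw [hleft, MonoidHom.mem_ker.mp hr, map_one, SemidirectProduct.one_left, Pi.one_apply]
  let : CommGroup ↥(rel ρ) :=
    { (rel ρ).toGroup with
      mul_comm := fun a b => Subtype.ext (mem_center_iff.mp (rel_le_center ρ b.2) (a : Ext ρ)) }
  let : CommGroup ↥(rel π) :=
    { (rel π).toGroup with
      mul_comm := fun a b => Subtype.ext (mem_center_iff.mp (rel_le_center π b.2) (a : Ext π)) }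
  let θ : ↥π.ker →* ↥(rel ρ) :=
    { toFun := fun r => ∏ y, ⟨(L r).left y, hker r r.2 y⟩
      map_one' := Finset.prod_eq_one fun y _ => Subtype.ext (by simp)
      map_mul' := fun a b => by
        rw [← Finset.prod_mul_distrib]
        refine Finset.prod_congr rfl fun y _ => Subtype.ext ?_
        show (L ((a : FreeGroup G) * b)).left y = _
        rw [hmul, MonoidHom.mem_ker.mp a.2, inv_one, one_smul]
        rfl }
  have hconj : ∀ (r : ↥π.ker) (w : FreeGroup G),
      θ ⟨w * r * w⁻¹, (MonoidHom.normal_ker π).conj_mem r r.2 w⟩ = θ r := by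
    intro r w
    refine Eq.trans ?_ (Equiv.prod_comp (MulAction.toPerm (π w)⁻¹) _)
    refine Finset.prod_congr rfl fun y _ => Subtype.ext ?_
    show (L (w * r * w⁻¹)).left y = (L r).left ((π w)⁻¹ • y)
    have h1 := hmul (w * r * w⁻¹) w y
    rw [inv_mul_cancel_right, hmul, MonoidHom.mem_ker.mp ((MonoidHom.normal_ker π).conj_mem r r.2 w), inv_one,
      one_smul, mem_center_iff.mp (rel_le_center ρ (hker r r.2 _))] at h1
    exact (mul_right_cancel h1).symm
  have hcr : ∀ r : ↥π.ker, (r : FreeGroup G) ∈ commRel π → θ r = 1 := by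
    have hle : commRel π ≤ θ.ker.map π.ker.subtype := by
      rw [commRel, Subgroup.commutator_le]
      intro a ha w _
      refine ⟨⟨a, ha⟩ * (⟨w * a⁻¹ * w⁻¹, (MonoidHom.normal_ker π).conj_mem _ (inv_mem ha) w⟩), ?_, ?_⟩
      · rw [SetLike.mem_coe, MonoidHom.mem_ker, map_mul]
        rw [hconj ⟨a⁻¹, inv_mem ha⟩ w, ← map_mul]
        rw [show (⟨a, ha⟩ : ↥π.ker) * ⟨a⁻¹, inv_mem ha⟩ = 1 from Subtype.ext (mul_inv_cancel a), map_one]
      · rw [commutatorElement_def]
        show a * (w * a⁻¹ * w⁻¹) = _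
        group
    intro r hr
    obtain ⟨r', hr', he⟩ := hle hr
    rw [← Subtype.ext (he : (r' : FreeGroup G) = r)]
    exact hr'
  let q : ↥π.ker →* ↥(rel π) := ((QuotientGroup.mk' (commRel π)).comp π.ker.subtype).codRestrict (rel π)
    fun r => r.2
  have hq : Function.Surjective q := fun x => by
    obtain ⟨w, hw⟩ := QuotientGroup.mk'_surjective (commRel π) (x : Ext π)
    have hwk : w ∈ π.ker := by
      have := x.2
      rw [← hw] at this
      exact this
    exact ⟨⟨w, hwk⟩, Subtype.ext hw⟩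
  let f0 : ↥(rel π) →* ↥(rel ρ) := MonoidHom.liftOfSurjective q hq ⟨θ, fun r hr =>
    hcr r ((QuotientGroup.eq_one_iff _).mp (congrArg Subtype.val (MonoidHom.mem_ker.mp hr)))⟩
  have hf0 : ∀ r, f0 (q r) = θ r := fun r => MonoidHom.liftOfRightInverse_comp_apply _ _ _ _ r
  have hrep : ∀ x : ↥(mult π), ∃ r : ↥π.ker, (r : FreeGroup G) ∈ _root_.commutator (FreeGroup G) ∧
      Subgroup.inclusion inf_le_left x = q r := by
    intro x
    have h2 := x.2.2
    rw [SetLike.mem_coe, ← map_commutator_of_surjective (QuotientGroup.mk'_surjective (commRel π))] at h2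
    obtain ⟨w, hw, hwx⟩ := h2
    have hwk : w ∈ π.ker := by
      have := x.2.1
      rw [← hwx] at this
      exact this
    exact ⟨⟨w, hwk⟩, hw, Subtype.ext hwx.symm⟩
  have hcomm : ∀ x : ↥(mult π), ((f0 (Subgroup.inclusion inf_le_left x) : ↥(rel ρ)) : Ext ρ) ∈ mult ρ := by
    intro x
    refine ⟨SetLike.coe_mem _, ?_⟩
    obtain ⟨r, hr, hrx⟩ := hrep x
    rw [hrx, hf0]
    show (θ r : Ext ρ) ∈ _root_.commutator (Ext ρ)
    rw [← Abelianization.ker_of, MonoidHom.mem_ker]
    have h1 : (prodHom G (G ⧸ U) (Abelianization.of (G := Ext ρ))).comp L (r : FreeGroup G) = 1 :=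
      MonoidHom.mem_ker.mp (Abelianization.commutator_subset_ker _ hr)
    refine Eq.trans ?_ h1
    show (Abelianization.of.comp (rel ρ).subtype) (θ r) = ∏ y, Abelianization.of ((L r).left y)
    exact map_prod (Abelianization.of.comp (rel ρ).subtype) _ _
  let f : ↥(mult π) →* ↥(mult ρ) := ((rel ρ).subtype.comp (f0.comp (Subgroup.inclusion inf_le_left))).codRestrict
    (mult ρ) hcomm
  -- the map back
  let Δ : Subgroup (Ext π) := U.comap (extHom π)
  let τ : ↥Δ →* ↥U := ((extHom π).comp Δ.subtype).codRestrict U fun x => x.2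
  have hτ : Function.Surjective τ := fun u => by
    obtain ⟨x, hx⟩ := extHom_surjective π hπ u
    exact ⟨⟨x, show extHom π x ∈ U by rw [hx]; exact u.2⟩, Subtype.ext hx⟩
  have hτz : τ.ker ≤ center ↥Δ := fun x hx => mem_center_iff.mpr fun y =>
    Subtype.ext (mem_center_iff.mp (rel_le_center π (congrArg Subtype.val hx)) y)
  let ψ : Ext ρ →* Ext π := Δ.subtype.comp (toExt ρ hτ hτz)
  have hψ : ∀ x, extHom π (ψ x) = (extHom ρ x : G) := fun x =>
    congrArg Subtype.val (DFunLike.congr_fun (comp_toExt ρ hτ hτz) x)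
  have hψm : ∀ x : ↥(mult ρ), ψ (x : Ext ρ) ∈ mult π := fun x => by
    refine ⟨?_, map_commutator_le ψ ⟨_, x.2.2, rfl⟩⟩
    show extHom π (ψ x) = 1
    rw [hψ, show extHom ρ (x : Ext ρ) = 1 from x.2.1]
    rfl
  let g : ↥(mult ρ) →* ↥(mult π) := (ψ.comp (mult ρ).subtype).codRestrict (mult π) hψm
  refine ⟨f, g, fun x => Subtype.ext ?_⟩
  -- comparison of the two monomial maps
  set S : G ⧸ U → Ext π := fun y => Function.surjInv (extHom_surjective π hπ) y.out
  have hS : ∀ y, extHom π (S y) = y.out := fun y => Function.surjInv_eq _ _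
  let B : FreeGroup G → G ⧸ U → Ext π := fun w y => (S y)⁻¹ * QuotientGroup.mk w * S ((π w)⁻¹ • y)
  have hd : ∀ w y, ψ ((L w).left y) * (B w y)⁻¹ ∈ rel π := fun w y => by
    rw [MonoidHom.mem_ker, map_mul, map_inv, hψ, hleft, mul_inv_eq_one]
    simp only [B, map_mul, map_inv, hS, extHom_mk]
    rfl
  let d : FreeGroup G → G ⧸ U → ↥(rel π) := fun w y => ⟨_, hd w y⟩
  have hdm : ∀ w w' y, d (w * w') y = d w y * d w' ((π w)⁻¹ • y) := by
    intro w w' y
    refine Subtype.ext ?_
    show ψ ((L (w * w')).left y) * (B (w * w') y)⁻¹ =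
      ψ ((L w).left y) * (B w y)⁻¹ * (d w' ((π w)⁻¹ • y) : Ext π)
    have hB : B (w * w') y = B w y * B w' ((π w)⁻¹ • y) := by
      simp only [B, map_mul, mul_inv_rev, mul_smul, QuotientGroup.mk_mul]
      group
    rw [hB, hmul, map_mul, mul_inv_rev]
    calc ψ ((L w).left y) * ψ ((L w').left ((π w)⁻¹ • y)) * ((B w' ((π w)⁻¹ • y))⁻¹ * (B w y)⁻¹)
        = ψ ((L w).left y) * ((d w' ((π w)⁻¹ • y) : Ext π) * (B w y)⁻¹) := by
          show _ = ψ _ * (ψ _ * (B w' _)⁻¹ * (B w y)⁻¹)
          simp only [mul_assoc]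
      _ = ψ ((L w).left y) * ((B w y)⁻¹ * (d w' ((π w)⁻¹ • y) : Ext π)) := by
          rw [mem_center_iff.mp (rel_le_center π (d w' ((π w)⁻¹ • y)).2)]
      _ = _ := (mul_assoc _ _ _).symm
  let δ : FreeGroup G →* ↥(rel π) := MonoidHom.mk' (fun w => ∏ y, d w y) fun w w' => by
    simp only [hdm, Finset.prod_mul_distrib]
    rw [← Equiv.prod_comp (MulAction.toPerm (π w)⁻¹) (d w')]
    rfl
  obtain ⟨r, hr, hrx⟩ := hrep x
  have hδ : δ (r : FreeGroup G) = 1 := MonoidHom.mem_ker.mp (Abelianization.commutator_subset_ker _ hr)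
  show ψ (f0 (Subgroup.inclusion inf_le_left x) : Ext ρ) = ((x ^ U.index : ↥(mult π)) : Ext π)
  rw [hrx, hf0, Subgroup.coe_pow,
    show (x : Ext π) = QuotientGroup.mk (r : FreeGroup G) from congrArg Subtype.val hrx]
  let χ : ↥(rel ρ) →* ↥(rel π) := (ψ.comp (rel ρ).subtype).codRestrict (rel π) fun z => by
    rw [MonoidHom.mem_ker, MonoidHom.comp_apply, Subgroup.subtype_apply, hψ,
      show extHom ρ (z : Ext ρ) = 1 from z.2]
    rfl
  have hterm : ∀ y, χ ⟨(L r).left y, hker r r.2 y⟩ = d r y * q r := by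
    intro y
    refine Subtype.ext ?_
    have hB : B r y = QuotientGroup.mk (r : FreeGroup G) := by
      simp only [B, MonoidHom.mem_ker.mp r.2, inv_one, one_smul]
      rw [mem_center_iff.mp (rel_le_center π (q r).2 : QuotientGroup.mk (r : FreeGroup G) ∈ center (Ext π)) (S y)⁻¹,
        mul_assoc, inv_mul_cancel, mul_one]
    show ψ ((L r).left y) = ψ ((L r).left y) * (B r y)⁻¹ * QuotientGroup.mk (r : FreeGroup G)
    rw [hB, inv_mul_cancel_right]
  have hfinal : χ (θ r) = q r ^ U.index := by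
    rw [show θ r = ∏ y, (⟨(L r).left y, hker r r.2 y⟩ : ↥(rel ρ)) from rfl, map_prod]
    simp only [hterm, Finset.prod_mul_distrib]
    rw [show ∏ y, d r y = 1 from hδ, one_mul, Finset.prod_const, Finset.card_univ, ← Nat.card_eq_fintype_card]
    rfl
  exact (congrArg Subtype.val hfinal).trans (Subgroup.coe_pow _ _ _)

end Cfsg.Agent.Schur
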