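import Mathlib
import Cfsg.Prelude.Def_KGroupFacts

/-!
# The Schur multiplier through free presentations (Hopf formula)

For a homomorphism `π : F → Q` from a free group of finite rank, `Ext π = F / [R, F]` (`R = ker π`),
`rel π` is the image of `R` and `mult π = rel π ⊓ (Ext π)'` is the Schur multiplier.

* `toExt` : the map of `Ext π` to any central extension; `eq_mul_of_comp_eq`, `eqOn_commutator`
* `finite_commutator_ext`, `finite_mult`
* `exists_complement` : complements of `mult π` in `rel π` inside a given `K`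
* `hasSchurMultiplier_mult`, `equiv_mult_of_hasSchurMultiplier`
-/

set_option autoImplicit false

namespace Cfsg.Agent.Schur

open Subgroup
open scoped commutatorElement

universe u v w

theorem map_commutator_le {X : Type v} {Y : Type w} [Group X] [Group Y] (f : X →* Y) :
    (_root_.commutator X).map f ≤ _root_.commutator Y := by
  rw [commutator_def, commutator_def, Subgroup.map_commutator]
  exact Subgroup.commutator_mono le_top le_top

theorem map_commutator_of_surjective {X : Type v} {Y : Type w} [Group X] [Group Y] {f : X →* Y}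
    (hf : Function.Surjective f) : (_root_.commutator X).map f = _root_.commutator Y := by
  rw [commutator_def, commutator_def, Subgroup.map_commutator, Subgroup.map_top_of_surjective f hf]

variable {ι : Type w} {Q : Type u} [Group Q] (π : FreeGroup ι →* Q)

/-- `[R, F]` for `R = ker π`. -/
def commRel : Subgroup (FreeGroup ι) := ⁅π.ker, (⊤ : Subgroup (FreeGroup ι))⁆

instance commRel_normal : (commRel π).Normal := by
  unfold commRel
  infer_instance

/-- The universal central extension datum `F / [R, F]`. -/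
abbrev Ext : Type w := FreeGroup ι ⧸ commRel π

theorem commRel_le_ker : commRel π ≤ π.ker := Subgroup.commutator_le_left _ _

/-- The projection `F / [R, F] → Q`. -/
def extHom : Ext π →* Q := QuotientGroup.lift (commRel π) π (commRel_le_ker π)

theorem extHom_mk (w : FreeGroup ι) : extHom π (QuotientGroup.mk w) = π w := rfl

theorem extHom_surjective (hπ : Function.Surjective π) : Function.Surjective (extHom π) := fun q => by
  obtain ⟨w, rfl⟩ := hπ q
  exact ⟨_, extHom_mk π w⟩

/-- The image of `R` in `F / [R, F]`. -/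
abbrev rel : Subgroup (Ext π) := (extHom π).ker

theorem rel_le_center : rel π ≤ center (Ext π) := by
  intro x hx
  induction x using QuotientGroup.induction_on with
  | _ r =>
    rw [mem_center_iff]
    intro y
    induction y using QuotientGroup.induction_on with
    | _ f =>
      rw [← QuotientGroup.mk_mul, ← QuotientGroup.mk_mul, QuotientGroup.eq]
      have h : ⁅r⁻¹, f⁻¹⁆ ∈ commRel π :=
        Subgroup.commutator_mem_commutator (inv_mem (show r ∈ π.ker from hx)) (mem_top _)
      simpa [commutatorElement_def, mul_assoc] using h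

/-- The multiplier `(R ∩ F') / [R, F]`. -/
def mult : Subgroup (Ext π) := rel π ⊓ _root_.commutator (Ext π)

instance mult_isMulCommutative : IsMulCommutative ↥(mult π) :=
  ⟨⟨fun a b => Subtype.ext ((mem_center_iff.mp (rel_le_center π b.2.1)) (a : Ext π))⟩⟩

noncomputable instance multCommGroup : CommGroup ↥(mult π) :=
  { (mult π).toGroup with
    mul_comm := fun a b => Subtype.ext ((mem_center_iff.mp (rel_le_center π b.2.1)) (a : Ext π)) }

/-! ### Maps into central extensions -/

section Map

variable {Γ : Type v} [Group Γ] (σ : Γ →* Q)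

/-- Two maps over `Q` differ by a homomorphism into the kernel. -/
theorem div_hom {X : Type*} [Group X] {σ : Γ →* Q} (hz : σ.ker ≤ center Γ) {f g : X →* Γ}
    (h : σ.comp f = σ.comp g) :
    ∃ χ : X →* ↥(σ.ker), ∀ x, f x = g x * (χ x : Γ) := by
  have hk : ∀ x, (g x)⁻¹ * f x ∈ σ.ker := fun x => by
    have := DFunLike.congr_fun h x
    simp only [MonoidHom.comp_apply] at this
    simp [MonoidHom.mem_ker, this]
  refine ⟨{ toFun := fun x => ⟨(g x)⁻¹ * f x, hk x⟩
            map_one' := Subtype.ext (by simp)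
            map_mul' := fun x y => Subtype.ext ?_ }, fun x => by simp⟩
  show (g (x * y))⁻¹ * f (x * y) = (g x)⁻¹ * f x * ((g y)⁻¹ * f y)
  rw [map_mul, map_mul, mul_inv_rev]
  calc (g y)⁻¹ * (g x)⁻¹ * (f x * f y) = (g y)⁻¹ * ((g x)⁻¹ * f x) * f y := by group
    _ = ((g x)⁻¹ * f x) * (g y)⁻¹ * f y := by
        rw [mem_center_iff.mp (hz (hk x)) (g y)⁻¹]
    _ = _ := by group

/-- Two maps over `Q` agree on the derived subgroup. -/
theorem eqOn_commutator {X : Type*} [Group X] {σ : Γ →* Q} (hz : σ.ker ≤ center Γ) {f g : X →* Γ}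
    (h : σ.comp f = σ.comp g) {x : X} (hx : x ∈ _root_.commutator X) : f x = g x := by
  obtain ⟨χ, hχ⟩ := div_hom hz h
  have hle : _root_.commutator X ≤ χ.ker := by
    rw [commutator_eq_closure, closure_le]
    rintro _ ⟨a, b, rfl⟩
    simp only [SetLike.mem_coe, MonoidHom.mem_ker, map_commutatorElement]
    exact commutatorElement_eq_one_iff_mul_comm.mpr
      (Subtype.ext (mem_center_iff.mp (hz (χ b).2) (χ a : Γ)))
  rw [hχ x, MonoidHom.mem_ker.mp (hle hx)]
  simp

variable {σ} (hσ : Function.Surjective σ) (hz : σ.ker ≤ center Γ)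

/-- The free lift of a section. -/
noncomputable def freeLift : FreeGroup ι →* Γ :=
  FreeGroup.lift fun i => Function.surjInv hσ (π (FreeGroup.of i))

theorem comp_freeLift : σ.comp (freeLift π hσ) = π :=
  FreeGroup.ext_hom _ _ fun i => by simp [freeLift, Function.surjInv_eq hσ]

include hz in
theorem commRel_le_ker_freeLift : commRel π ≤ (freeLift π hσ).ker := by
  rw [commRel, Subgroup.commutator_le]
  intro r hr f _
  rw [MonoidHom.mem_ker, map_commutatorElement, commutatorElement_eq_one_iff_mul_comm]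
  have h : freeLift π hσ r ∈ σ.ker := by
    rw [MonoidHom.mem_ker]
    exact (DFunLike.congr_fun (comp_freeLift π hσ) r).trans hr
  exact (mem_center_iff.mp (hz h) _).symm

/-- The map of `F / [R, F]` to a central extension. -/
noncomputable def toExt : Ext π →* Γ :=
  QuotientGroup.lift (commRel π) (freeLift π hσ) (commRel_le_ker_freeLift π hσ hz)

theorem comp_toExt : σ.comp (toExt π hσ hz) = extHom π := by
  refine MonoidHom.ext fun x => ?_
  induction x using QuotientGroup.induction_on with
  | _ w => exact DFunLike.congr_fun (comp_freeLift π hσ) w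

variable (hπ : Function.Surjective π)

include hπ in
theorem range_toExt_sup_ker : (toExt π hσ hz).range ⊔ σ.ker = ⊤ := by
  refine top_unique fun y _ => ?_
  obtain ⟨x, hx⟩ := extHom_surjective π hπ (σ y)
  have h : (toExt π hσ hz x)⁻¹ * y ∈ σ.ker := by
    have h1 := DFunLike.congr_fun (comp_toExt π hσ hz) x
    simp only [MonoidHom.comp_apply] at h1
    rw [MonoidHom.mem_ker, map_mul, map_inv, h1, hx, inv_mul_cancel]
  rw [← mul_inv_cancel_left (toExt π hσ hz x) y]
  exact mul_mem (mem_sup_left ⟨x, rfl⟩) (mem_sup_right h)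

include hπ in
/-- Any map over `Q` is onto the derived subgroup. -/
theorem map_commutator_eq : (_root_.commutator (Ext π)).map (toExt π hσ hz) = _root_.commutator Γ := by
  refine le_antisymm ?_ ?_
  · exact map_commutator_le (toExt π hσ hz)
  · rw [commutator_eq_closure, closure_le]
    rintro _ ⟨a, b, rfl⟩
    have ha : a ∈ (toExt π hσ hz).range ⊔ σ.ker := range_toExt_sup_ker π hσ hz hπ ▸ mem_top a
    have hb : b ∈ (toExt π hσ hz).range ⊔ σ.ker := range_toExt_sup_ker π hσ hz hπ ▸ mem_top b
    have : σ.ker.Normal := MonoidHom.normal_ker σ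
    obtain ⟨_, ⟨x, rfl⟩, k, hk, rfl⟩ := (mem_sup_of_normal_right).mp ha
    obtain ⟨_, ⟨y, rfl⟩, l, hl, rfl⟩ := (mem_sup_of_normal_right).mp hb
    refine ⟨⁅x, y⁆, commutator_mem_commutator (mem_top _) (mem_top _), ?_⟩
    rw [map_commutatorElement]
    have hk' := fun g : Γ => mem_center_iff.mp (hz hk) g
    have hl' := fun g : Γ => mem_center_iff.mp (hz hl) g
    simp only [commutatorElement_def, mul_inv_rev]
    symm
    calc toExt π hσ hz x * k * (toExt π hσ hz y * l) * (k⁻¹ * (toExt π hσ hz x)⁻¹) *
            (l⁻¹ * (toExt π hσ hz y)⁻¹)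
        = toExt π hσ hz x * (k * (toExt π hσ hz y * l)) * (k⁻¹ * (toExt π hσ hz x)⁻¹) *
            (l⁻¹ * (toExt π hσ hz y)⁻¹) := by group
      _ = toExt π hσ hz x * ((toExt π hσ hz y * l) * k) * (k⁻¹ * (toExt π hσ hz x)⁻¹) *
            (l⁻¹ * (toExt π hσ hz y)⁻¹) := by rw [hk']
      _ = toExt π hσ hz x * toExt π hσ hz y * (l * (toExt π hσ hz x)⁻¹) *
            (l⁻¹ * (toExt π hσ hz y)⁻¹) := by group
      _ = toExt π hσ hz x * toExt π hσ hz y * ((toExt π hσ hz x)⁻¹ * l) *
            (l⁻¹ * (toExt π hσ hz y)⁻¹) := by rw [hl']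
      _ = _ := by group

include hπ in
/-- The multiplier maps onto `ker σ ⊓ Γ'`. -/
theorem map_mult : (mult π).map (toExt π hσ hz) = σ.ker ⊓ _root_.commutator Γ := by
  refine le_antisymm ?_ ?_
  · rintro _ ⟨x, hx, rfl⟩
    refine ⟨?_, map_commutator_eq π hσ hz hπ ▸ mem_map_of_mem _ hx.2⟩
    show σ (toExt π hσ hz x) = 1
    exact (DFunLike.congr_fun (comp_toExt π hσ hz) x).trans hx.1
  · rintro y ⟨hy1, hy2⟩
    rw [← map_commutator_eq π hσ hz hπ] at hy2
    obtain ⟨x, hx, rfl⟩ := hy2
    exact ⟨x, ⟨(DFunLike.congr_fun (comp_toExt π hσ hz) x).symm.trans hy1, hx⟩, rfl⟩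

include hπ in
theorem toExt_surjective (hs : σ.ker ≤ _root_.commutator Γ) : Function.Surjective (toExt π hσ hz) := by
  rw [← MonoidHom.range_eq_top]
  refine top_unique ((range_toExt_sup_ker π hσ hz hπ).ge.trans (sup_le le_rfl ?_))
  refine le_trans hs ?_
  rw [← map_commutator_eq π hσ hz hπ]
  exact map_le_range _ _

include hπ in
/-- The multiplier maps onto the kernel of a stem extension. -/
theorem exists_surjective_mult (hs : σ.ker ≤ _root_.commutator Γ) :
    ∃ f : ↥(mult π) →* ↥(σ.ker), Function.Surjective f ∧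
      ∀ m, ((f m : ↥(σ.ker)) : Γ) = toExt π hσ hz (m : Ext π) := by
  have h := map_mult π hσ hz hπ
  rw [inf_eq_left.mpr hs] at h
  refine ⟨((toExt π hσ hz).comp (mult π).subtype).codRestrict σ.ker
    (fun m => h ▸ mem_map_of_mem _ m.2), fun y => ?_, fun m => rfl⟩
  have hy : (y : Γ) ∈ (mult π).map (toExt π hσ hz) := by
    rw [h]
    exact y.2
  obtain ⟨x, hx, hxy⟩ := hy
  exact ⟨⟨x, hx⟩, Subtype.ext hxy⟩

end Map

/-! ### Finiteness -/

section Finite

variable [Finite Q]

theorem rel_finiteIndex : (rel π).FiniteIndex := by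
  refine ⟨?_⟩
  rw [rel, ← MonoidHom.comap_bot, index_comap, relIndex_bot_left]
  exact Nat.card_pos.ne'

theorem center_finiteIndex : (center (Ext π)).FiniteIndex := by
  have := rel_finiteIndex π
  exact Subgroup.finiteIndex_of_le (rel_le_center π)

instance finite_commutator_ext : Finite (_root_.commutator (Ext π)) := by
  have := center_finiteIndex π
  have : Finite (commutatorSet (Ext π)) := by
    let f : (Ext π ⧸ center (Ext π)) × (Ext π ⧸ center (Ext π)) → Ext π := fun p => ⁅p.1.out, p.2.out⁆
    refine ((Set.finite_range f).subset ?_).to_subtype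
    rintro _ ⟨a, b, rfl⟩
    refine ⟨(a, b), ?_⟩
    obtain ⟨z, hz⟩ := QuotientGroup.mk_out_eq_mul (center (Ext π)) a
    obtain ⟨t, ht⟩ := QuotientGroup.mk_out_eq_mul (center (Ext π)) b
    simp only [f]
    rw [hz, ht, commutatorElement_def, commutatorElement_def, mul_inv_rev, mul_inv_rev]
    have hz' := fun g : Ext π => mem_center_iff.mp z.2 g
    have ht' := fun g : Ext π => mem_center_iff.mp t.2 g
    calc a * z * (b * t) * ((z : Ext π)⁻¹ * a⁻¹) * ((t : Ext π)⁻¹ * b⁻¹)
        = a * ((z : Ext π) * (b * t)) * ((z : Ext π)⁻¹ * a⁻¹) * ((t : Ext π)⁻¹ * b⁻¹) := by group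
      _ = a * ((b * t) * (z : Ext π)) * ((z : Ext π)⁻¹ * a⁻¹) * ((t : Ext π)⁻¹ * b⁻¹) := by rw [hz']
      _ = a * b * ((t : Ext π) * a⁻¹) * ((t : Ext π)⁻¹ * b⁻¹) := by group
      _ = a * b * (a⁻¹ * (t : Ext π)) * ((t : Ext π)⁻¹ * b⁻¹) := by rw [ht']
      _ = _ := by group
  infer_instance

instance finite_mult : Finite ↥(mult π) :=
  Finite.of_injective (Subgroup.inclusion (inf_le_right : mult π ≤ _root_.commutator (Ext π)))
    (Subgroup.inclusion_injective _)

variable [Finite ι]

/-- The map to the free abelian group on `ι`. -/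
noncomputable def toFree : Additive (Ext π) →+ (ι →₀ ℤ) :=
  FreeAbelianGroup.toFinsupp.comp (MonoidHom.toAdditive
    (QuotientGroup.lift (commRel π) (Abelianization.of : FreeGroup ι →* Abelianization (FreeGroup ι))
      (((Subgroup.commutator_mono le_top le_rfl).trans (Abelianization.ker_of _).ge : _))))

theorem toFree_eq_zero_iff (x : Ext π) :
    toFree π (Additive.ofMul x) = 0 ↔ x ∈ _root_.commutator (Ext π) := by
  induction x using QuotientGroup.induction_on with
  | _ w =>
    have hinj : Function.Injective (FreeAbelianGroup.toFinsupp (X := ι)) :=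
      (FreeAbelianGroup.equivFinsupp ι).injective
    show FreeAbelianGroup.toFinsupp (Additive.ofMul (Abelianization.of w)) = 0 ↔ _
    constructor
    · intro h
      have h1 := hinj (h.trans (map_zero _).symm)
      have h2 : Abelianization.of w = 1 := h1
      have h3 : w ∈ _root_.commutator (FreeGroup ι) := by
        rw [← Abelianization.ker_of]
        exact h2
      have h4 := mem_map_of_mem (QuotientGroup.mk' (commRel π)) h3
      exact map_commutator_le _ h4
    · intro h
      have hle : _root_.commutator (Ext π) ≤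
          (_root_.commutator (FreeGroup ι)).map (QuotientGroup.mk' (commRel π)) := by
        rw [map_commutator_of_surjective (QuotientGroup.mk'_surjective _)]
      obtain ⟨v, hv, hvw⟩ := hle h
      have h5 : v⁻¹ * w ∈ _root_.commutator (FreeGroup ι) :=
        (Subgroup.commutator_mono le_top le_rfl : commRel π ≤ ⁅(⊤ : Subgroup (FreeGroup ι)), ⊤⁆)
          (QuotientGroup.eq.mp hvw)
      have h6 : w ∈ _root_.commutator (FreeGroup ι) := by simpa using mul_mem hv h5
      rw [← Abelianization.ker_of] at h6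
      rw [MonoidHom.mem_ker.mp h6]
      exact map_zero _

/-- Complements of the multiplier inside a given subgroup of `rel π`. -/
theorem exists_complement (K : Subgroup (Ext π)) (hK : K ≤ rel π) :
    ∃ C : Subgroup (Ext π), C ≤ K ∧ C ⊓ mult π = ⊥ ∧ K ≤ C ⊔ mult π := by
  let f : Additive ↥K →+ (ι →₀ ℤ) := (toFree π).comp (MonoidHom.toAdditive K.subtype)
  let : AddCommGroup (Additive ↥K) :=
    { (inferInstance : AddGroup (Additive ↥K)) with
      add_comm := fun a b => Subtype.ext
        (mem_center_iff.mp (rel_le_center π (hK (Additive.toMul b).2)) ((Additive.toMul a : ↥K) : Ext π)) }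
  let fl : Additive ↥K →ₗ[ℤ] (ι →₀ ℤ) := f.toIntLinearMap
  obtain ⟨s, hs⟩ : ∃ s : ↥(LinearMap.range fl) →ₗ[ℤ] Additive ↥K,
      fl.rangeRestrict.comp s = LinearMap.id :=
    Module.projective_lifting_property _ LinearMap.id fl.surjective_rangeRestrict
  let sec : Multiplicative ↥(LinearMap.range fl) →* Ext π :=
    K.subtype.comp (AddMonoidHom.toMultiplicativeLeft s.toAddMonoidHom)
  have hsec : ∀ y : ↥(LinearMap.range fl), f (s y) = (y : ι →₀ ℤ) := fun y =>
    congrArg Subtype.val (LinearMap.congr_fun hs y)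
  refine ⟨sec.range, ?_, ?_, ?_⟩
  · rintro _ ⟨y, rfl⟩
    exact (Additive.toMul (s (Multiplicative.toAdd y))).2
  · refine eq_bot_iff.mpr ?_
    rintro _ ⟨⟨y, rfl⟩, hy⟩
    rw [mem_bot]
    have h1 : f (s (Multiplicative.toAdd y)) = 0 := (toFree_eq_zero_iff π _).mpr hy.2
    have h2 : (Multiplicative.toAdd y : ↥(LinearMap.range fl)) = 0 :=
      Subtype.ext ((hsec _).symm.trans h1)
    have : y = 1 := h2
    rw [this, map_one]
  · intro x hx
    set y : ↥(LinearMap.range fl) := ⟨f (Additive.ofMul ⟨x, hx⟩), ⟨_, rfl⟩⟩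
    have hk : (Additive.toMul (s y) : ↥K) = ((Additive.toMul (s y) : ↥K) : Ext π) := rfl
    have hm : ((Additive.toMul (s y) : ↥K) : Ext π)⁻¹ * x ∈ mult π := by
      refine Subgroup.mem_inf.mpr ⟨mul_mem (inv_mem (hK (Additive.toMul (s y)).2)) (hK hx), ?_⟩
      rw [← toFree_eq_zero_iff π]
      show f (-(s y) + Additive.ofMul ⟨x, hx⟩) = 0
      rw [map_add, map_neg, hsec y, neg_add_cancel]
    rw [← mul_inv_cancel_left ((Additive.toMul (s y) : ↥K) : Ext π) x]
    exact mul_mem (mem_sup_left ⟨Multiplicative.ofAdd y, rfl⟩) (mem_sup_right hm)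

theorem normal_of_le_rel {C : Subgroup (Ext π)} (h : C ≤ rel π) : C.Normal :=
  ⟨fun c hc g => by
    rw [mem_center_iff.mp (rel_le_center π (h hc)) g, mul_inv_cancel_right]
    exact hc⟩

variable (hπ : Function.Surjective π)

include hπ in
/-- The stem extension attached to a complement of the multiplier. -/
theorem stem_of_complement {C : Subgroup (Ext π)} [C.Normal] (hC : C ≤ rel π)
    (hCM : C ⊓ mult π = ⊥) (hsup : rel π ≤ C ⊔ mult π) :
    Finite (Ext π ⧸ C) ∧ Cfsg.IsStemExtension (QuotientGroup.lift C (extHom π) hC) ∧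
      Nonempty ((QuotientGroup.lift C (extHom π) hC).ker ≃* ↥(mult π)) := by
  set σ := QuotientGroup.lift C (extHom π) hC with hσ
  have hker : σ.ker = (mult π).map (QuotientGroup.mk' C) := by
    rw [hσ, QuotientGroup.ker_lift]
    refine le_antisymm ((map_mono hsup).trans ?_) (map_mono inf_le_left)
    rw [Subgroup.map_sup, QuotientGroup.map_mk'_self, bot_sup_eq]
  let g : ↥(mult π) →* ↥σ.ker :=
    ((QuotientGroup.mk' C).comp (mult π).subtype).codRestrict σ.ker
      (fun m => hker ▸ mem_map_of_mem _ m.2)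
  have hg : Function.Bijective g := by
    refine ⟨?_, ?_⟩
    · rw [injective_iff_map_eq_one]
      intro m hm
      have h1 : (m : Ext π) ∈ C := (QuotientGroup.eq_one_iff _).mp (congrArg Subtype.val hm)
      exact Subtype.ext (mem_bot.mp (hCM ▸ ⟨h1, m.2⟩))
    · intro y
      have hy : (y : Ext π ⧸ C) ∈ (mult π).map (QuotientGroup.mk' C) := by
        rw [← hker]
        exact y.2
      obtain ⟨m, hm, hmy⟩ := hy
      exact ⟨⟨m, hm⟩, Subtype.ext hmy⟩
  have hsurj : Function.Surjective σ := fun q => by
    obtain ⟨x, rfl⟩ := extHom_surjective π hπ q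
    exact ⟨QuotientGroup.mk x, rfl⟩
  refine ⟨?_, ⟨hsurj, ?_, ?_⟩, ⟨(MulEquiv.ofBijective g hg).symm⟩⟩
  · have : Finite ↥σ.ker := Finite.of_surjective g hg.2
    have : Finite ((Ext π ⧸ C) ⧸ σ.ker) :=
      Finite.of_equiv _ (QuotientGroup.quotientKerEquivOfSurjective σ hsurj).toEquiv.symm
    exact Finite.of_subgroup_quotient σ.ker
  · rw [hker]
    refine (map_mono (inf_le_left.trans (rel_le_center π))).trans ?_
    rintro _ ⟨c, hc, rfl⟩
    rw [mem_center_iff]
    intro y
    obtain ⟨y, rfl⟩ := QuotientGroup.mk'_surjective C y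
    rw [← map_mul, ← map_mul, mem_center_iff.mp hc y]
  · rw [hker]
    refine (map_mono (inf_le_right : mult π ≤ _root_.commutator (Ext π))).trans ?_
    exact map_commutator_le _

end Finite

end Cfsg.Agent.Schur
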