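import Mathlib

/-! The monomial representation induced from a character of a central kernel. -/

set_option autoImplicit false

namespace Cfsg.Agent.Schur

open Subgroup

universe u v

/-- For a central extension `σ : Γ → Q` and a linear character `θ` of its kernel there is a
representation of `Γ` of degree `|Q|` restricting to the scalars `θ` on the kernel. -/
theorem exists_monomial {Γ : Type u} {Q : Type v} [Group Γ] [Group Q] [Finite Q] (σ : Γ →* Q)
    (hσ : Function.Surjective σ) (hz : σ.ker ≤ center Γ) (θ : ↥σ.ker →* ℂˣ) :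
    ∃ (n : ℕ) (_ : 0 < n) (M : Γ →* GL (Fin n) ℂ),
      ∀ k : ↥σ.ker, M k = Matrix.GeneralLinearGroup.scalar (Fin n) (θ k) := by
  classical
  have : Fintype Q := Fintype.ofFinite Q
  set s : Q → Γ := Function.surjInv hσ with hs
  have hss : ∀ q, σ (s q) = q := Function.surjInv_eq hσ
  have hmem : ∀ g q, (s (σ g * q))⁻¹ * g * s q ∈ σ.ker := fun g q => by
    simp [MonoidHom.mem_ker, hss, mul_assoc]
  let c : Γ → Q → ℂ := fun g q => ((θ ⟨_, hmem g q⟩ : ℂˣ) : ℂ)
  have hc : ∀ g h q, c (g * h) q = c g (σ h * q) * c h q := fun g h q => by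
    simp only [c]
    rw [← Units.val_mul, ← map_mul]
    refine congrArg (fun x => ((θ x : ℂˣ) : ℂ)) (Subtype.ext ?_)
    simp only [Subgroup.coe_mul, map_mul, mul_assoc, mul_inv_cancel_left]
  have hk1 : ∀ (k : ↥σ.ker) q, c k q = (θ k : ℂˣ) := fun k q => by
    simp only [c]
    refine congrArg (fun x => ((θ x : ℂˣ) : ℂ)) (Subtype.ext ?_)
    show (s (σ (k : Γ) * q))⁻¹ * (k : Γ) * s q = (k : Γ)
    rw [MonoidHom.mem_ker.mp k.2, one_mul, mem_center_iff.mp (hz k.2) (s q)⁻¹, mul_assoc,
      inv_mul_cancel, mul_one]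
  have h1 : ∀ q, c 1 q = 1 := fun q => by
    have h := hk1 1 q
    rw [map_one] at h
    simpa using h
  let N : Γ →* Matrix Q Q ℂ :=
    { toFun := fun g => Matrix.of fun i j => if i = σ g * j then c g j else 0
      map_one' := by
        ext i j
        simp [Matrix.one_apply, h1]
      map_mul' := fun g h => by
        ext i j
        simp only [Matrix.of_apply, Matrix.mul_apply]
        rw [Finset.sum_eq_single (σ h * j)]
        · rw [if_pos rfl, map_mul, mul_assoc, hc, ite_mul, zero_mul]
        · intro b _ hb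
          rw [if_neg hb, mul_zero]
        · simp }
  let e := Matrix.reindexAlgEquiv ℂ ℂ (Fintype.equivFin Q)
  refine ⟨Fintype.card Q, Fintype.card_pos, (e.toAlgHom.toMonoidHom.comp N).toHomUnits, fun k => ?_⟩
  refine Units.ext ?_
  show e (N k) = Matrix.scalar (Fin _) (θ k : ℂ)
  have hN : N (k : Γ) = Matrix.scalar Q ((θ k : ℂˣ) : ℂ) := by
    ext i j
    show (if i = σ (k : Γ) * j then c k j else 0) = _
    rw [MonoidHom.mem_ker.mp k.2, one_mul, hk1, Matrix.scalar_apply, Matrix.diagonal_apply]
  rw [hN, Matrix.scalar_apply, Matrix.scalar_apply, Matrix.coe_reindexAlgEquiv, Matrix.reindex_apply,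
    Matrix.submatrix_diagonal_equiv]
  rfl

end Cfsg.Agent.Schur
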