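import Cfsg.Agent.Lib.Schur.Basic

/-!
# The lattice `R / (R ∩ F')`

`lattice π K` is the image of `K` in the free abelian group; for `K` covering `rel π` modulo the
multiplier it has full rank.
-/

set_option autoImplicit false

namespace Cfsg.Agent.Schur

universe u w

variable {ι : Type w} {Q : Type u} [Group Q] [Finite Q] [Finite ι] (π : FreeGroup ι →* Q)

/-- The image of `K` in `ι →₀ ℤ`. -/
noncomputable def lattice (K : Subgroup (Ext π)) : Submodule ℤ (ι →₀ ℤ) :=
  AddSubgroup.toIntSubmodule ((Subgroup.toAddSubgroup K).map (toFree π))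

theorem mem_lattice {K : Subgroup (Ext π)} {v : ι →₀ ℤ} :
    v ∈ lattice π K ↔ ∃ x ∈ K, toFree π (Additive.ofMul x) = v := Iff.rfl

theorem toFree_surjective : Function.Surjective (toFree π) := fun v => by
  obtain ⟨a, ha⟩ := (FreeAbelianGroup.equivFinsupp ι).surjective v
  obtain ⟨w, hw⟩ : ∃ w, Abelianization.of w = Additive.toMul a := QuotientGroup.mk_surjective _
  refine ⟨Additive.ofMul (QuotientGroup.mk w), ?_⟩
  show FreeAbelianGroup.toFinsupp (Additive.ofMul (Abelianization.of w)) = v
  rw [hw]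
  exact ha

theorem finrank_lattice {K : Subgroup (Ext π)} (h : rel π ≤ K ⊔ mult π) :
    Module.finrank ℤ ↥(lattice π K) = Nat.card ι := by
  have : Fintype ι := Fintype.ofFinite ι
  have hfree : Module.finrank ℤ (ι →₀ ℤ) = Nat.card ι := by
    rw [Module.finrank_finsupp_self, Nat.card_eq_fintype_card]
  refine le_antisymm (hfree ▸ Submodule.finrank_le _) ?_
  have hmem : ∀ v : ι →₀ ℤ, (Nat.card Q : ℤ) • v ∈ lattice π K := by
    intro v
    obtain ⟨x, hx⟩ := toFree_surjective π v
    have hr : (Additive.toMul x) ^ Nat.card Q ∈ rel π := by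
      rw [MonoidHom.mem_ker, map_pow, pow_card_eq_one']
    have : (mult π).Normal := normal_of_le_rel π inf_le_left
    obtain ⟨k, hk, m, hm, hkm⟩ := Subgroup.mem_sup_of_normal_right.mp (h hr)
    refine (mem_lattice π).mpr ⟨k, hk, ?_⟩
    have h1 : toFree π (Additive.ofMul m) = 0 := (toFree_eq_zero_iff π m).mpr hm.2
    have h2 : toFree π (Additive.ofMul (k * m)) = (Nat.card Q : ℤ) • v := by
      rw [hkm, ofMul_pow, map_nsmul, ofMul_toMul, hx, natCast_zsmul]
    rwa [ofMul_mul, map_add, h1, add_zero] at h2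
  let f : (ι →₀ ℤ) →ₗ[ℤ] ↥(lattice π K) :=
    ((Nat.card Q : ℤ) • LinearMap.id).codRestrict (lattice π K) hmem
  have hf : Function.Injective f := fun a b hab => by
    have h1 : (Nat.card Q : ℤ) • a = (Nat.card Q : ℤ) • b := congrArg Subtype.val hab
    exact smul_right_injective _ (by exact_mod_cast Nat.card_pos.ne') h1
  rw [← hfree]
  exact LinearMap.finrank_le_finrank_of_injective hf

end Cfsg.Agent.Schur
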