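import Cfsg.Agent.Lib.Schur.RootExt

/-!
Central extensions of groups with root data of any rank, with kernel of order prime to the characteristic.

* `exists_goodExp_coprime`: an exponent fixing the `p`-elements and killing such a kernel;
* `exists_ofFn`: the join of mutually normalising subgroups consists of ordered products;
* `exists_ker_decomp`: a kernel element inside the derived group is a product of lifts of torus elements
  of the rank one subgroups.
-/

set_option autoImplicit false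

namespace Cfsg.Agent.Schur.RootExt

open Subgroup
open RootBN (Data)
open scoped commutatorElement

variable {E M : Type*} [Group E] [Group M] {ι : Type*} {n : ℕ}

theorem exists_goodExp_coprime [Finite E] (π : E →* M) {p : ℕ} [hp : Fact p.Prime]
    (hcop : Nat.Coprime p (Nat.card π.ker)) : ∃ k, GoodExp π p k := by
  obtain ⟨k, h1, h2⟩ := Nat.chineseRemainder (hcop.pow_left ((Nat.card E).factorization p)) 1 0
  refine ⟨k, fun i hi => h1.of_dvd (pow_dvd_pow _ ?_), fun z hz => ?_⟩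
  · rwa [← Nat.Prime.pow_dvd_iff_le_factorization hp.out Nat.card_pos.ne']
  · obtain ⟨c, rfl⟩ := Nat.modEq_zero_iff_dvd.1 h2
    rw [pow_mul]
    have h := congrArg Subtype.val (pow_card_eq_one' (x := (⟨z, hz⟩ : π.ker)))
    rw [Subgroup.coe_pow, Subgroup.coe_one] at h
    rw [h, one_pow]

/-- The join of mutually normalising subgroups consists of ordered products. -/
theorem exists_ofFn : ∀ {n : ℕ} (A : Fin n → Subgroup E),
    (∀ i j, ∀ a ∈ A i, ∀ x ∈ A j, a * x * a⁻¹ ∈ A j) → ∀ {z : E}, z ∈ (⨆ i, A i) →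
      ∃ a : Fin n → E, (∀ i, a i ∈ A i) ∧ z = (List.ofFn a).prod := by
  intro n
  induction n with
  | zero =>
    intro A _ z hz
    rw [iSup_of_empty, Subgroup.mem_bot] at hz
    exact ⟨Fin.elim0, fun i => i.elim0, by simp [hz]⟩
  | succ n ih =>
    intro A hA z hz
    set R := ⨆ i : Fin n, A i.succ with hR
    have hsplit : (⨆ i, A i) = A 0 ⊔ R :=
      le_antisymm (iSup_le fun i => Fin.cases le_sup_left
        (fun j => le_sup_of_le_right (le_iSup (fun i : Fin n => A i.succ) j)) i)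
        (sup_le (le_iSup A 0) (iSup_le fun j => le_iSup A j.succ))
    have hn : R ≤ Subgroup.normalizer (A 0 : Set E) := iSup_le fun j a ha =>
      Subgroup.mem_normalizer_iff.2 fun x => ⟨fun hx => hA j.succ 0 a ha x hx, fun hx => by
        have := hA j.succ 0 a⁻¹ ((A j.succ).inv_mem ha) _ hx
        simpa [mul_assoc] using this⟩
    rw [hsplit, ← SetLike.mem_coe, Subgroup.coe_mul_of_right_le_normalizer_left _ _ hn, Set.mem_mul] at hz
    obtain ⟨a₀, ha₀, w, hw, rfl⟩ := hz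
    obtain ⟨a, ha, rfl⟩ := ih (fun i => A i.succ) (fun i j => hA i.succ j.succ) hw
    exact ⟨Fin.cons a₀ a, fun i => Fin.cases (by simpa using ha₀) (fun j => by simpa using ha j) i,
      by simp [List.ofFn_succ]⟩

variable {D : Data M ι (Fin n)} (ax : D.Axioms) {π : E →* M} (hπ : π.range = D.grp)
  (hz : π.ker ≤ center E) (hc : π.ker ≤ commutator E) {p : ℕ} [hp : Fact p.Prime]

include ax hπ hz hc

/-- A kernel element is a product of lifts of torus elements of the rank one subgroups. -/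
theorem exists_ker_decomp [Finite E] [Finite ι] (hcop : Nat.Coprime p (Nat.card π.ker))
    (hU : IsPGroup p D.U) (hH : D.U ⊓ D.H = ⊥)
    (hnn : ∀ i, D.nn i ∈ D.X (D.simp i) ⊔ D.X (D.opp (D.simp i)))
    (hrank : ∀ i (L : Subgroup E), L.map π = D.X (D.simp i) ⊔ D.X (D.opp (D.simp i)) →
      L ≤ Subgroup.closure {x | x ∈ L ∧ ∃ j, x ^ p ^ j = 1} → L ⊓ π.ker = ⊥) :
    ∃ Lt : Fin n → Subgroup E,
      (∀ i, (Lt i).map π = D.X (D.simp i) ⊔ D.X (D.opp (D.simp i)) ∧ Lt i ⊓ π.ker = ⊥) ∧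
      ∀ z ∈ π.ker, ∃ a : Fin n → E, (∀ i, a i ∈ Lt i ∧ π (a i) ∈ D.H) ∧ z = (List.ofFn a).prod := by
  classical
  obtain ⟨k, hk⟩ := exists_goodExp_coprime π hcop
  have hle : ∀ o, D.X o ≤ π.range := fun o => hπ ▸ Data.X_le_grp o
  have hUle : D.U ≤ π.range := iSup₂_le fun o _ => hle o
  have hXp : ∀ o, IsPGroup p (D.X o) := by
    intro o
    obtain ⟨l, i, e⟩ := ax.reach o
    have hmap : D.X o = (D.X (D.simp i)).map (MulAut.conj (D.nw l)).toMonoidHom := by
      ext y
      rw [Subgroup.mem_map_equiv, ← e]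
      have := Data.acts_nw ax l (D.simp i) ((D.nw l)⁻¹ * y * D.nw l)
      simpa [mul_assoc] using this
    rw [hmap]
    exact (hU.to_le (Data.X_le_U (ax.pos_simp i))).map _
  choose Xt hXmap hXmem using fun o => exists_lift hz hk (D.X o) (hXp o) (hle o)
  obtain ⟨Ut, hUmap, hUmem⟩ := exists_lift hz hk D.U hU hUle
  -- conjugation
  have hconj : ∀ (e : E) o o', (∀ y ∈ D.X o, π e * y * (π e)⁻¹ ∈ D.X o') →
      ∀ x ∈ Xt o, e * x * e⁻¹ ∈ Xt o' := by
    intro e o o' h x hx
    obtain ⟨hx1, j, hj⟩ := (hXmem o x).1 hx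
    refine (hXmem o' _).2 ⟨by rw [map_mul, map_mul, map_inv]; exact h _ hx1, j, ?_⟩
    rw [conj_pow, hj, mul_one, mul_inv_cancel]
  let Lt : Fin n → Subgroup E := fun i => Xt (D.simp i) ⊔ Xt (D.opp (D.simp i))
  have hLmap : ∀ i, (Lt i).map π = D.X (D.simp i) ⊔ D.X (D.opp (D.simp i)) := fun i => by
    rw [Subgroup.map_sup, hXmap, hXmap]
  have hLker : ∀ i, Lt i ⊓ π.ker = ⊥ := by
    refine fun i => hrank i (Lt i) (hLmap i) ?_
    refine sup_le ?_ ?_ <;> intro x hx <;>
      refine Subgroup.subset_closure ⟨?_, ((hXmem _ x).1 hx).2⟩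
    · exact Subgroup.mem_sup_left hx
    · exact Subgroup.mem_sup_right hx
  let A : Fin n → Subgroup E := fun i => Lt i ⊓ D.H.comap π
  let Hb : Subgroup E := ⨆ i, A i
  have hAH : ∀ i, A i ≤ Hb := fun i => le_iSup A i
  have hHbH : ∀ x ∈ Hb, π x ∈ D.H := fun x hx =>
    (show Hb ≤ D.H.comap π from iSup_le fun i => inf_le_right) hx
  choose nl hnl hnπ using fun i => Subgroup.mem_map.1 ((hLmap i).symm ▸ hnn i)
  choose rl ri hreach using fun o => ax.reach o
  let D₀ : Data E ι (Fin n) :=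
    { X := Xt, H := Hb, nn := nl,
      nroot := fun o => if h : ∃ i, D.simp i = o then nl h.choose else
        (((rl o).map nl).prod) * nl (ri o) * (((rl o).map nl).prod)⁻¹,
      refl := D.refl, opp := D.opp, simp := D.simp, Pos := D.Pos }
  have hπnw : ∀ l, π (D₀.nw l) = D.nw l := by
    intro l
    induction l with
    | nil => simp
    | cons i l ih => rw [Data.nw_cons, Data.nw_cons, map_mul, ih]; exact congrArg (· * _) (hnπ i)
  have hHconj : ∀ x, π x ∈ D.H → ∀ o, ∀ y ∈ Xt o, x * y * x⁻¹ ∈ Xt o := fun x hx o =>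
    hconj x o o (ax.H_conj o _ hx)
  have hLconj : ∀ x, π x ∈ D.H → ∀ i, ∀ y ∈ Lt i, x * y * x⁻¹ ∈ Lt i := fun x hx i y hy =>
    (show Lt i ≤ (Lt i).comap (MulAut.conj x).toMonoidHom from sup_le
      (fun z hz' => Subgroup.mem_sup_left (hHconj x hx _ z hz'))
      (fun z hz' => Subgroup.mem_sup_right (hHconj x hx _ z hz'))) hy
  have hnnH : ∀ i, ∀ x ∈ Hb, nl i * x * (nl i)⁻¹ ∈ Hb := by
    intro i
    suffices h : ∀ j, ∀ x ∈ A j, nl i * x * (nl i)⁻¹ ∈ Hb from fun x hx =>
      (show Hb ≤ Hb.comap (MulAut.conj (nl i)).toMonoidHom from iSup_le h) hx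
    intro j x hx
    have h1 : nl i * (x * (nl i)⁻¹ * x⁻¹) ∈ Lt i :=
      (Lt i).mul_mem (hnl i) (hLconj x hx.2 i _ ((Lt i).inv_mem (hnl i)))
    have h2 : π (nl i * (x * (nl i)⁻¹ * x⁻¹)) ∈ D.H := by
      simp only [map_mul, map_inv, hnπ, ← mul_assoc]
      exact D.H.mul_mem (ax.nn_H i _ hx.2) (D.H.inv_mem hx.2)
    have := Hb.mul_mem (hAH i ⟨h1, h2⟩) (hAH j hx)
    simpa [mul_assoc] using this
  have hrefl : ∀ i o, ∀ y ∈ Xt o, nl i * y * (nl i)⁻¹ ∈ Xt (D.refl i o) := fun i o =>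
    hconj _ o _ (by rw [hnπ]; exact ax.conj_X i o)
  have hnw : ∀ l, ∀ o, ∀ y ∈ Xt o, D₀.nw l * y * (D₀.nw l)⁻¹ ∈ Xt (D.wl l o) := fun l o =>
    hconj _ o _ (fun y hy => by rw [hπnw]; exact (Data.acts_nw ax l o y).2 hy)
  have hnwH : ∀ l, ∀ x ∈ Hb, D₀.nw l * x * (D₀.nw l)⁻¹ ∈ Hb := by
    intro l
    induction l with
    | nil => intro x hx; simpa using hx
    | cons i l ih =>
      intro x hx
      have := hnnH i _ (ih x hx)
      rw [Data.nw_cons]
      show nl i * D₀.nw l * x * (nl i * D₀.nw l)⁻¹ ∈ Hb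
      simpa [mul_assoc] using this
  -- the lift of a torus element lying in the rank one subgroup of a root
  have hroot : ∀ (o : ι) (x : E), x ∈ Xt o ⊔ Xt (D.opp o) → π x ∈ D.H → x ∈ Hb := by
    intro o x hx hxH
    obtain ⟨l, i, rfl⟩ := ax.reach o
    have hx' : (D₀.nw l)⁻¹ * x * D₀.nw l ∈ Lt i := by
      refine (show Xt (D.wl l (D.simp i)) ⊔ Xt (D.opp (D.wl l (D.simp i))) ≤
        (Lt i).comap (MulAut.conj (D₀.nw l)⁻¹).toMonoidHom from sup_le ?_ ?_) hx |> fun h => by
          simpa using h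
      all_goals intro z hz'
      · refine Subgroup.mem_sup_left ?_
        have := hconj (D₀.nw l)⁻¹ _ (D.simp i) (fun y hy => by
          rw [map_inv, hπnw]
          have := (Data.acts_nw ax l (D.simp i) ((D.nw l)⁻¹ * y * D.nw l)).1 (by simpa [mul_assoc] using hy)
          simpa [mul_assoc] using this) z hz'
        simpa using this
      · refine Subgroup.mem_sup_right ?_
        have := hconj (D₀.nw l)⁻¹ _ (D.opp (D.simp i)) (fun y hy => by
          rw [map_inv, hπnw]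
          rw [← Data.wl_opp ax] at hy
          have := (Data.acts_nw ax l (D.opp (D.simp i)) ((D.nw l)⁻¹ * y * D.nw l)).1
            (by simpa [mul_assoc] using hy)
          simpa [mul_assoc] using this) z hz'
        simpa using this
    have hxH' : π ((D₀.nw l)⁻¹ * x * D₀.nw l) ∈ D.H := by
      rw [map_mul, map_mul, map_inv, hπnw]
      have := Data.N_conj_H ax (D.N.inv_mem (Data.nw_mem_N l)) hxH
      rwa [inv_inv] at this
    have := hnwH l _ (hAH i ⟨hx', hxH'⟩)
    simpa [mul_assoc] using this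
  have hnroot : ∀ o, D₀.nroot o ∈ Xt o ⊔ Xt (D.opp o) ∧ ∃ h ∈ D.H, π (D₀.nroot o) = h * D.nroot o := by
    intro o
    simp only [D₀]
    split_ifs with h
    · have e := h.choose_spec
      generalize h.choose = j at e
      subst e
      exact ⟨hnl j, 1, D.H.one_mem, by rw [hnπ, one_mul, ax.nroot_simp]⟩
    · have e : ((rl o).map nl).prod = D₀.nw (rl o) := rfl
      rw [e]
      refine ⟨?_, ?_⟩
      · refine (show Lt (ri o) ≤ (Xt o ⊔ Xt (D.opp o)).comap
          (MulAut.conj (D₀.nw (rl o))).toMonoidHom from sup_le ?_ ?_) (hnl (ri o))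
        · intro z hz'
          refine Subgroup.mem_sup_left ?_
          have := hnw (rl o) _ z hz'
          rwa [hreach] at this
        · intro z hz'
          refine Subgroup.mem_sup_right ?_
          have := hnw (rl o) _ z hz'
          rwa [Data.wl_opp ax, hreach] at this
      · obtain ⟨h', hh', e'⟩ := Data.conj_nroot_nw ax (rl o) (D.simp (ri o))
        rw [ax.nroot_simp, hreach] at e'
        exact ⟨h', hh', by rw [map_mul, map_mul, map_inv, hπnw, hnπ, e']⟩
  have hXgrp : ∀ o, Xt o ≤ D₀.grp := fun o => Data.X_le_grp (D := D₀) o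
  have hLgrp : ∀ i, Lt i ≤ D₀.grp := fun i => sup_le (hXgrp _) (hXgrp _)
  have hUr : ∀ i, (D₀.Urad i).map π = D.Urad i := by
    intro i
    simp only [Data.Urad, Subgroup.map_iSup, D₀, hXmap]
  have hU₀ : D₀.U ≤ Ut := iSup₂_le fun o ho x hx => (hUmem x).2
    ⟨Data.X_le_U (D := D) (show D.Pos o from ho) ((hXmem o x).1 hx).1, ((hXmem o x).1 hx).2⟩
  have hUr₀ : ∀ i, D₀.Urad i ≤ Ut := fun i => (iSup₂_le fun o ho x hx => hU₀ (Data.X_le_U (D := D₀) ho.1 hx))
  have hinjU : ∀ x ∈ Ut, ∀ y ∈ Ut, π x = π y → x = y := fun x hx y hy e =>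
    (eq_sec hz hk ((hUmem x).1 hx).2).trans ((congrArg _ e).trans (eq_sec hz hk ((hUmem y).1 hy).2).symm)
  have ax₀ : D₀.Axioms :=
    { pos_opp := ax.pos_opp, opp_opp := ax.opp_opp, pos_simp := ax.pos_simp, refl_simp := ax.refl_simp,
      refl_opp := ax.refl_opp, refl_refl := ax.refl_refl, refl_pos := ax.refl_pos, simp_inj := ax.simp_inj
      reach := ax.reach
      X_inj := fun o o' e => ax.X_inj (by
        rw [← hXmap o, ← hXmap o']; exact congrArg (Subgroup.map π) e)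
      X_ne_bot := fun o e => ax.X_ne_bot o (by
        rw [← hXmap o, show Xt o = ⊥ from e, Subgroup.map_bot])
      H_le := iSup_le fun i => inf_le_left.trans (hLgrp i)
      nn_mem := fun i => hLgrp i (hnl i)
      conj_X := hrefl
      H_conj := fun o x hx => hHconj x (hHbH x hx) o
      nn_H := hnnH
      nn_sq := fun i => hAH i ⟨(Lt i).mul_mem (hnl i) (hnl i), by
        show π (nl i * nl i) ∈ D.H
        rw [map_mul, hnπ]; exact ax.nn_sq i⟩
      nroot_simp := fun i => by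
        have h : ∃ j, D.simp j = D.simp i := ⟨i, rfl⟩
        show dite _ _ _ = _
        rw [dif_pos h, ax.simp_inj h.choose_spec]
      conj_nroot := fun i o => by
        obtain ⟨h1, a, ha, e1⟩ := hnroot o
        obtain ⟨h2, b, hb, e2⟩ := hnroot (D.refl i o)
        obtain ⟨c, hc', e3⟩ := ax.conj_nroot i o
        refine ⟨nl i * D₀.nroot o * (nl i)⁻¹ * (D₀.nroot (D.refl i o))⁻¹, hroot (D.refl i o) _ ?_ ?_, by
          show _ = _ * D₀.nroot (D.refl i o)
          rw [inv_mul_cancel_right]⟩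
        · refine Subgroup.mul_mem _ ?_ (Subgroup.inv_mem _ h2)
          refine (show Xt o ⊔ Xt (D.opp o) ≤ (Xt (D.refl i o) ⊔ Xt (D.opp (D.refl i o))).comap
            (MulAut.conj (nl i)).toMonoidHom from sup_le
              (fun z hz' => Subgroup.mem_sup_left (hrefl i o z hz'))
              (fun z hz' => Subgroup.mem_sup_right (ax.refl_opp i o ▸ hrefl i _ z hz'))) h1
        · rw [map_mul, map_mul, map_mul, map_inv, map_inv, hnπ, e1, e2,
            show D.nn i * (a * D.nroot o) * (D.nn i)⁻¹ * (b * D.nroot (D.refl i o))⁻¹ =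
              D.nn i * a * (D.nn i)⁻¹ * (D.nn i * D.nroot o * (D.nn i)⁻¹) *
                (D.nroot (D.refl i o))⁻¹ * b⁻¹ by group, e3, ← mul_assoc, mul_inv_cancel_right]
          exact D.H.mul_mem (D.H.mul_mem (ax.nn_H i a ha) hc') (D.H.inv_mem hb)
      simp_normal := fun i o ho hne y hy z hz' => by
        have hy' := (hXmem _ y).1 hy
        have hz'' := (hXmem _ z).1 hz'
        have hmem : π (y * z * y⁻¹) ∈ D.Urad i := by
          rw [map_mul, map_mul, map_inv]
          exact ax.simp_normal i o ho hne _ hy'.1 _ hz''.1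
        obtain ⟨v, hv, e⟩ := Subgroup.mem_map.1 ((hUr i).symm ▸ hmem)
        have hyU : y ∈ Ut := hU₀ (Data.X_le_U (D := D₀) (ax.pos_simp i) hy)
        have hzU : z ∈ Ut := hU₀ (Data.X_le_U (D := D₀) ho hz')
        rwa [hinjU _ (Ut.mul_mem (Ut.mul_mem hyU hzU) (Ut.inv_mem hyU)) _ (hUr₀ i hv) e.symm]
      rank_one := fun i y hy hy1 => by
        have hy' := (hXmem _ y).1 hy
        have hπy : π y ≠ 1 := fun e => hy1 (by
          have hm : y ∈ Lt i := Subgroup.mem_sup_right hy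
          exact Subgroup.mem_bot.1 (hLker i ▸ ⟨hm, e⟩))
        obtain ⟨a, ha, h, hh, b, hb, e⟩ := ax.rank_one i _ hy'.1 hπy
        obtain ⟨a', ha', ea⟩ := Subgroup.mem_map.1 ((hXmap _).symm ▸ ha)
        obtain ⟨b', hb', eb⟩ := Subgroup.mem_map.1 ((hXmap _).symm ▸ hb)
        refine ⟨a', ha', a'⁻¹ * y * b'⁻¹ * (nl i)⁻¹, hAH i ⟨?_, ?_⟩, b', hb', by
          show y = a' * (a'⁻¹ * y * b'⁻¹ * (nl i)⁻¹) * nl i * b'
          group⟩
        · exact (Lt i).mul_mem ((Lt i).mul_mem ((Lt i).mul_mem ((Lt i).inv_mem (Subgroup.mem_sup_left ha'))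
            (Subgroup.mem_sup_right hy)) ((Lt i).inv_mem (Subgroup.mem_sup_left hb'))) ((Lt i).inv_mem (hnl i))
        · show π _ ∈ D.H
          rw [map_mul, map_mul, map_mul, map_inv, map_inv, map_inv, ea, eb, hnπ, e]
          simpa [mul_assoc] using hh
      neg_not_mem := fun o ho => by
        rw [eq_bot_iff]
        rintro x ⟨hx, hxB⟩
        have hB : π x ∈ D.B := by
          refine (show D₀.B ≤ D.B.comap π from sup_le (fun u hu => Data.U_le_B ?_)
            (fun u hu => Data.H_le_B (hHbH u hu))) hxB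
          exact hUmap ▸ Subgroup.mem_map_of_mem π (hU₀ hu)
        have h1 : π x ∈ D.X o ⊓ D.B := ⟨((hXmem o x).1 hx).1, hB⟩
        rw [ax.neg_not_mem o ho, Subgroup.mem_bot] at h1
        rw [Subgroup.mem_bot, eq_sec hz hk ((hXmem o x).1 hx).2, h1, ← map_one π,
          ← eq_sec hz hk ⟨0, by simp⟩] }
  -- the lifted group is everything
  have hgrp : D₀.grp.map π = D.grp := by simp only [Data.grp, Subgroup.map_iSup, D₀, hXmap]
  have htop : π.ker ≤ D₀.grp := by
    refine hc.trans ?_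
    rw [commutator_def, Subgroup.commutator_le]
    intro a _ b _
    have hma : π a ∈ D₀.grp.map π := by rw [hgrp, ← hπ]; exact ⟨a, rfl⟩
    obtain ⟨a', ha', ea⟩ := Subgroup.mem_map.1 hma
    have hmb : π b ∈ D₀.grp.map π := by rw [hgrp, ← hπ]; exact ⟨b, rfl⟩
    obtain ⟨b', hb', eb⟩ := Subgroup.mem_map.1 hmb
    rw [Schur.commutatorElement_congr hz ea.symm eb.symm, commutatorElement_def]
    exact D₀.grp.mul_mem (D₀.grp.mul_mem (D₀.grp.mul_mem ha' hb') (D₀.grp.inv_mem ha')) (D₀.grp.inv_mem hb')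
  refine ⟨Lt, fun i => ⟨hLmap i, hLker i⟩, fun z hz1 => ?_⟩
  obtain ⟨b, hb, l, u, hu, e⟩ := Data.exists_normal_form ax₀ (htop hz1)
  have hmemB : ∀ x ∈ D₀.B, π x ∈ D.B := fun x hx =>
    (show D₀.B ≤ D.B.comap π from sup_le
      (fun v hv => Data.U_le_B (hUmap ▸ Subgroup.mem_map_of_mem π (hU₀ hv)))
      (fun v hv => Data.H_le_B (hHbH v hv))) hx
  have hl : D.nw l ∈ D.H := by
    have e' : π z = π b * D.nw l * π u := by rw [e, map_mul, map_mul, hπnw]
    have := Data.inv_mul_mem_H_of_eq ax (n := D.nw l) (n' := D.nw []) (Data.nw_mem_N l) (Data.nw_mem_N [])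
      (hmemB b hb) D.B.one_mem (hmemB u (Data.U_le_B (Data.Um_le_U _ hu))) D.B.one_mem
      (b' := 1) (u' := 1) (by rw [← e', MonoidHom.mem_ker.1 hz1]; simp)
    rw [Data.nw_nil, mul_one] at this
    exact inv_inv (D.nw l) ▸ D.H.inv_mem this
  have hwl : D₀.wl l = 1 :=
    Data.acts_unique ax (Data.acts_nw ax l) (Data.acts_H ax hl)
  have hlH : D₀.nw l ∈ D₀.H := by
    refine Data.mem_H_of_pos_preserving ax₀ (Data.nw_mem_N l) (hwl ▸ Data.acts_nw ax₀ l) fun o ho => ?_
    simpa using ho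
  have hzB : z ∈ D₀.B := e ▸ D₀.B.mul_mem (D₀.B.mul_mem hb (Data.H_le_B hlH))
    (Data.U_le_B (Data.Um_le_U _ hu))
  obtain ⟨v, hv, h, hh, e2⟩ := (Data.mem_B_iff ax₀).1 hzB
  have hvU : π v ∈ D.U ⊓ D.H := by
    refine ⟨hUmap ▸ Subgroup.mem_map_of_mem π (hU₀ hv), ?_⟩
    have h1 : π v * π h = 1 := by rw [← map_mul, ← e2]; exact hz1
    rw [eq_inv_of_mul_eq_one_left h1]
    exact D.H.inv_mem (hHbH h hh)
  rw [hH, Subgroup.mem_bot] at hvU
  have hv1 : v = 1 := hinjU v (hU₀ hv) 1 Ut.one_mem (by rw [hvU, map_one])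
  subst hv1
  rw [one_mul] at e2
  subst e2
  -- a product of torus elements
  have hnorm : ∀ i j, ∀ a ∈ A i, ∀ x ∈ A j, a * x * a⁻¹ ∈ A j := fun i j a ha x hx =>
    ⟨hLconj a ha.2 j x hx.1, by
      show π (a * x * a⁻¹) ∈ D.H
      rw [map_mul, map_mul, map_inv]
      exact D.H.mul_mem (D.H.mul_mem ha.2 hx.2) (D.H.inv_mem ha.2)⟩
  obtain ⟨a, ha, e⟩ := exists_ofFn A hnorm hh
  exact ⟨a, fun i => ⟨(ha i).1, (ha i).2⟩, e⟩

end Cfsg.Agent.Schur.RootExt
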