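import Cfsg.Agent.S2117

/-!
A central extension with kernel of order prime to `p`, generated by `p`-elements over a copy of
`SL₂` in characteristic `p`, splits.
-/

set_option autoImplicit false

namespace Cfsg.Agent.Schur

open Subgroup
open scoped MatrixGroups

/-- The kernel meets a subgroup generated by `p`-elements over a copy of `SL₂` trivially. -/
theorem inf_ker_eq_bot_SL2 {E M K : Type*} [Group E] [Finite E] [Group M] [Field K] [Finite K]
    {p : ℕ} [hp : Fact p.Prime] [CharP K p] (π : E →* M) (hz : π.ker ≤ center E)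
    (hcop : Nat.Coprime p (Nat.card π.ker)) (ρ : SL(2, K) →* M) (hρ : Function.Injective ρ)
    {L : Subgroup E} (hL : L.map π = ρ.range) (hgen : L ≤ closure {x | x ∈ L ∧ ∃ j, x ^ p ^ j = 1}) :
    L ⊓ π.ker = ⊥ := by
  classical
  let τ : ↥L →* SL(2, K) := (MonoidHom.ofInjective hρ).symm.toMonoidHom.comp
    ((π.comp L.subtype).codRestrict ρ.range fun x => hL ▸ mem_map_of_mem π x.2)
  have hτ : ∀ x : ↥L, τ x = 1 ↔ π (x : E) = 1 := fun x => by
    simp only [τ, MonoidHom.comp_apply, MulEquiv.coe_toMonoidHom, MulEquiv.map_eq_one_iff]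
    exact ⟨fun h => congrArg Subtype.val h, fun h => Subtype.ext h⟩
  have hpow : ∀ x : ↥L, τ x = 1 → x ^ Nat.card π.ker = 1 := fun x hx => Subtype.ext (by
    rw [SubgroupClass.coe_pow]
    simpa using congrArg Subtype.val (pow_card_eq_one' (x := (⟨(x : E), (hτ x).1 hx⟩ : π.ker))))
  have hτz : τ.ker ≤ center ↥L := fun x hx =>
    mem_center_iff.2 fun y => Subtype.ext (mem_center_iff.1 (hz ((hτ x).1 hx)) (y : E))
  have hcop' : ∀ j, Nat.Coprime (p ^ j) (Nat.card π.ker) := fun j => hcop.pow_left j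
  -- the abelianisation is a p-group
  have htop : closure {x : ↥L | ∃ j, x ^ p ^ j = 1} = ⊤ := by
    rw [eq_top_iff]
    intro x _
    have h : (x : E) ∈ (closure {x : ↥L | ∃ j, x ^ p ^ j = 1}).map L.subtype := by
      refine (show closure {x | x ∈ L ∧ ∃ j, x ^ p ^ j = 1} ≤ _ from ?_) (hgen x.2)
      rw [closure_le]
      rintro y ⟨hy, j, hj⟩
      exact ⟨⟨y, hy⟩, subset_closure ⟨j, Subtype.ext (by simpa using hj)⟩, rfl⟩
    obtain ⟨y, hy, e⟩ := h
    exact (Subtype.ext e : y = x) ▸ hy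
  have hab : ∀ a : Abelianization ↥L, ∃ j, a ^ p ^ j = 1 := by
    intro a
    obtain ⟨x, rfl⟩ := QuotientGroup.mk_surjective a
    have hx : x ∈ closure {x : ↥L | ∃ j, x ^ p ^ j = 1} := htop ▸ mem_top x
    refine closure_induction (p := fun x _ => ∃ j, (QuotientGroup.mk x : Abelianization ↥L) ^ p ^ j = 1)
      ?_ ?_ ?_ ?_ hx
    · rintro y ⟨j, hj⟩
      exact ⟨j, by rw [← QuotientGroup.mk_pow, hj, QuotientGroup.mk_one]⟩
    · exact ⟨0, by simp⟩
    · rintro y z _ _ ⟨i, hi⟩ ⟨j, hj⟩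
      refine ⟨i + j, ?_⟩
      rw [QuotientGroup.mk_mul]
      change (Abelianization.of y * Abelianization.of z) ^ p ^ (i + j) = 1
      change (Abelianization.of y) ^ p ^ i = 1 at hi
      change (Abelianization.of z) ^ p ^ j = 1 at hj
      rw [mul_pow, pow_add, pow_mul, hi, one_pow, one_mul, mul_comm (p ^ i), pow_mul, hj, one_pow]
    · rintro y _ ⟨i, hi⟩
      exact ⟨i, by rw [QuotientGroup.mk_inv, inv_pow, hi, inv_one]⟩
  have hτc : τ.ker ≤ _root_.commutator ↥L := by
    intro x hx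
    obtain ⟨j, hj⟩ := hab (Abelianization.of x)
    have h2 : (Abelianization.of x) ^ Nat.card π.ker = 1 := by rw [← map_pow, hpow x hx, map_one]
    have h3 := pow_gcd_eq_one.2 ⟨hj, h2⟩
    rw [(hcop' j).gcd_eq_one, pow_one] at h3
    exact (QuotientGroup.eq_one_iff x).1 h3
  have hbot : τ.ker = ⊥ := by
    refine ker_eq_bot_of_sylow τ hτz hτc fun s hs => ?_
    haveI := Fact.mk hs
    by_cases hsp : s = p
    · subst hsp
      obtain ⟨P⟩ : Nonempty (Sylow s ↥L) := inferInstance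
      refine ⟨P, eq_bot_iff.2 ?_⟩
      rintro x ⟨h1, h2⟩
      obtain ⟨j, hj⟩ := P.2 ⟨x, commutator_le_self _ h1⟩
      have hj' : x ^ s ^ j = 1 := by simpa using congrArg Subtype.val hj
      have h3 := pow_gcd_eq_one.2 ⟨hj', hpow x h2⟩
      rwa [(hcop' j).gcd_eq_one, pow_one, ← mem_bot] at h3
    · refine ⟨default, S2117.commutator_inf_ker_cross τ hτz ?_ _ (default : Sylow s ↥L).isPGroup'⟩
      intro h0
      rw [CharP.cast_eq_zero_iff K p] at h0
      exact hsp ((Nat.prime_dvd_prime_iff_eq hp.out hs).1 h0).symm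
  rw [eq_bot_iff]
  rintro x ⟨hx, hk⟩
  have hm : (⟨x, hx⟩ : ↥L) ∈ τ.ker := (hτ _).2 hk
  rw [hbot, mem_bot] at hm
  exact mem_bot.2 (congrArg Subtype.val hm)

end Cfsg.Agent.Schur
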