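/-
Central extensions with kernel of exponent `p` of a group given by a power-conjugation presentation:
collection with tails modulo `p`, the equations given by overlaps and by conjugation with further
elements, and the criterion that all tails can be removed.
-/
import Cfsg.Agent.Lib.Schur.Exponent

set_option autoImplicit false

namespace Cfsg.Agent.Schur.TailsMod

/-- The presentation, the partial maps and the adjustments of the lifts. -/
structure PData where
  n : ℕ
  p : ℕ
  nmaps : ℕ
  pw : ℕ → List ℕ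
  cj : ℕ → ℕ → List ℕ
  img : ℕ → ℕ → List ℕ
  adj : ℕ → List ℕ

/-- The rules. -/
inductive Rule
  | pw (k : ℕ)
  | cj (j k : ℕ)
  deriving DecidableEq

/-- The origins of the equations. -/
inductive Lab
  | red (r : Rule) (u v : List ℕ)
  | fus (r : Rule) (l : ℕ)

/-- Addition of exponent vectors. -/
def addV : List ℕ → List ℕ → List ℕ
  | [], b => b
  | a :: as, [] => a :: as
  | a :: as, b :: bs => (a + b) :: addV as bs

/-- A multiple of an exponent vector. -/
def mulV (c : ℕ) (a : List ℕ) : List ℕ := a.map (c * ·)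

/-- A unit vector. -/
def oneV (i : ℕ) : List ℕ := List.replicate i 0 ++ [1]

/-- The sum of exponent vectors. -/
def sumV (L : List (List ℕ)) : List ℕ := L.foldr addV []

namespace PData

variable (T : PData)

/-- The tail variable of a rule. -/
def var : Rule → ℕ
  | .pw k => k
  | .cj j k => T.n + (k * (k - 1) / 2 + j)

/-- The tail variable of an image. -/
def mu (l k : ℕ) : ℕ := T.n + T.n * (T.n - 1) / 2 + (l * T.n + k)

/-- The left side of a rule. -/
def lhs : Rule → List ℕ
  | .pw k => List.replicate T.p k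
  | .cj j k => [k, j]

/-- The right side of a rule. -/
def rhs : Rule → List ℕ
  | .pw k => T.pw k
  | .cj j k => j :: T.cj j k

/-- Whether a rule exists. -/
def isRule : Rule → Bool
  | .pw k => decide (k < T.n)
  | .cj j k => decide (j < k) && decide (k < T.n)

/-- Whether all letters of a word are generators. -/
def below (w : List ℕ) : Bool := w.all fun x => decide (x < T.n)

/-- The words of the rules use generators only. -/
def okB : Bool :=
  (List.range T.n).all fun k => (T.pw k).all (fun x => decide (k < x) && decide (x < T.n)) &&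
    (List.range k).all fun j => (T.cj j k).all fun x => decide (k ≤ x) && decide (x < T.n)

/-- One step of a collection. -/
def step (f : ℕ → List ℕ → List ℕ × List ℕ) (a : ℕ) (r : List ℕ × List ℕ) : List ℕ × List ℕ :=
  (addV r.1 (f a r.2).1, (f a r.2).2)

/-- Left multiplication by a generator, with the tails picked up. -/
def insT : ℕ → ℕ → List ℕ → List ℕ × List ℕ
  | 0, k, w => ([], k :: w)
  | _ + 1, k, [] => ([], [k])
  | fuel + 1, k, j :: w =>
    if k < j then ([], k :: j :: w)
    else if k = j then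
      if (j :: w).take (T.p - 1) = List.replicate (T.p - 1) k then
        (T.pw k).foldr (step (insT fuel)) (oneV (T.var (.pw k)), (j :: w).drop (T.p - 1))
      else ([], k :: j :: w)
    else
      let r := (T.cj j k).foldr (step (insT fuel)) (oneV (T.var (.cj j k)), w)
      (r.1, j :: r.2)

/-- Collection. -/
def collT (w : List ℕ) : List ℕ × List ℕ := w.foldr (step (T.insT 100)) ([], [])

/-- The image of a word under a partial map. -/
def phiW (l : ℕ) (L : List ℕ) : List ℕ × List ℕ :=
  (sumV (L.map fun x => oneV (T.mu l x)), L.flatMap (T.img l))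

/-- Whether a word lies in the domain of a partial map. -/
def inDom (l : ℕ) (L : List ℕ) : Bool :=
  decide (l < T.nmaps) && L.all fun x => decide (x < T.n) && !(T.img l x).isEmpty

/-- The identity of an equation: whether it applies, its tails and its two words. -/
def side : Lab → Bool × List ℕ × List ℕ × List ℕ
  | .red r u v => (T.isRule r, oneV (T.var r), u ++ (T.lhs r ++ v), u ++ (T.rhs r ++ v))
  | .fus r l =>
    (T.isRule r && T.inDom l (T.lhs r) && T.inDom l (T.rhs r),
      addV (addV (oneV (T.var r)) (T.phiW l (T.rhs r)).1) (mulV (T.p - 1) (T.phiW l (T.lhs r)).1),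
      (T.phiW l (T.lhs r)).2, (T.phiW l (T.rhs r)).2)

/-- An equation: whether it is valid and the vector it kills. -/
def eqn (e : Lab) : Bool × List ℕ :=
  let s := T.side e
  let x := T.collT s.2.2.1
  let y := T.collT s.2.2.2
  (s.1 && T.below s.2.2.1 && T.below s.2.2.2 && decide (x.2 = y.2),
    addV x.1 (mulV (T.p - 1) (addV s.2.1 y.1)))

/-- Whether a target is killed by the equations. -/
def derived (eqs : List Lab) (t : List ℕ) (sel : List (ℕ × ℕ)) : Bool :=
  (sel.all fun i => (T.eqn (eqs.getD i.1 (.red (.pw 0) [] []))).1) &&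
    (addV t (sumV (sel.map fun i => mulV i.2 (T.eqn (eqs.getD i.1 (.red (.pw 0) [] []))).2))).all
      fun x => decide (x % T.p = 0)

/-- The target of a rule. -/
def tgt : Rule → List ℕ
  | .pw k => addV (oneV (T.var (.pw k))) (mulV (T.p - 1) (sumV ((T.pw k).map T.adj)))
  | .cj j k =>
    addV (oneV (T.var (.cj j k))) (addV (T.adj k) (mulV (T.p - 1) (sumV ((T.cj j k).map T.adj))))

/-- The element of a word. -/
def ev {P : Type*} [Group P] (γ : ℕ → P) (w : List ℕ) : P := (w.map γ).prod

section Words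

variable {P : Type*} [Group P] (γ : ℕ → P)

theorem ev_nil : ev γ [] = 1 := by simp [ev]

theorem ev_cons (k : ℕ) (w : List ℕ) : ev γ (k :: w) = γ k * ev γ w := by simp [ev]

theorem ev_append (u w : List ℕ) : ev γ (u ++ w) = ev γ u * ev γ w := by simp [ev]

theorem ev_replicate (m k : ℕ) : ev γ (List.replicate m k) = γ k ^ m := by simp [ev]

theorem map_ev {Q : Type*} [Group Q] (f : P →* Q) (w : List ℕ) : f (ev γ w) = ev (fun k => f (γ k)) w := by
  induction w with
  | nil => simp [ev_nil]
  | cons a w ih => rw [ev_cons, ev_cons, map_mul, ih]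

theorem conj_ev (n : P) (w : List ℕ) : n * ev γ w * n⁻¹ = ev (fun k => n * γ k * n⁻¹) w :=
  map_ev γ (MulAut.conj n).toMonoidHom w

/-- The relations hold. -/
def Holds : Prop := ∀ r, T.isRule r = true → ev γ (T.lhs r) = ev γ (T.rhs r)

/-- The subgroup of the generators from `k` on. -/
def gsub (k : ℕ) : Subgroup P := Subgroup.closure {x | ∃ i, k ≤ i ∧ i < T.n ∧ x = γ i}

variable {T γ}

theorem gen_mem {k i : ℕ} (h : k ≤ i) (hi : i < T.n) : γ i ∈ T.gsub γ k :=
  Subgroup.subset_closure ⟨i, h, hi, rfl⟩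

theorem gsub_anti {k k' : ℕ} (h : k ≤ k') : T.gsub γ k' ≤ T.gsub γ k :=
  Subgroup.closure_mono fun _ ⟨i, hi, hi', e⟩ => ⟨i, h.trans hi, hi', e⟩

theorem ev_mem {k : ℕ} {w : List ℕ} (h : ∀ x ∈ w, k ≤ x ∧ x < T.n) : ev γ w ∈ T.gsub γ k :=
  Subgroup.list_prod_mem _ fun x hx => by
    obtain ⟨i, hi, rfl⟩ := List.mem_map.1 hx
    exact gen_mem (h i hi).1 (h i hi).2

theorem ok_spec (h : T.okB = true) :
    (∀ k < T.n, ∀ x ∈ T.pw k, k < x ∧ x < T.n) ∧
      ∀ k < T.n, ∀ j < k, ∀ x ∈ T.cj j k, k ≤ x ∧ x < T.n := by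
  simp only [okB, List.all_eq_true, List.mem_range, Bool.and_eq_true, decide_eq_true_eq] at h
  exact ⟨fun k hk x hx => (h k hk).1 x hx, fun k hk j hj x hx => (h k hk).2 j hj x hx⟩

theorem card_step [Finite P] (hok : T.okB = true) (hH : T.Holds γ) (hp : 0 < T.p) {k : ℕ} (hk : k < T.n) :
    Nat.card (T.gsub γ k) ≤ T.p * Nat.card (T.gsub γ (k + 1)) := by
  set N := T.gsub γ (k + 1)
  have hconj : ∀ x ∈ N, (γ k)⁻¹ * x * γ k ∈ N := by
    intro x hx
    have : N ≤ N.comap (MulAut.conj (γ k)⁻¹).toMonoidHom := by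
      refine (Subgroup.closure_le _).2 ?_
      rintro x ⟨j, hj, hj', rfl⟩
      simp only [SetLike.mem_coe, Subgroup.mem_comap, MulEquiv.coe_toMonoidHom, MulAut.conj_apply,
        inv_inv]
      have e := hH (.cj k j) (by simp [isRule, show k < j by omega, hj'])
      simp only [lhs, rhs, ev_cons, ev_nil, mul_one] at e
      rw [mul_assoc, e, inv_mul_cancel_left]
      exact ev_mem fun x hx => ⟨hj.trans ((ok_spec hok).2 j hj' k (by omega) x hx).1,
        ((ok_spec hok).2 j hj' k (by omega) x hx).2⟩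
    simpa using this hx
  have hpow : ∀ (e : ℕ), ∀ x ∈ N, (γ k ^ e)⁻¹ * x * γ k ^ e ∈ N := by
    intro e
    induction e with
    | zero => intro x hx; simpa using hx
    | succ e ih =>
      intro x hx
      rw [pow_succ, mul_inv_rev, show (γ k)⁻¹ * (γ k ^ e)⁻¹ * x * (γ k ^ e * γ k) =
        (γ k)⁻¹ * ((γ k ^ e)⁻¹ * x * γ k ^ e) * γ k by group]
      exact hconj _ (ih x hx)
  have hgp : γ k ^ T.p ∈ N := by
    have e := hH (.pw k) (by simp [isRule, hk])
    simp only [lhs, rhs, ev_replicate] at e
    rw [e]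
    exact ev_mem fun y hy => ⟨((ok_spec hok).1 k hk y hy).1, ((ok_spec hok).1 k hk y hy).2⟩
  have hmul : ∀ e : ℕ, γ k ^ (T.p * e) ∈ N := fun e => by rw [pow_mul]; exact pow_mem hgp e
  have hle : ∀ x ∈ T.gsub γ k, ∃ e : ℕ, ∃ h ∈ N, x = γ k ^ e * h := by
    intro x hx
    induction hx using Subgroup.closure_induction with
    | mem x hx =>
      obtain ⟨i, hi, hi', rfl⟩ := hx
      rcases Nat.eq_or_lt_of_le hi with rfl | hlt
      · exact ⟨1, 1, one_mem _, by simp⟩
      · exact ⟨0, γ i, gen_mem hlt hi', by simp⟩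
    | one => exact ⟨0, 1, one_mem _, by simp⟩
    | mul x y _ _ ihx ihy =>
      obtain ⟨a, h, hh, rfl⟩ := ihx
      obtain ⟨b, h', hh', rfl⟩ := ihy
      refine ⟨a + b, _, mul_mem (hpow b h hh) hh', ?_⟩
      rw [pow_add]; group
    | inv x _ ih =>
      obtain ⟨a, h, hh, rfl⟩ := ih
      obtain ⟨q, hq⟩ : ∃ q, q = (T.p - 1) * a := ⟨_, rfl⟩
      have e1 : γ k ^ (a + q) ∈ N := by
        have := hmul a
        have e : a + q = T.p * a := by
          rw [hq, Nat.sub_mul, one_mul]
          have : a ≤ T.p * a := Nat.le_mul_of_pos_left _ hp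
          omega
        rwa [e]
      refine ⟨q, (γ k ^ q)⁻¹ * h⁻¹ * γ k ^ q * (γ k ^ (a + q))⁻¹,
        mul_mem (hpow q _ (inv_mem hh)) (inv_mem e1), ?_⟩
      rw [show a + q = q + a from add_comm a q, pow_add, mul_inv_rev]
      group
  let g : Fin T.p × ↥N → ↥(T.gsub γ k) := fun z =>
    ⟨γ k ^ z.1.val * z.2, mul_mem (pow_mem (gen_mem le_rfl hk) _) (gsub_anti (Nat.le_succ k) z.2.2)⟩
  have hg : Function.Surjective g := by
    rintro ⟨x, hx⟩
    obtain ⟨e, h, hh, rfl⟩ := hle x hx
    refine ⟨(⟨e % T.p, Nat.mod_lt _ hp⟩, ⟨γ k ^ (T.p * (e / T.p)) * h, mul_mem (hmul _) hh⟩), ?_⟩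
    refine Subtype.ext ?_
    show γ k ^ (e % T.p) * (γ k ^ (T.p * (e / T.p)) * h) = γ k ^ e * h
    rw [← mul_assoc, ← pow_add, Nat.mod_add_div]
  have := Nat.card_le_card_of_surjective g hg
  rwa [Nat.card_prod, Nat.card_eq_fintype_card (α := Fin T.p), Fintype.card_fin] at this

theorem card_le [Finite P] (hok : T.okB = true) (hH : T.Holds γ) (hp : 0 < T.p) :
    Nat.card (T.gsub γ 0) ≤ T.p ^ T.n := by
  have key : ∀ d k, k + d = T.n → Nat.card (T.gsub γ k) ≤ T.p ^ d := by
    intro d
    induction d with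
    | zero =>
      intro k hk
      have : T.gsub γ k = ⊥ := by
        rw [gsub, Subgroup.closure_eq_bot_iff]
        rintro x ⟨i, hi, hi', -⟩
        omega
      rw [this, Subgroup.card_bot, pow_zero]
    | succ d ih =>
      intro k hk
      calc Nat.card (T.gsub γ k) ≤ T.p * Nat.card (T.gsub γ (k + 1)) := card_step hok hH hp (by omega)
        _ ≤ T.p * T.p ^ d := Nat.mul_le_mul_left _ (ih (k + 1) (by omega))
        _ = _ := by rw [pow_succ]; ring
  exact key T.n 0 (by omega)

end Words

section Sem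

variable {Γ : Type*} [Group Γ]

/-- What the semantics needs. -/
structure Model (c : ℕ → Γ) (val : List ℕ → Γ) (nn : ℕ → Γ) : Prop where
  ok : T.okB = true
  val_nil : val [] = 1
  val_add : ∀ a b, val (addV a b) = val a * val b
  val_mul : ∀ m a, val (mulV m a) = val a ^ m
  val_pow : ∀ a, val a ^ T.p = 1
  val_zero : ∀ a : List ℕ, (∀ x ∈ a, x % T.p = 0) → val a = 1
  central : ∀ a g, val a * g = g * val a
  rule : ∀ r, T.isRule r = true → ev c (T.lhs r) = val (oneV (T.var r)) * ev c (T.rhs r)
  phi : ∀ l < T.nmaps, ∀ k < T.n, T.img l k ≠ [] →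
    nn l * c k * (nn l)⁻¹ = val (oneV (T.mu l k)) * ev c (T.img l k)

variable {T} {c : ℕ → Γ} {val : List ℕ → Γ} {nn : ℕ → Γ} (hM : T.Model c val nn) (hp : 0 < T.p)
include hM

theorem swap {x y : Γ} {a : List ℕ} : x * (val a * y) = val a * (x * y) := by
  rw [← mul_assoc, ← hM.central, mul_assoc]

include hp in
theorem val_inv (a : List ℕ) : val (mulV (T.p - 1) a) = (val a)⁻¹ := by
  rw [hM.val_mul]
  refine eq_inv_of_mul_eq_one_left ?_
  rw [← pow_succ, Nat.sub_add_cancel hp, hM.val_pow]

theorem foldT_spec {fuel : ℕ} (ih : ∀ k w, k < T.n → (∀ x ∈ w, x < T.n) →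
      c k * ev c w = val (T.insT fuel k w).1 * ev c (T.insT fuel k w).2 ∧
        ∀ x ∈ (T.insT fuel k w).2, x < T.n)
    (L : List ℕ) (hL : ∀ x ∈ L, x < T.n) (m : List ℕ) (w : List ℕ) (hw : ∀ x ∈ w, x < T.n) :
    val m * (ev c L * ev c w) = val (L.foldr (step (T.insT fuel)) (m, w)).1 *
        ev c (L.foldr (step (T.insT fuel)) (m, w)).2 ∧
      ∀ x ∈ (L.foldr (step (T.insT fuel)) (m, w)).2, x < T.n := by
  induction L with
  | nil => exact ⟨by simp [ev_nil], hw⟩
  | cons a L ihL =>
    obtain ⟨h1, h2⟩ := ihL fun x hx => hL x (List.mem_cons_of_mem _ hx)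
    obtain ⟨h3, h4⟩ := ih a _ (hL a List.mem_cons_self) h2
    refine ⟨?_, h4⟩
    rw [List.foldr_cons, step, hM.val_add, ev_cons, mul_assoc, ← swap hM, h1, swap hM, h3, mul_assoc]

include hp in
theorem insT_spec : ∀ (fuel k : ℕ) (w : List ℕ), k < T.n → (∀ x ∈ w, x < T.n) →
    c k * ev c w = val (T.insT fuel k w).1 * ev c (T.insT fuel k w).2 ∧
      ∀ x ∈ (T.insT fuel k w).2, x < T.n := by
  intro fuel
  induction fuel with
  | zero =>
    intro k w hk hw
    exact ⟨by simp [insT, hM.val_nil, ev_cons], List.forall_mem_cons.2 ⟨hk, hw⟩⟩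
  | succ fuel ih =>
    intro k w hk hw
    cases w with
    | nil => exact ⟨by simp [insT, hM.val_nil, ev], by simp [insT, hk]⟩
    | cons j w =>
      obtain ⟨hj, hw'⟩ := List.forall_mem_cons.1 hw
      simp only [insT]
      split_ifs with h1 h2 h3
      · exact ⟨by simp [hM.val_nil, ev_cons],
          List.forall_mem_cons.2 ⟨hk, List.forall_mem_cons.2 ⟨hj, hw'⟩⟩⟩
      · obtain ⟨e, e'⟩ := foldT_spec hM ih (T.pw k) (fun x hx => ((ok_spec hM.ok).1 k hk x hx).2)
          (oneV (T.var (.pw k))) ((j :: w).drop (T.p - 1))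
          (fun x hx => hw x (List.drop_subset _ _ hx))
        refine ⟨?_, e'⟩
        have er := hM.rule (.pw k) (by simp [isRule, hk])
        simp only [lhs, rhs, ev_replicate] at er
        rw [← e, ← mul_assoc, ← er]
        conv_lhs => rw [← List.take_append_drop (T.p - 1) (j :: w), h3, ev_append, ev_replicate,
          ← mul_assoc, ← pow_succ', Nat.sub_add_cancel hp]
      · exact ⟨by simp [hM.val_nil, ev_cons],
          List.forall_mem_cons.2 ⟨hk, List.forall_mem_cons.2 ⟨hj, hw'⟩⟩⟩
      · have hjk : j < k := by omega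
        obtain ⟨e, e'⟩ := foldT_spec hM ih (T.cj j k) (fun x hx => ((ok_spec hM.ok).2 k hk j hjk x hx).2)
          (oneV (T.var (.cj j k))) w hw'
        refine ⟨?_, List.forall_mem_cons.2 ⟨hj, e'⟩⟩
        have er := hM.rule (.cj j k) (by simp [isRule, hjk, hk])
        simp only [lhs, rhs, ev_cons, ev_nil, mul_one] at er
        rw [ev_cons, ev_cons, ← swap hM, ← e, swap hM, ← mul_assoc (c k), er, mul_assoc, mul_assoc]

include hp in
theorem collT_spec (w : List ℕ) (hw : ∀ x ∈ w, x < T.n) :
    ev c w = val (T.collT w).1 * ev c (T.collT w).2 := by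
  have h := (foldT_spec hM (insT_spec hM hp 100) w hw [] [] (by simp)).1
  rwa [hM.val_nil, one_mul, ev_nil, mul_one] at h

theorem phi_word {l : ℕ} {L : List ℕ} (h : T.inDom l L = true) :
    nn l * ev c L * (nn l)⁻¹ = val (T.phiW l L).1 * ev c (T.phiW l L).2 := by
  simp only [inDom, Bool.and_eq_true, decide_eq_true_eq, List.all_eq_true] at h
  obtain ⟨hl, h⟩ := h
  induction L with
  | nil => simp [phiW, sumV, hM.val_nil, ev_nil]
  | cons a L ih =>
    obtain ⟨⟨ha, hne⟩, hL⟩ := List.forall_mem_cons.1 h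
    have e := hM.phi l hl a ha (by simpa using hne)
    calc nn l * ev c (a :: L) * (nn l)⁻¹
        = nn l * c a * (nn l)⁻¹ * (nn l * ev c L * (nn l)⁻¹) := by rw [ev_cons]; group
      _ = val (T.phiW l (a :: L)).1 * ev c (T.phiW l (a :: L)).2 := by
          rw [e, ih hL]
          simp only [phiW, sumV, List.map_cons, List.foldr_cons, List.flatMap_cons, hM.val_add, ev_append]
          rw [mul_assoc, swap hM, mul_assoc]

include hp in
theorem side_spec (e : Lab) (h : (T.side e).1 = true) :
    ev c (T.side e).2.2.1 = val (T.side e).2.1 * ev c (T.side e).2.2.2 := by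
  cases e with
  | red r u v =>
    simp only [side] at h ⊢
    rw [ev_append, ev_append, ev_append, ev_append, hM.rule r h, mul_assoc, swap hM]
  | fus r l =>
    simp only [side, Bool.and_eq_true] at h
    obtain ⟨⟨hr, h1⟩, h2⟩ := h
    have e1 := phi_word hM h1
    rw [hM.rule r hr, swap hM, mul_assoc, phi_word hM h2, ← mul_assoc] at e1
    simp only [side]
    rw [hM.val_add, hM.val_add, val_inv hM hp]
    calc ev c (T.phiW l (T.lhs r)).2
        = (val (T.phiW l (T.lhs r)).1)⁻¹ * (val (T.phiW l (T.lhs r)).1 * ev c (T.phiW l (T.lhs r)).2) := by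
          rw [inv_mul_cancel_left]
      _ = _ := by
          rw [← e1, ← val_inv hM hp, ← mul_assoc, hM.central]

include hp in
theorem eqn_spec (e : Lab) (h : (T.eqn e).1 = true) : val (T.eqn e).2 = 1 := by
  simp only [eqn, Bool.and_eq_true, decide_eq_true_eq, below, List.all_eq_true] at h
  obtain ⟨⟨⟨h0, hl⟩, hr⟩, heq⟩ := h
  have e0 := side_spec hM hp e h0
  rw [collT_spec hM hp _ hl, collT_spec hM hp _ hr, heq, ← mul_assoc, ← hM.val_add] at e0
  simp only [eqn]
  rw [hM.val_add, val_inv hM hp, mul_right_cancel e0, mul_inv_cancel]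

include hp in
theorem derived_spec {eqs : List Lab} {t : List ℕ} {sel : List (ℕ × ℕ)}
    (h : T.derived eqs t sel = true) : val t = 1 := by
  simp only [derived, Bool.and_eq_true, List.all_eq_true, decide_eq_true_eq] at h
  obtain ⟨h1, h2⟩ := h
  have h3 := hM.val_zero _ h2
  rw [hM.val_add] at h3
  suffices e : val (sumV (sel.map fun i => mulV i.2 (T.eqn (eqs.getD i.1 (.red (.pw 0) [] []))).2)) = 1 by
    rwa [e, mul_one] at h3
  clear h2 h3
  induction sel with
  | nil => exact hM.val_nil
  | cons i sel ih =>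
    obtain ⟨hi, hs⟩ := List.forall_mem_cons.1 h1
    simp only [sumV, List.map_cons, List.foldr_cons] at ih ⊢
    rw [hM.val_add, hM.val_mul, eqn_spec hM hp _ hi, one_pow, one_mul]
    exact ih hs

theorem ev_adj (L : List ℕ) :
    ev (fun k => c k * val (T.adj k)) L = val (sumV (L.map T.adj)) * ev c L := by
  induction L with
  | nil => simp [sumV, ev_nil, hM.val_nil]
  | cons a L ih =>
    simp only [sumV, List.map_cons, List.foldr_cons, ev_cons, hM.val_add] at ih ⊢
    rw [ih, ← hM.central (T.adj a) (c a), mul_assoc, swap hM, ← mul_assoc]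

include hp in
/-- With all targets derived the adjusted lifts satisfy the relations. -/
theorem holds_adjusted (h : ∀ r, T.isRule r = true → val (T.tgt r) = 1) :
    T.Holds fun k => c k * val (T.adj k) := by
  intro r hr
  have ht := h r hr
  cases r with
  | pw k =>
    have e0 := hM.rule (.pw k) hr
    simp only [lhs, rhs, tgt, ev_replicate] at e0 ht ⊢
    rw [hM.val_add, val_inv hM hp, mul_inv_eq_one] at ht
    rw [ev_adj hM, ← ht, ← e0, (show Commute (c k) (val (T.adj k)) from (hM.central _ _).symm).mul_pow,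
      hM.val_pow, mul_one]
  | cj j k =>
    have e0 := hM.rule (.cj j k) hr
    simp only [lhs, rhs, tgt, ev_cons, ev_nil, mul_one] at e0 ht ⊢
    rw [hM.val_add, hM.val_add, val_inv hM hp, ← mul_assoc, mul_inv_eq_one] at ht
    rw [ev_adj hM, ← ht]
    calc c k * val (T.adj k) * (c j * val (T.adj j))
        = val (T.adj j) * (val (T.adj k) * (c k * c j)) := by
          rw [← hM.central (T.adj k) (c k), ← hM.central (T.adj j) (c j), mul_assoc, swap hM, swap hM]
      _ = _ := by
          rw [e0, ← mul_assoc (val (T.adj k)), hM.central (T.adj k) (val (oneV (T.var (Rule.cj j k)))),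
            mul_assoc (c j) (val (T.adj j)),
            swap hM (x := c j) (y := val (oneV (T.var (Rule.cj j k))) * val (T.adj k) * ev c (T.cj j k))
              (a := T.adj j)]
          simp only [mul_assoc]
          rw [swap hM (x := c j) (a := oneV (T.var (Rule.cj j k))), swap hM (x := c j) (a := T.adj k)]

end Sem

end PData

/-- The product of the powers of elements given by an exponent vector, from a position on. -/
def vprod {Γ : Type*} [Group Γ] (t : ℕ → Γ) : ℕ → List ℕ → Γ
  | _, [] => 1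
  | i, x :: xs => t i ^ x * vprod t (i + 1) xs

section Vprod

variable {Γ : Type*} [Group Γ] {t : ℕ → Γ}

theorem vprod_central (hc : ∀ i g, t i * g = g * t i) : ∀ (a : List ℕ) (i : ℕ) (g : Γ),
    vprod t i a * g = g * vprod t i a
  | [], i, g => by simp [vprod]
  | x :: xs, i, g => by
    have h : Commute (t i) g := hc i g
    rw [vprod, mul_assoc, vprod_central hc xs, ← mul_assoc, (h.pow_left x).eq, mul_assoc]

theorem vprod_add (hc : ∀ i g, t i * g = g * t i) : ∀ (a b : List ℕ) (i : ℕ),
    vprod t i (addV a b) = vprod t i a * vprod t i b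
  | [], b, i => by simp [addV, vprod]
  | a :: as, [], i => by simp [addV, vprod]
  | a :: as, b :: bs, i => by
    simp only [addV, vprod, pow_add, vprod_add hc as bs]
    rw [mul_assoc, mul_assoc (t i ^ a), ← mul_assoc (vprod t (i + 1) as),
      vprod_central hc as (i + 1) (t i ^ b), mul_assoc]

theorem vprod_mul (hc : ∀ i g, t i * g = g * t i) (m : ℕ) : ∀ (a : List ℕ) (i : ℕ),
    vprod t i (mulV m a) = vprod t i a ^ m
  | [], i => by simp [mulV, vprod]
  | x :: xs, i => by
    have ih := vprod_mul hc m xs (i + 1)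
    simp only [mulV, List.map_cons, vprod] at ih ⊢
    rw [ih, (show Commute (t i ^ x) (vprod t (i + 1) xs) from
      (vprod_central hc xs (i + 1) (t i ^ x)).symm).mul_pow, ← pow_mul, mul_comm x m]

theorem vprod_zero {p : ℕ} (h : ∀ i, t i ^ p = 1) : ∀ (a : List ℕ) (i : ℕ),
    (∀ x ∈ a, x % p = 0) → vprod t i a = 1
  | [], i, _ => rfl
  | x :: xs, i, hx => by
    obtain ⟨h1, h2⟩ := List.forall_mem_cons.1 hx
    rw [vprod, vprod_zero h xs _ h2, mul_one, ← Nat.mul_div_cancel' (Nat.dvd_of_mod_eq_zero h1), pow_mul,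
      h, one_pow]

theorem vprod_one : ∀ (j i : ℕ), vprod t i (oneV j) = t (i + j)
  | 0, i => by simp [oneV, vprod]
  | j + 1, i => by
    have ih := vprod_one j (i + 1)
    simp only [oneV, List.replicate_succ, List.cons_append, vprod] at ih ⊢
    rw [pow_zero, one_mul, ih]
    congr 1
    omega

end Vprod

/-- The criterion: a central extension with kernel of exponent `p` splits over the subgroup. -/
theorem local_of_tails {Γ G : Type*} [Group Γ] [Finite Γ] [Group G] (T : PData) (σ : Γ →* G)
    (hσ : Function.Surjective σ) (hz : σ.ker ≤ Subgroup.center Γ) (hp : 0 < T.p)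
    (hexp : ∀ z ∈ σ.ker, z ^ T.p = 1) (x : ℕ → G) (g : ℕ → G) (hok : T.okB = true)
    (hx : T.Holds x)
    (hg : ∀ l < T.nmaps, ∀ k < T.n, T.img l k ≠ [] → g l * x k * (g l)⁻¹ = PData.ev x (T.img l k))
    (decode : ℕ → Rule) (hdec : ∀ r, T.isRule r = true → decode (T.var r) = r)
    (eqs : List Lab) (sel : Rule → List (ℕ × ℕ))
    (hsel : ∀ r, T.isRule r = true → T.derived eqs (T.tgt r) (sel r) = true)
    (hcard : T.p ^ T.n ≤ Nat.card (T.gsub x 0)) :
    ⁅(T.gsub x 0).comap σ, (T.gsub x 0).comap σ⁆ ⊓ σ.ker = ⊥ := by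
  classical
  choose lift hlift using hσ
  let c : ℕ → Γ := fun k => lift (x k)
  let n : ℕ → Γ := fun l => lift (g l)
  have hevσ : ∀ L : List ℕ, σ (PData.ev c L) = PData.ev x L := fun L => by
    rw [PData.map_ev]
    simp only [c, hlift]
  let base := T.n + T.n * (T.n - 1) / 2
  let raw : ℕ → Γ := fun i =>
    if i < base then
      PData.ev c (T.lhs (decode i)) * (PData.ev c (T.rhs (decode i)))⁻¹
    else n ((i - base) / T.n) * c ((i - base) % T.n) * (n ((i - base) / T.n))⁻¹ *
      (PData.ev c (T.img ((i - base) / T.n) ((i - base) % T.n)))⁻¹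
  let t : ℕ → Γ := fun i => if raw i ∈ σ.ker then raw i else 1
  have htk : ∀ i, t i ∈ σ.ker := fun i => by
    show (if raw i ∈ σ.ker then raw i else 1) ∈ σ.ker
    split
    · assumption
    · exact one_mem _
  have hc : ∀ i y, t i * y = y * t i := fun i y => (Subgroup.mem_center_iff.1 (hz (htk i)) y).symm
  have htp : ∀ i, t i ^ T.p = 1 := fun i => hexp _ (htk i)
  have hvk : ∀ (a : List ℕ) (i : ℕ), vprod t i a ∈ σ.ker := by
    intro a
    induction a with
    | nil => intro i; exact one_mem _
    | cons y ys ih => intro i; exact mul_mem (pow_mem (htk i) y) (ih (i + 1))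
  let val : List ℕ → Γ := vprod t 0
  have hone : ∀ i, raw i ∈ σ.ker → val (oneV i) = raw i := fun i h => by
    show vprod t 0 (oneV i) = raw i
    rw [vprod_one, Nat.zero_add]
    exact if_pos h
  have hrule : ∀ r, T.isRule r = true → T.var r < base := by
    intro r hr
    cases r with
    | pw k =>
      simp only [PData.isRule, decide_eq_true_eq] at hr
      show k < base
      omega
    | cj j k =>
      simp only [PData.isRule, Bool.and_eq_true, decide_eq_true_eq] at hr
      show T.n + (k * (k - 1) / 2 + j) < T.n + T.n * (T.n - 1) / 2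
      have h1 : (k + 1) * k / 2 ≤ T.n * (T.n - 1) / 2 :=
        Nat.div_le_div_right (Nat.mul_le_mul (by omega) (by omega))
      have h2 : (k + 1) * k / 2 = k * (k - 1) / 2 + k := by
        obtain ⟨i, rfl⟩ : ∃ i, k = i + 1 := ⟨k - 1, by omega⟩
        rw [Nat.add_sub_cancel, show (i + 1 + 1) * (i + 1) = (i + 1) * i + (i + 1) * 2 by ring,
          Nat.add_mul_div_right _ _ (by norm_num)]
      omega
  have hM : T.Model c val n := by
    refine ⟨hok, rfl, fun a b => vprod_add hc a b 0, fun m a => vprod_mul hc m a 0,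
      fun a => hexp _ (hvk a 0), fun a ha => vprod_zero htp a 0 ha,
      fun a y => vprod_central hc a 0 y, ?_, ?_⟩
    · intro r hr
      have e : raw (T.var r) = PData.ev c (T.lhs r) * (PData.ev c (T.rhs r))⁻¹ := by
        simp only [raw]
        rw [if_pos (hrule r hr), hdec r hr]
      have hmem : raw (T.var r) ∈ σ.ker := by
        rw [MonoidHom.mem_ker, e, map_mul, map_inv, hevσ, hevσ, hx r hr, mul_inv_cancel]
      rw [hone _ hmem, e, inv_mul_cancel_right]
    · intro l hl k hk hne
      have hmu : T.mu l k = base + (l * T.n + k) := rfl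
      have e : raw (T.mu l k) = n l * c k * (n l)⁻¹ * (PData.ev c (T.img l k))⁻¹ := by
        simp only [raw]
        rw [if_neg (by omega), hmu, Nat.add_sub_cancel_left, Nat.mul_comm l T.n,
          Nat.mul_add_div (show T.n > 0 by omega), Nat.div_eq_of_lt hk, Nat.add_zero, Nat.mul_add_mod,
          Nat.mod_eq_of_lt hk]
      have hmem : raw (T.mu l k) ∈ σ.ker := by
        rw [MonoidHom.mem_ker, e, map_mul, map_mul, map_mul, map_inv, map_inv, hevσ, hlift, hlift,
          hg l hl k hk hne, mul_inv_cancel]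
      rw [hone _ hmem, e, inv_mul_cancel_right]
  have hR := PData.holds_adjusted hM hp fun r hr => PData.derived_spec hM hp (hsel r hr)
  set c' : ℕ → Γ := fun k => c k * val (T.adj k)
  set K := T.gsub c' 0
  have hσc : ∀ k, σ (c' k) = x k := fun k => by
    show σ (c k * val (T.adj k)) = x k
    rw [map_mul, hlift, MonoidHom.mem_ker.1 (hvk _ 0), mul_one]
  have hmap : K.map σ = T.gsub x 0 := by
    show (T.gsub c' 0).map σ = T.gsub x 0
    rw [PData.gsub, PData.gsub, MonoidHom.map_closure]
    congr 1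
    ext y
    constructor
    · rintro ⟨_, ⟨i, hi, hi', rfl⟩, rfl⟩
      exact ⟨i, hi, hi', hσc i⟩
    · rintro ⟨i, hi, hi', rfl⟩
      exact ⟨c' i, ⟨i, hi, hi', rfl⟩, hσc i⟩
  have hKcard : Nat.card K ≤ Nat.card (K.map σ) := by
    rw [hmap]
    exact (PData.card_le hok hR hp).trans hcard
  have hK0 : K ⊓ σ.ker = ⊥ := by
    have hbij : Function.Bijective (σ.subgroupMap K) :=
      (Nat.bijective_iff_surjective_and_card _).2 ⟨σ.subgroupMap_surjective K, le_antisymm hKcard
        (Nat.card_le_card_of_surjective _ (σ.subgroupMap_surjective K))⟩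
    refine eq_bot_iff.2 ?_
    rintro y ⟨hy, hyk⟩
    have e : σ.subgroupMap K ⟨y, hy⟩ = σ.subgroupMap K 1 := by
      rw [map_one]
      exact Subtype.ext hyk
    exact Subgroup.mem_bot.2 (congrArg Subtype.val (hbij.1 e))
  refine commutator_inf_ker_eq_bot_of_complement σ hz _ K hK0 ?_
  rw [hmap]
  exact Subgroup.map_comap_le _ _

end Cfsg.Agent.Schur.TailsMod
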