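import Cfsg.Agent.Lib.Schur.Basic

/-!
# Central extensions of two-generator groups and bilinear extensions

* `commutator_le_zpowers`: if the image is generated by `σ A, σ B` and `⁅B, A⁆`'s powers are stable
  under conjugation by `A, B` then the derived subgroup is `⟨⁅B, A⁆⟩`
* `inverted_commutator`: the case `B` inverts `A` modulo the kernel
* `BilExt β`: the central extension of an abelian group by a biadditive cocycle `β`
-/

set_option autoImplicit false

namespace Cfsg.Agent.Schur

open Subgroup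
open scoped commutatorElement

universe u v

variable {Γ : Type u} {Q : Type v} [Group Γ] [Group Q] [Finite Γ] {σ : Γ →* Q}

theorem commutator_le_zpowers (hz : σ.ker ≤ center Γ) {A B : Γ}
    (hgen : Subgroup.closure ({σ A, σ B} : Set Q) = ⊤)
    (hA : A * ⁅B, A⁆ * A⁻¹ ∈ zpowers ⁅B, A⁆) (hB : B * ⁅B, A⁆ * B⁻¹ ∈ zpowers ⁅B, A⁆) :
    _root_.commutator Γ ≤ zpowers ⁅B, A⁆ := by
  set N := zpowers ⁅B, A⁆ with hN
  have hnorm : ∀ x : Γ, x * ⁅B, A⁆ * x⁻¹ ∈ N → x ∈ normalizer (N : Set Γ) := by
    intro x hx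
    have hle : N.map (MulAut.conj x).toMonoidHom ≤ N := by
      rw [hN, MonoidHom.map_zpowers, zpowers_le]
      exact hx
    have he : N.map (MulAut.conj x).toMonoidHom = N :=
      eq_of_le_of_card_ge hle (card_map_of_injective (MulAut.conj x).injective).ge
    rw [mem_normalizer_iff]
    intro y
    constructor
    · intro hy
      exact hle ⟨y, hy, rfl⟩
    · intro hy
      rw [← he] at hy
      obtain ⟨z, hz', hzy⟩ := hy
      simpa using (mul_left_cancel (mul_right_cancel hzy)) ▸ hz'
  have htop : Subgroup.closure ({A, B} : Set Γ) ⊔ σ.ker = ⊤ := by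
    refine top_unique fun x _ => ?_
    have h1 : σ x ∈ (Subgroup.closure ({A, B} : Set Γ)).map σ := by
      rw [MonoidHom.map_closure, Set.image_insert_eq, Set.image_singleton, hgen]
      exact mem_top _
    obtain ⟨y, hy, hyx⟩ := h1
    rw [← mul_inv_cancel_left y x]
    exact mul_mem (mem_sup_left hy) (mem_sup_right (by simp [MonoidHom.mem_ker, hyx]))
  have hNn : N.Normal := by
    refine normalizer_eq_top_iff.mp (top_unique (htop.ge.trans (sup_le ?_ (hz.trans ?_))))
    · rw [closure_le]
      rintro x (rfl | rfl)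
      exacts [hnorm _ hA, hnorm _ hB]
    · exact fun z hz' => hnorm z (by
        rw [← mem_center_iff.mp hz', mul_inv_cancel_right]
        exact mem_zpowers _)
  have hcenter : (center (Γ ⧸ N)).comap (QuotientGroup.mk' N) = ⊤ := by
    refine top_unique (htop.ge.trans (sup_le ?_ (hz.trans fun z hz' => mem_center_iff.mpr fun y => ?_)))
    · rw [closure_le]
      intro x hx
      rw [SetLike.mem_coe, mem_comap, mem_center_iff]
      intro y
      obtain ⟨y, rfl⟩ := QuotientGroup.mk'_surjective N y
      have hy : y ∈ (centralizer ({QuotientGroup.mk' N x} : Set (Γ ⧸ N))).comap (QuotientGroup.mk' N) := by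
        refine (htop.ge.trans (sup_le ?_ ?_)) (mem_top y)
        · rw [closure_le]
          intro w hw
          rw [SetLike.mem_coe, mem_comap, mem_centralizer_iff]
          rintro _ rfl
          have hBA : QuotientGroup.mk' N B * QuotientGroup.mk' N A =
              QuotientGroup.mk' N A * QuotientGroup.mk' N B := by
            refine commutatorElement_eq_one_iff_mul_comm.mp ?_
            rw [← map_commutatorElement]
            exact (QuotientGroup.eq_one_iff _).mpr (mem_zpowers _)
          rcases hx with rfl | rfl <;> rcases hw with rfl | rfl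
          exacts [rfl, hBA.symm, hBA, rfl]
        · intro z hz'
          rw [mem_comap, mem_centralizer_iff]
          rintro _ rfl
          rw [← map_mul, ← map_mul, mem_center_iff.mp (hz hz') x]
      exact (mem_centralizer_iff.mp hy _ rfl).symm
    · obtain ⟨y, rfl⟩ := QuotientGroup.mk'_surjective N y
      rw [← map_mul, ← map_mul, mem_center_iff.mp hz' y]
  rw [commutator_eq_closure, closure_le]
  rintro _ ⟨a, b, rfl⟩
  refine (QuotientGroup.eq_one_iff _).mp ?_
  show QuotientGroup.mk' N ⁅a, b⁆ = 1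
  rw [map_commutatorElement, commutatorElement_eq_one_iff_mul_comm]
  have hb : b ∈ (center (Γ ⧸ N)).comap (QuotientGroup.mk' N) := hcenter ▸ mem_top b
  exact mem_center_iff.mp hb _

omit [Finite Γ] in
/-- If `σ B` inverts `σ A`, then `B A^k B⁻¹ = ⁅B,A⁆^k A^k`, `⁅B,A⁆` commutes with `A` and is
inverted by `B`. -/
theorem inverted_commutator (hz : σ.ker ≤ center Γ) {A B : Γ}
    (h : σ B * σ A * (σ B)⁻¹ = (σ A)⁻¹) :
    A * ⁅B, A⁆ * A⁻¹ = ⁅B, A⁆ ∧ B * ⁅B, A⁆ * B⁻¹ = ⁅B, A⁆⁻¹ ∧
      (∀ k : ℕ, B * A ^ k * B⁻¹ = ⁅B, A⁆ ^ k * A ^ k) ∧ σ ⁅B, A⁆ = (σ A ^ 2)⁻¹ := by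
  obtain ⟨z, hzdef⟩ : ∃ z, z = B * A * B⁻¹ * A := ⟨_, rfl⟩
  have hzc : z ∈ center Γ := hz (by rw [MonoidHom.mem_ker, hzdef, map_mul, map_mul, map_mul, map_inv, h,
    inv_mul_cancel])
  have hzc' := fun g : Γ => mem_center_iff.mp hzc g
  have hcA : ⁅B, A⁆ = z * (A ^ 2)⁻¹ := by rw [hzdef, commutatorElement_def, pow_two]; group
  have hAc : A * ⁅B, A⁆ = ⁅B, A⁆ * A := by
    rw [hcA, ← mul_assoc, hzc' A, mul_assoc, mul_assoc]
    exact congrArg (z * ·) ((Commute.refl A).pow_right 2).inv_right.eq
  refine ⟨by rw [hAc, mul_inv_cancel_right], ?_, ?_, ?_⟩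
  · have hBA : B * A * B⁻¹ = z * A⁻¹ := by rw [hzdef, mul_inv_cancel_right]
    have hcm : Commute z A⁻¹ := (hzc' A⁻¹).symm
    calc B * ⁅B, A⁆ * B⁻¹ = B * z * B⁻¹ * ((B * A * B⁻¹) ^ 2)⁻¹ := by
          rw [hcA, conj_pow, mul_inv_rev, mul_inv_rev, inv_inv]; group
      _ = z * (z ^ 2 * (A⁻¹) ^ 2)⁻¹ := by rw [hzc' B, mul_inv_cancel_right, hBA, hcm.mul_pow]
      _ = (A⁻¹ ^ 2)⁻¹ * z⁻¹ := by
          rw [mul_inv_rev, ← mul_assoc, ← hzc', mul_assoc]
          congr 1
          group
      _ = ⁅B, A⁆⁻¹ := by rw [hcA]; group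
  · intro k
    have hbase : B * A * B⁻¹ = ⁅B, A⁆ * A := by rw [commutatorElement_def]; group
    have hcm : Commute ⁅B, A⁆ A := hAc.symm
    rw [← conj_pow, hbase, hcm.mul_pow]
  · rw [map_commutatorElement, commutatorElement_def, h, pow_two, mul_inv_rev]

/-! ### Bilinear extensions -/

/-- The central extension of an abelian group by a biadditive cocycle. -/
@[ext]
structure BilExt {V : Type*} {R : Type*} [AddCommGroup V] [AddCommGroup R] (β : V →+ V →+ R) where
  /-- base coordinate -/
  fst : V
  /-- central coordinate -/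
  snd : R

namespace BilExt

variable {V : Type*} {R : Type*} [AddCommGroup V] [AddCommGroup R] (β : V →+ V →+ R)

instance instMul : Mul (BilExt β) := ⟨fun x y => ⟨x.fst + y.fst, x.snd + y.snd + β x.fst y.fst⟩⟩
instance instOne : One (BilExt β) := ⟨⟨0, 0⟩⟩
instance instInv : Inv (BilExt β) := ⟨fun x => ⟨-x.fst, -x.snd + β x.fst x.fst⟩⟩

instance instGroup : Group (BilExt β) where
  mul_assoc x y z := BilExt.ext (add_assoc _ _ _) (by
    show x.snd + y.snd + β x.fst y.fst + z.snd + β (x.fst + y.fst) z.fst =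
      x.snd + (y.snd + z.snd + β y.fst z.fst) + β x.fst (y.fst + z.fst)
    simp only [map_add, AddMonoidHom.add_apply]
    abel)
  one_mul x := BilExt.ext (zero_add _) (by
    show 0 + x.snd + β 0 x.fst = x.snd
    simp)
  mul_one x := BilExt.ext (add_zero _) (by
    show x.snd + 0 + β x.fst 0 = x.snd
    simp)
  inv_mul_cancel x := BilExt.ext (neg_add_cancel _) (by
    show -x.snd + β x.fst x.fst + x.snd + β (-x.fst) x.fst = 0
    simp only [map_neg, AddMonoidHom.neg_apply]
    abel)

/-- The projection. -/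
def proj : BilExt β →* Multiplicative V where
  toFun x := Multiplicative.ofAdd x.fst
  map_one' := rfl
  map_mul' _ _ := rfl

instance instFinite [Finite V] [Finite R] : Finite (BilExt β) :=
  Finite.of_injective (fun x => (x.fst, x.snd)) fun x y h => by
    simp only [Prod.mk.injEq] at h
    exact BilExt.ext h.1 h.2

/-- The embedding of the kernel. -/
def inj : Multiplicative R →* BilExt β where
  toFun c := ⟨0, Multiplicative.toAdd c⟩
  map_one' := rfl
  map_mul' a b := BilExt.ext (add_zero _).symm (by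
    show Multiplicative.toAdd a + Multiplicative.toAdd b =
      Multiplicative.toAdd a + Multiplicative.toAdd b + β 0 0
    simp)

theorem inj_injective : Function.Injective (inj β) := fun a b h => by
  have := congrArg BilExt.snd h
  exact Multiplicative.toAdd.injective this

theorem range_inj : (inj β).range = (proj β).ker := by
  ext x
  constructor
  · rintro ⟨c, rfl⟩
    rfl
  · intro hx
    have : x.fst = 0 := Multiplicative.ofAdd.injective hx
    exact ⟨Multiplicative.ofAdd x.snd, BilExt.ext this.symm rfl⟩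

theorem commutator_fst_eq (v w : V) :
    ⁅(⟨v, 0⟩ : BilExt β), ⟨w, 0⟩⁆ = inj β (Multiplicative.ofAdd (β v w - β w v)) := by
  rw [commutatorElement_def]
  refine BilExt.ext ?_ ?_
  · show v + w + -v + -w = 0
    abel
  · show 0 + 0 + β v w + (-0 + β v v) + β (v + w) (-v) + (-0 + β w w) + β (v + w + -v) (-w) = β v w - β w v
    simp only [map_add, map_neg, AddMonoidHom.add_apply, AddMonoidHom.neg_apply]
    abel

/-- If `β v w - β w v` generates `R` then the bilinear extension is a stem extension. -/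
theorem isStemExtension (v w : V) (h : AddSubgroup.zmultiples (β v w - β w v) = ⊤) :
    Cfsg.IsStemExtension (proj β) ∧ Nonempty ((proj β).ker ≃* Multiplicative R) := by
  refine ⟨⟨fun v => ⟨⟨Multiplicative.toAdd v, 0⟩, rfl⟩, ?_, ?_⟩,
    ⟨((MonoidHom.ofInjective (inj_injective β)).trans (MulEquiv.subgroupCongr (range_inj β))).symm⟩⟩
  · rw [← range_inj]
    rintro _ ⟨c, rfl⟩
    rw [mem_center_iff]
    intro x
    refine BilExt.ext ?_ ?_
    · show x.fst + 0 = 0 + x.fst
      simp
    · show x.snd + Multiplicative.toAdd c + β x.fst 0 = Multiplicative.toAdd c + x.snd + β 0 x.fst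
      simp [add_comm]
  · rw [← range_inj]
    rintro _ ⟨c, rfl⟩
    obtain ⟨i, hi⟩ : Multiplicative.toAdd c ∈ AddSubgroup.zmultiples (β v w - β w v) := h ▸ AddSubgroup.mem_top _
    have hc : c = Multiplicative.ofAdd (β v w - β w v) ^ i := by
      apply Multiplicative.toAdd.injective
      rw [toAdd_zpow]
      exact hi.symm
    rw [hc, map_zpow, ← commutator_fst_eq]
    exact zpow_mem (commutator_mem_commutator (mem_top _) (mem_top _)) i

end BilExt

end Cfsg.Agent.Schur
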